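/-
Tools for showing that Schur multipliers are small: reduction to a subgroup of index prime to p (transfer), and the
commutator pairing of commuting elements in central extensions.
-/
import Mathlib
import Cfsg.Prelude.Def_KGroupFacts

set_option autoImplicit false

namespace Cfsg.Agent.Lib.Schur.Fusion

universe u v

open Subgroup
open scoped commutatorElement

/-- `z` central and in the derived group: `z ^ |Γ : H|` is in the derived group of `H`. -/
theorem pow_index_mem_commutator {Γ : Type u} [Group Γ] [Finite Γ] (H : Subgroup Γ) {z : Γ}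
    (hz : z ∈ center Γ) (hd : z ∈ commutator Γ) : z ^ H.index ∈ ⁅H, H⁆ := by
  have key : ∀ (k : ℕ) (g₀ : Γ), g₀⁻¹ * z ^ k * g₀ ∈ H → g₀⁻¹ * z ^ k * g₀ = z ^ k := by
    intro k g₀ _
    rw [mul_assoc, ← (mem_center_iff.1 (pow_mem hz k) g₀), inv_mul_cancel_left]
  have h1 := MonoidHom.transfer_eq_pow (ϕ := (Abelianization.of : H →* Abelianization H)) z key
  have h2 : MonoidHom.transfer (Abelianization.of : H →* Abelianization H) z = 1 :=
    MonoidHom.mem_ker.1 (Abelianization.commutator_subset_ker _ hd)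
  rw [h2] at h1
  have h3 := (Abelianization.ker_of H).le (MonoidHom.mem_ker.2 h1.symm)
  have h4 := Subgroup.mem_map_of_mem H.subtype h3
  rwa [map_subtype_commutator] at h4

/-- In a stem extension, a kernel element of order `p` lies in the derived group of the preimage of any
subgroup of index prime to `p`. -/
theorem mem_commutator_comap {Γ : Type u} {G : Type v} [Group Γ] [Group G] [Finite Γ] {σ : Γ →* G}
    (hσ : Cfsg.IsStemExtension σ) {z : Γ} (hz : z ∈ σ.ker) {p : ℕ} (hp : p.Prime) (hzp : z ^ p = 1)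
    (P : Subgroup G) (hP : ¬ p ∣ P.index) : z ∈ ⁅P.comap σ, P.comap σ⁆ := by
  have h := pow_index_mem_commutator (P.comap σ) (hσ.2.1 hz) (hσ.2.2 hz)
  rw [index_comap_of_surjective P hσ.1] at h
  have hc : P.index.Coprime p := ((hp.coprime_iff_not_dvd).2 hP).symm
  have hc' : P.index.Coprime (orderOf z) := hc.coprime_dvd_right (orderOf_dvd_of_pow_eq_one hzp)
  obtain ⟨m, hm⟩ := exists_pow_eq_self_of_coprime hc'
  rw [← hm]
  exact pow_mem h m

/-- `P` kills the `p`-part of the kernels of the finite stem extensions of `G`. -/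
def KillsPart {G : Type u} [Group G] (p : ℕ) (P : Subgroup G) : Prop :=
  ∀ (Γ : Type u) [Group Γ] [Finite Γ] (σ : Γ →* G), Cfsg.IsStemExtension σ →
    ∀ z ∈ σ.ker, z ^ p = 1 → z ∈ ⁅P.comap σ, P.comap σ⁆ → z = 1

theorem killsPart_of_commutative {G : Type u} [Group G] (p : ℕ) (P : Subgroup G)
    (h : ∀ (Γ : Type u) [Group Γ] [Finite Γ] (σ : Γ →* G), Cfsg.IsStemExtension σ →
      ∀ a ∈ P.comap σ, ∀ b ∈ P.comap σ, a * b = b * a) : KillsPart p P := by
  intro Γ _ _ σ hσ z _ _ hz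
  have : ⁅P.comap σ, P.comap σ⁆ ≤ ⊥ := commutator_le.2 fun a ha b hb =>
    mem_bot.2 (commutatorElement_eq_one_iff_mul_comm.2 (h Γ σ hσ a ha b hb))
  exact mem_bot.1 (this hz)

/-- If for a prime `p` some subgroup of index prime to `p` kills the `p`-part, no kernel element has order `p`. -/
theorem eq_one_of_killsPart {G : Type u} [Group G] {Γ : Type u} [Group Γ] [Finite Γ] {σ : Γ →* G}
    (hσ : Cfsg.IsStemExtension σ) {p : ℕ} (hp : p.Prime) {P : Subgroup G} (hP : ¬ p ∣ P.index)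
    (hk : KillsPart p P) {z : Γ} (hz : z ∈ σ.ker) (hzp : z ^ p = 1) : z = 1 :=
  hk Γ σ hσ z hz hzp (mem_commutator_comap hσ hz hp hzp P hP)

theorem killsPart_bot {G : Type u} [Group G] (p : ℕ) : KillsPart p (⊥ : Subgroup G) :=
  killsPart_of_commutative p ⊥ fun Γ _ _ σ hσ a ha b _ =>
    ((mem_center_iff.1 (hσ.2.1 ha)) b).symm

theorem eq_one_of_not_dvd {G : Type u} [Group G] {Γ : Type u} [Group Γ] [Finite Γ] {σ : Γ →* G}
    (hσ : Cfsg.IsStemExtension σ) {p : ℕ} (hp : p.Prime) (hd : ¬ p ∣ Nat.card G)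
    {z : Γ} (hz : z ∈ σ.ker) (hzp : z ^ p = 1) : z = 1 :=
  eq_one_of_killsPart hσ hp (by rwa [index_bot]) (killsPart_bot p) hz hzp

/-- The multiplier of `G` is trivial if for each prime some subgroup of index prime to it kills that part. -/
theorem hasTrivialMultiplier {G : Type u} [Group G] [Finite G]
    (h : ∀ p : ℕ, p.Prime → p ∣ Nat.card G → ∃ P : Subgroup G, ¬ p ∣ P.index ∧ KillsPart p P) :
    Cfsg.HasCyclicSchurMultiplier G 1 := by
  refine ⟨⟨G, inferInstance, inferInstance, MonoidHom.id G, ⟨Function.surjective_id, ?_, ?_⟩, ?_⟩, ?_⟩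
  · rw [MonoidHom.ker_id]; exact bot_le
  · rw [MonoidHom.ker_id]; exact bot_le
  · haveI : Subsingleton ↥(MonoidHom.id G).ker := by
      rw [MonoidHom.ker_id]; infer_instance
    exact ⟨{ toFun := fun _ => 1, invFun := fun _ => 1, left_inv := fun _ => Subsingleton.elim _ _,
             right_inv := fun _ => Subsingleton.elim _ _, map_mul' := fun _ _ => Subsingleton.elim _ _ }⟩
  · intro Γ _ _ σ hσ
    refine ⟨1, fun z => ⟨1, ?_⟩⟩
    suffices hk : σ.ker = ⊥ by
      apply Subtype.ext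
      exact (mem_bot.1 (hk.le z.2)).symm
    by_contra hne
    have hcard : Nat.card σ.ker ≠ 1 := fun hc => hne (card_eq_one.1 hc)
    obtain ⟨p, hp, hpd⟩ := Nat.exists_prime_and_dvd hcard
    haveI := Fact.mk hp
    obtain ⟨w, hw⟩ := exists_prime_orderOf_dvd_card' p hpd
    have hwp : (w : Γ) ^ p = 1 := by
      rw [← coe_pow, ← hw, pow_orderOf_eq_one, coe_one]
    have hw1 : (w : Γ) = 1 := by
      by_cases hd : p ∣ Nat.card G
      · obtain ⟨P, hP, hk⟩ := h p hp hd
        exact eq_one_of_killsPart hσ hp hP hk w.2 hwp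
      · exact eq_one_of_not_dvd hσ hp hd w.2 hwp
    have : orderOf w = 1 := orderOf_eq_one_iff.2 (Subtype.ext hw1)
    exact hp.ne_one (hw ▸ this)

/-! ### The commutator pairing of a central extension -/

section Pairing

variable {Γ : Type u} {G : Type v} [Group Γ] [Group G] {σ : Γ →* G} (hk : σ.ker ≤ center Γ)

include hk

theorem central_of_commute {a b : Γ} (h : Commute (σ a) (σ b)) : ⁅a, b⁆ ∈ center Γ :=
  hk (MonoidHom.mem_ker.2 (by rw [map_commutatorElement]; exact commutatorElement_eq_one_iff_commute.2 h))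

/-- The commutator only depends on the images. -/
theorem commutator_congr {a a' b b' : Γ} (ha : σ a = σ a') (hb : σ b = σ b') : ⁅a, b⁆ = ⁅a', b'⁆ := by
  have key : ∀ x y y' : Γ, σ y = σ y' → ⁅x, y⁆ = ⁅x, y'⁆ := by
    intro x y y' h
    have hc : y'⁻¹ * y ∈ center Γ := hk (by simp [MonoidHom.mem_ker, h])
    have : y = y' * (y'⁻¹ * y) := (mul_inv_cancel_left y' y).symm
    rw [this]
    rw [commutatorElement_mul_right_eq_mul_conj]
    rw [commutatorElement_eq_one_iff_mul_comm.2 ((mem_center_iff.1 hc) x)]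
    simp
  calc ⁅a, b⁆ = ⁅a, b'⁆ := key a b b' hb
    _ = ⁅b', a⁆⁻¹ := (commutatorElement_inv _ _).symm
    _ = ⁅b', a'⁆⁻¹ := by rw [key b' a a' ha]
    _ = ⁅a', b'⁆ := commutatorElement_inv _ _

/-- Conjugation invariance of the pairing. -/
theorem commutator_conj {a b a' b' n : Γ} (h : Commute (σ a) (σ b))
    (ha : σ a' = σ n * σ a * (σ n)⁻¹) (hb : σ b' = σ n * σ b * (σ n)⁻¹) : ⁅a', b'⁆ = ⁅a, b⁆ := by
  rw [commutator_congr hk (a' := n * a * n⁻¹) (b' := n * b * n⁻¹) (by simpa using ha) (by simpa using hb),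
    ← conjugate_commutatorElement, mem_center_iff.1 (central_of_commute hk h) n, mul_inv_cancel_right]

/-- The pairing is multiplicative in the right argument. -/
theorem commutator_mul_right {a b c : Γ} (h : Commute (σ a) (σ c)) :
    ⁅a, b * c⁆ = ⁅a, b⁆ * ⁅a, c⁆ := by
  have hc := mem_center_iff.1 (central_of_commute hk h) b
  rw [commutatorElement_mul_right_eq_mul_conj, mul_assoc ⁅a, b⁆, hc, mul_assoc, mul_assoc,
    mul_inv_cancel, mul_one]

theorem commutator_pow_right {a b : Γ} (h : Commute (σ a) (σ b)) (n : ℕ) :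
    ⁅a, b ^ n⁆ = ⁅a, b⁆ ^ n := by
  induction n with
  | zero => simp
  | succ n ih => rw [pow_succ, commutator_mul_right hk h, ih, pow_succ]

/-- If `(σ b) ^ n = 1` then the pairing with `b` has exponent dividing `n`. -/
theorem commutator_pow_eq_one {a b : Γ} (h : Commute (σ a) (σ b)) {n : ℕ} (hn : (σ b) ^ n = 1) :
    ⁅a, b⁆ ^ n = 1 := by
  rw [← commutator_pow_right hk h, commutator_congr hk (a' := a) (b' := 1) rfl (by simpa using hn)]
  simp

/-- If the lifts of a generating set commute pairwise, the preimage of the subgroup is commutative. -/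
theorem comap_comm_of_pairwise {P : Subgroup G} {T : Set Γ} (hP : P ≤ closure (σ '' T))
    (hT : ∀ s ∈ T, ∀ t ∈ T, s * t = t * s) :
    ∀ a ∈ P.comap σ, ∀ b ∈ P.comap σ, a * b = b * a := by
  have hle : P.comap σ ≤ closure (T ∪ (σ.ker : Set Γ)) := by
    rw [Subgroup.closure_union, Subgroup.closure_eq]
    intro a ha
    have h1 : σ a ∈ (closure T).map σ := by rw [MonoidHom.map_closure]; exact hP ha
    rwa [← Subgroup.mem_comap, Subgroup.comap_map_eq] at h1
  have hcomm : IsMulCommutative (closure (T ∪ (σ.ker : Set Γ))) := by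
    refine Subgroup.isMulCommutative_closure ?_
    rintro s (hs | hs) t (ht | ht)
    · exact hT s hs t ht
    · exact mem_center_iff.1 (hk ht) s
    · exact (mem_center_iff.1 (hk hs) t).symm
    · exact mem_center_iff.1 (hk ht) s
  intro a ha b hb
  exact setLike_mul_comm (hle ha) (hle hb)

end Pairing

/-- A cyclic subgroup kills everything. -/
theorem killsPart_zpowers {G : Type u} [Group G] (p : ℕ) (g : G) :
    KillsPart p (zpowers g) := by
  refine killsPart_of_commutative p _ fun Γ _ _ σ hσ => ?_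
  obtain ⟨a, rfl⟩ := hσ.1 g
  refine comap_comm_of_pairwise hσ.2.1 (T := {a}) ?_ (by simp)
  rw [Set.image_singleton, zpowers_eq_closure]

/-- A subgroup generated by two commuting elements of exponent `e` (odd) that some element interchanges. -/
theorem killsPart_of_swap {G : Type u} [Group G] (p : ℕ) (P : Subgroup G) (x y n : G) {e : ℕ} (he : Odd e)
    (hP : P ≤ closure {x, y}) (hc : Commute x y) (hy : y ^ e = 1) (hnx : n * x * n⁻¹ = y)
    (hny : n * y * n⁻¹ = x) : KillsPart p P := by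
  refine killsPart_of_commutative p _ fun Γ _ _ σ hσ => ?_
  obtain ⟨a, rfl⟩ := hσ.1 x
  obtain ⟨b, rfl⟩ := hσ.1 y
  obtain ⟨m, rfl⟩ := hσ.1 n
  have h1 : ⁅b, a⁆ = ⁅a, b⁆ := commutator_conj hσ.2.1 (n := m) hc hnx.symm hny.symm
  have h2 : ⁅a, b⁆ ^ e = 1 := commutator_pow_eq_one hσ.2.1 hc hy
  have h3 : ⁅a, b⁆ ^ 2 = 1 := by
    conv_lhs => rw [pow_two]; arg 1; rw [← commutatorElement_inv, h1]
    exact inv_mul_cancel _
  have h4 : ⁅a, b⁆ = 1 := by
    obtain ⟨k, rfl⟩ := he
    rw [pow_succ, pow_mul, h3, one_pow, one_mul] at h2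
    exact h2
  have hab := commutatorElement_eq_one_iff_mul_comm.1 h4
  refine comap_comm_of_pairwise hσ.2.1 (T := {a, b}) (by rwa [Set.image_pair]) ?_
  rintro s (rfl | rfl) t (rfl | rfl)
  · rfl
  · exact hab
  · exact hab.symm
  · rfl

/-- An elementary abelian subgroup of order eight on whose nonidentity elements some element acts as the
Singer map `x ↦ y ↦ w ↦ x y`. -/
theorem killsPart_of_singer {G : Type u} [Group G] (p : ℕ) (P : Subgroup G) (x y w n : G)
    (hP : P ≤ closure {x, y, w}) (hxy : Commute x y) (hxw : Commute x w) (hyw : Commute y w)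
    (hx : x ^ 2 = 1) (hy : y ^ 2 = 1) (hnx : n * x * n⁻¹ = y) (hny : n * y * n⁻¹ = w)
    (hnw : n * w * n⁻¹ = x * y) : KillsPart p P := by
  refine killsPart_of_commutative p _ fun Γ _ _ σ hσ => ?_
  obtain ⟨a, rfl⟩ := hσ.1 x
  obtain ⟨b, rfl⟩ := hσ.1 y
  obtain ⟨c, rfl⟩ := hσ.1 w
  obtain ⟨m, rfl⟩ := hσ.1 n
  have e1 : ⁅b, c⁆ = ⁅a, b⁆ := commutator_conj hσ.2.1 (n := m) hxy hnx.symm hny.symm
  have e2 : ⁅b, a * b⁆ = ⁅a, c⁆ :=
    commutator_conj hσ.2.1 (n := m) hxw hnx.symm (by rw [map_mul, hnw])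
  have e3 : ⁅c, a * b⁆ = ⁅b, c⁆ :=
    commutator_conj hσ.2.1 (n := m) hyw hny.symm (by rw [map_mul, hnw])
  have f2 : ⁅b, a * b⁆ = ⁅b, a⁆ := by
    rw [commutator_mul_right hσ.2.1 (Commute.refl _), commutatorElement_self, mul_one]
  have f3 : ⁅c, a * b⁆ = ⁅c, a⁆ * ⁅c, b⁆ := commutator_mul_right hσ.2.1 hyw.symm
  have g2 : ⁅a, c⁆ = ⁅a, b⁆ := by
    have h := commutator_pow_eq_one hσ.2.1 hxy.symm hx
    rw [pow_two, mul_eq_one_iff_eq_inv, commutatorElement_inv] at h
    rw [← e2, f2, h]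
  have g3 : ⁅a, b⁆⁻¹ * ⁅a, b⁆⁻¹ = ⁅a, b⁆ := by
    rw [e1, f3] at e3
    rw [← commutatorElement_inv a c, ← commutatorElement_inv b c, g2, e1] at e3
    exact e3
  have g4 : ⁅a, b⁆ = 1 := by
    have h := commutator_pow_eq_one hσ.2.1 hxy hy
    rw [pow_two] at h
    rw [← mul_inv_rev, h, inv_one] at g3
    exact g3.symm
  rw [g4] at g2 e1
  have hab := commutatorElement_eq_one_iff_mul_comm.1 g4
  have hac := commutatorElement_eq_one_iff_mul_comm.1 g2
  have hbc := commutatorElement_eq_one_iff_mul_comm.1 e1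
  refine comap_comm_of_pairwise hσ.2.1 (T := {a, b, c}) ?_ ?_
  · simpa [Set.image_insert_eq] using hP
  rintro s (rfl | rfl | rfl) t (rfl | rfl | rfl)
  · rfl
  · exact hab
  · exact hac
  · exact hab.symm
  · rfl
  · exact hbc
  · exact hac.symm
  · exact hbc.symm
  · rfl

/-- In a finite group: the derived group of a generated subgroup. -/
theorem commutator_closure_le {Γ : Type u} [Group Γ] [Finite Γ] (T : Set Γ) (K : Subgroup Γ)
    (hn : ∀ t ∈ T, ∀ k ∈ K, t * k * t⁻¹ ∈ K) (hc : ∀ s ∈ T, ∀ t ∈ T, ⁅s, t⁆ ∈ K) :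
    ⁅closure T, closure T⁆ ≤ K := by
  have hmon : ∀ g : Γ, g ∈ closure T → g ∈ Submonoid.closure T := fun g hg => by
    rw [← Subgroup.closure_toSubmonoid_of_finite]; exact hg
  have hnorm : ∀ g ∈ Submonoid.closure T, ∀ k ∈ K, g * k * g⁻¹ ∈ K := by
    intro g hg
    induction hg using Submonoid.closure_induction with
    | mem t ht => exact hn t ht
    | one => intro k hk; simpa using hk
    | mul a b _ _ iha ihb =>
      intro k hk
      have := iha _ (ihb k hk)
      simpa [mul_assoc] using this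
  have step : ∀ s : Γ, (∀ t ∈ T, ⁅s, t⁆ ∈ K) → ∀ g ∈ Submonoid.closure T, ⁅s, g⁆ ∈ K := by
    intro s hs g hg
    induction hg using Submonoid.closure_induction with
    | mem t ht => exact hs t ht
    | one => simp
    | mul a b ha _ iha ihb =>
      rw [commutatorElement_mul_right_eq_mul_conj, mul_assoc, mul_assoc, ← mul_assoc a]
      exact mul_mem iha (hnorm a ha _ ihb)
  refine commutator_le.2 fun g hg h hh => ?_
  refine step g (fun t ht => ?_) h (hmon h hh)
  have := step t (fun t' ht' => hc t ht t' ht') g (hmon g hg)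
  rw [← commutatorElement_inv]
  exact inv_mem this

/-- The derived group of the preimage of `⟨a, b⟩` when `b² = 1` and `b a b⁻¹ = a³`: it lies in a cyclic group
generated by a lift `c` of `a²` with `c⁴ = 1`. -/
theorem exists_commutator_generator {G : Type u} [Group G] (P : Subgroup G) (a b : G)
    (hP : P ≤ closure {a, b}) (hb : b ^ 2 = 1) (hba : b * a * b⁻¹ = a ^ 3)
    {Γ : Type u} [Group Γ] [Finite Γ] {σ : Γ →* G} (hσ : Cfsg.IsStemExtension σ) :
    ∃ c : Γ, σ c = a ^ 2 ∧ c ^ 4 = 1 ∧ ⁅P.comap σ, P.comap σ⁆ ≤ zpowers c := by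
  obtain ⟨A, rfl⟩ := hσ.1 a
  obtain ⟨B, rfl⟩ := hσ.1 b
  have hcen := hσ.2.1
  set c : Γ := ⁅B, A⁆ with hcdef
  have hBA : B * A * B⁻¹ = c * A := by simp [hcdef, commutatorElement_def]
  have hσc : σ c = σ A ^ 2 := by
    have h : σ (B * A * B⁻¹) = σ A ^ 3 := by simpa using hba
    rw [hBA, map_mul, pow_succ] at h
    exact mul_right_cancel h
  set ζ : Γ := c * (A ^ 2)⁻¹ with hζdef
  have hζ : ζ ∈ center Γ := hcen (by simp [MonoidHom.mem_ker, hζdef, hσc])
  have hζc : ∀ g : Γ, Commute ζ g := fun g => ((mem_center_iff.1 hζ) g).symm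
  have hcA : c = ζ * A ^ 2 := by simp [hζdef]
  have hBA' : B * A * B⁻¹ = ζ * A ^ 3 := by rw [hBA, hcA, mul_assoc, ← pow_succ]
  have hconjc : B * c * B⁻¹ = c ^ 3 := by
    have h2 : B * A ^ 2 * B⁻¹ = (ζ * A ^ 3) ^ 2 := by rw [← hBA', conj_pow]
    rw [hcA, show B * (ζ * A ^ 2) * B⁻¹ = ζ * (B * A ^ 2 * B⁻¹) by
      rw [← mul_assoc, ← (hζc B).eq, mul_assoc ζ, mul_assoc ζ], h2,
      (hζc _).mul_pow, (hζc _).mul_pow, ← mul_assoc, ← pow_mul, ← pow_mul, ← pow_succ']
  have hAc : A * c * A⁻¹ = c := by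
    have : Commute A c := by
      rw [hcA]; exact (hζc A).symm.mul_right (Commute.self_pow A 2)
    rw [this.eq, mul_inv_cancel_right]
  have hc4 : c ^ 4 = 1 := by
    have hB2 : B * B ∈ center Γ := hcen (by rw [MonoidHom.mem_ker, map_mul, ← pow_two]; exact hb)
    have hA : B * (B * A * B⁻¹) * B⁻¹ = A := by
      rw [show B * (B * A * B⁻¹) * B⁻¹ = (B * B) * A * (B * B)⁻¹ by
        simp only [mul_inv_rev, mul_assoc], ← mem_center_iff.1 hB2 A, mul_inv_cancel_right]
    have h1 : B * (B * A * B⁻¹) * B⁻¹ = c ^ 4 * A := by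
      rw [hBA, show B * (c * A) * B⁻¹ = (B * c * B⁻¹) * (B * A * B⁻¹) by group, hconjc, hBA,
        ← mul_assoc, ← pow_succ]
    rw [h1] at hA
    exact mul_eq_right.1 hA
  have hle : P.comap σ ≤ closure ({A, B} ∪ (σ.ker : Set Γ)) := by
    rw [Subgroup.closure_union, Subgroup.closure_eq]
    intro g hg
    have h1 : σ g ∈ (closure ({A, B} : Set Γ)).map σ := by
      rw [MonoidHom.map_closure, Set.image_pair]; exact hP hg
    rwa [← Subgroup.mem_comap, Subgroup.comap_map_eq] at h1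
  have hK : ⁅closure ({A, B} ∪ (σ.ker : Set Γ)), closure ({A, B} ∪ (σ.ker : Set Γ))⁆ ≤ zpowers c := by
    refine commutator_closure_le _ _ ?_ ?_
    · rintro t ht k hk
      obtain ⟨i, rfl⟩ := mem_zpowers_iff.1 hk
      rw [← conj_zpow]
      refine zpow_mem ?_ i
      rcases ht with (rfl | rfl) | ht
      · rw [hAc]; exact mem_zpowers c
      · rw [hconjc]; exact pow_mem (mem_zpowers c) 3
      · rw [← mem_center_iff.1 (hcen ht) c, mul_inv_cancel_right]; exact mem_zpowers c
    · have hk' : ∀ s ∈ σ.ker, ∀ t : Γ, ⁅s, t⁆ = 1 ∧ ⁅t, s⁆ = 1 := fun s hs t =>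
        ⟨commutatorElement_eq_one_iff_mul_comm.2 (mem_center_iff.1 (hcen hs) t).symm,
          commutatorElement_eq_one_iff_mul_comm.2 (mem_center_iff.1 (hcen hs) t)⟩
      intro s hs t ht
      rcases hs with hs | hs
      · rcases ht with ht | ht
        · rcases hs with rfl | rfl <;> rcases ht with rfl | rfl
          · simp
          · rw [← commutatorElement_inv]; exact inv_mem (mem_zpowers c)
          · exact mem_zpowers c
          · simp
        · rw [(hk' t ht s).2]; exact one_mem _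
      · rw [(hk' s hs t).1]; exact one_mem _
  exact ⟨c, hσc, hc4, le_trans (commutator_mono hle hle) hK⟩

/-- A semidihedral subgroup of order sixteen. -/
theorem killsPart_of_semidihedral {G : Type u} [Group G] (p : ℕ) (P : Subgroup G) (a b : G)
    (hP : P ≤ closure {a, b}) (ha : a ^ 8 = 1) (ha4 : a ^ 4 ≠ 1) (hb : b ^ 2 = 1)
    (hba : b * a * b⁻¹ = a ^ 3) : KillsPart p P := by
  intro Γ _ _ σ hσ z hz _ hzc
  obtain ⟨c, hσc, hc4, hle⟩ := exists_commutator_generator P a b hP hb hba hσ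
  obtain ⟨i, rfl⟩ := mem_zpowers_iff.1 (hle hzc)
  have h1 : (a ^ 2) ^ i = 1 := by rw [← hσc, ← map_zpow]; exact hz
  have hord : orderOf (a ^ 2) = 4 := by
    have : orderOf (a ^ 2) = 2 ^ (1 + 1) :=
      orderOf_eq_prime_pow (by simpa [← pow_mul] using ha4) (by simpa [← pow_mul] using ha)
    simpa using this
  obtain ⟨j, rfl⟩ : (4 : ℤ) ∣ i := by
    have := orderOf_dvd_iff_zpow_eq_one.2 h1
    rwa [hord] at this
  rw [zpow_mul]
  rw [show (4 : ℤ) = ((4 : ℕ) : ℤ) from rfl, zpow_natCast, hc4, one_zpow]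

/-- The whole kernel of a stem extension lies in a cyclic group of order at most two, provided the subgroup
`⟨a, b⟩` (dihedral of order eight) has odd index and the odd primes are killed. -/
theorem kernel_cyclic_of_dihedral {G : Type u} [Group G] [Finite G] {P : Subgroup G} {a b : G}
    (hP : P ≤ closure {a, b}) (hidx : ¬ 2 ∣ P.index) (ha : a ^ 4 = 1) (ha2 : a ^ 2 ≠ 1) (hb : b ^ 2 = 1)
    (hba : b * a * b⁻¹ = a⁻¹)
    (hodd : ∀ p : ℕ, p.Prime → p ≠ 2 → p ∣ Nat.card G → ∃ Q : Subgroup G, ¬ p ∣ Q.index ∧ KillsPart p Q)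
    {Γ : Type u} [Group Γ] [Finite Γ] {σ : Γ →* G} (hσ : Cfsg.IsStemExtension σ) :
    ∃ w : Γ, w ^ 2 = 1 ∧ σ.ker = zpowers w := by
  have hinv : a⁻¹ = a ^ 3 := inv_eq_of_mul_eq_one_right (by rw [← pow_succ']; exact ha)
  obtain ⟨c, hσc, hc4, hle⟩ := exists_commutator_generator P a b hP hb (hba.trans hinv) hσ
  have hw : c ^ 2 ∈ σ.ker := by rw [MonoidHom.mem_ker, map_pow, hσc, ← pow_mul]; exact ha
  refine ⟨c ^ 2, by rw [← pow_mul]; exact hc4, le_antisymm (fun z hz => ?_) (zpowers_le.2 hw)⟩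
  have hpow : ∃ k, orderOf z = 2 ^ k := by
    refine ⟨_, Nat.eq_prime_pow_of_unique_prime_dvd (orderOf_pos z).ne' fun {q} hq hqd => ?_⟩
    by_contra hne
    have hqo : orderOf (z ^ (orderOf z / q)) = q := orderOf_pow_orderOf_div (orderOf_pos z).ne' hqd
    have hq1 : (z ^ (orderOf z / q)) ^ q = 1 := orderOf_dvd_iff_pow_eq_one.1 hqo.dvd
    have : z ^ (orderOf z / q) = 1 := by
      by_cases hd : q ∣ Nat.card G
      · obtain ⟨Q, hQ, hkQ⟩ := hodd q hq hne hd
        exact eq_one_of_killsPart hσ hq hQ hkQ (pow_mem hz _) hq1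
      · exact eq_one_of_not_dvd hσ hq hd (pow_mem hz _) hq1
    rw [this, orderOf_one] at hqo
    exact hq.ne_one hqo.symm
  obtain ⟨k, hk⟩ := hpow
  have hmem : z ∈ ⁅P.comap σ, P.comap σ⁆ := by
    have h := pow_index_mem_commutator (P.comap σ) (hσ.2.1 hz) (hσ.2.2 hz)
    rw [index_comap_of_surjective P hσ.1] at h
    have hc : P.index.Coprime (orderOf z) := by
      rw [hk]; exact ((Nat.prime_two.coprime_iff_not_dvd.2 hidx).pow_left k).symm
    obtain ⟨m, hm⟩ := exists_pow_eq_self_of_coprime hc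
    rw [← hm]; exact pow_mem h m
  obtain ⟨i, rfl⟩ := mem_zpowers_iff.1 (hle hmem)
  have h1 : (a ^ 2) ^ i = 1 := by rw [← hσc, ← map_zpow]; exact hz
  obtain ⟨j, rfl⟩ : (2 : ℤ) ∣ i := by
    have := orderOf_dvd_iff_zpow_eq_one.2 h1
    rwa [orderOf_eq_prime (p := 2) (by simpa [← pow_mul] using ha) ha2] at this
  rw [zpow_mul]
  exact zpow_mem (mem_zpowers_iff.2 ⟨1, by rw [zpow_one, zpow_two, pow_two]⟩) j

end Cfsg.Agent.Lib.Schur.Fusion
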