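/-
SL₂ over a finite field is presented by two additive families x, y and the relations w(t) x(u) w(t)⁻¹ = y(-t⁻²u).
-/
import Mathlib
import Cfsg.Agent.Lib.Linear.Transvection

set_option autoImplicit false

namespace Cfsg.Agent.Lib.Schur.SteinbergSL2

variable {F : Type*} [Field F] {G : Type*} [Group G]

/-- The element `w(t)`. -/
def wElt (X : Bool → F → G) (b : Bool) (t : F) : G := X b t * X (!b) (-t⁻¹) * X b t

/-- The element `h(t)`. -/
def hElt (X : Bool → F → G) (t : F) : G := wElt X true t * wElt X true (-1)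

/-- Two families satisfying the relations of SL₂. -/
structure IsSL2Rel (X : Bool → F → G) : Prop where
  add : ∀ b t u, X b (t + u) = X b t * X b u
  conj : ∀ b t u, t ≠ 0 → wElt X b t * X b u * (wElt X b t)⁻¹ = X (!b) (-(t⁻¹ ^ 2 * u))

variable {X : Bool → F → G} (R : IsSL2Rel X)

include R

theorem x_zero (b : Bool) : X b 0 = 1 := by
  have h := R.add b 0 0
  rw [add_zero] at h
  exact left_eq_mul.1 h

theorem x_neg (b : Bool) (t : F) : X b (-t) = (X b t)⁻¹ := by
  rw [eq_inv_iff_mul_eq_one, ← R.add, neg_add_cancel, x_zero R]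

theorem w_swap (b : Bool) {t : F} (ht : t ≠ 0) : wElt X b t = wElt X (!b) (-t⁻¹) := by
  have h := R.conj b t t ht
  rw [show -(t⁻¹ ^ 2 * t) = -t⁻¹ by field_simp, mul_inv_eq_iff_eq_mul] at h
  unfold wElt at *
  rw [Bool.not_not, inv_neg, inv_inv, neg_neg]
  refine mul_right_cancel (h.trans ?_)
  simp only [mul_assoc]

theorem w_inv (b : Bool) (t : F) : (wElt X b t)⁻¹ = wElt X b (-t) := by
  unfold wElt
  rw [inv_neg, x_neg R b, x_neg R (!b) (-t⁻¹)]
  simp [mul_assoc]

theorem w_conj_x {t : F} (ht : t ≠ 0) (u : F) :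
    wElt X true t * X true u * (wElt X true t)⁻¹ = X false (-(t⁻¹ ^ 2 * u)) :=
  R.conj true t u ht

theorem w_conj_y {t : F} (ht : t ≠ 0) (u : F) :
    wElt X true t * X false u * (wElt X true t)⁻¹ = X true (-(t ^ 2 * u)) := by
  rw [w_swap R true ht]
  have h := R.conj false (-t⁻¹) u (neg_ne_zero.2 (inv_ne_zero ht))
  simpa using h

theorem w_conj_w {s t : F} (hs : s ≠ 0) (ht : t ≠ 0) :
    wElt X true s * wElt X true t * (wElt X true s)⁻¹ = wElt X true (s ^ 2 / t) := by
  have e : ∀ a b c d : G, a * (b * c * d) * a⁻¹ = (a * b * a⁻¹) * (a * c * a⁻¹) * (a * d * a⁻¹) := by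
    intros; group
  have hne : s ^ 2 / t ≠ 0 := div_ne_zero (pow_ne_zero 2 hs) ht
  rw [w_swap R true hne]
  conv_lhs => arg 1; arg 2; unfold wElt
  rw [e, w_conj_x R hs, Bool.not_true, w_conj_y R hs]
  unfold wElt
  simp only [Bool.not_true, Bool.not_false, inv_neg, neg_neg, inv_inv]
  rw [show -(s⁻¹ ^ 2 * t) = -(s ^ 2 / t)⁻¹ by field_simp,
    show -(s ^ 2 * -t⁻¹) = s ^ 2 / t by field_simp]

theorem h_one : hElt X 1 = 1 := by
  rw [hElt, ← w_inv R, mul_inv_cancel]

theorem w_eq_h_mul (t : F) : wElt X true t = hElt X t * wElt X true 1 := by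
  rw [hElt, mul_assoc, ← w_inv R, inv_mul_cancel, mul_one]

theorem h_conj_x {t : F} (ht : t ≠ 0) (u : F) :
    hElt X t * X true u * (hElt X t)⁻¹ = X true (t ^ 2 * u) := by
  have e : ∀ a b c : G, (a * b) * c * (a * b)⁻¹ = a * (b * c * b⁻¹) * a⁻¹ := by intros; group
  rw [hElt, e, w_conj_x R (neg_ne_zero.2 one_ne_zero), w_conj_y R ht]
  simp

theorem h_conj_y {t : F} (ht : t ≠ 0) (u : F) :
    hElt X t * X false u * (hElt X t)⁻¹ = X false (t⁻¹ ^ 2 * u) := by
  have e : ∀ a b c : G, (a * b) * c * (a * b)⁻¹ = a * (b * c * b⁻¹) * a⁻¹ := by intros; group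
  rw [hElt, e, w_conj_y R (neg_ne_zero.2 one_ne_zero), w_conj_x R ht]
  simp

theorem h_conj_w {a t : F} (ha : a ≠ 0) :
    hElt X a * wElt X true t * (hElt X a)⁻¹ = wElt X true (a ^ 2 * t) := by
  have e : ∀ a b c d : G, a * (b * c * d) * a⁻¹ = (a * b * a⁻¹) * (a * c * a⁻¹) * (a * d * a⁻¹) := by
    intros; group
  conv_lhs => arg 1; arg 2; unfold wElt
  rw [e, h_conj_x R ha, Bool.not_true, h_conj_y R ha]
  unfold wElt
  simp only [Bool.not_true, mul_neg]
  rw [show a⁻¹ ^ 2 * t⁻¹ = (a ^ 2 * t)⁻¹ by rw [mul_inv, inv_pow]]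

theorem w_one_conj_h {b : F} (hb : b ≠ 0) :
    wElt X true 1 * hElt X b * (wElt X true 1)⁻¹ = hElt X b⁻¹ := by
  have e : ∀ a b c : G, a * (b * c) * a⁻¹ = (a * b * a⁻¹) * (a * c * a⁻¹) := by intros; group
  rw [hElt, e, w_conj_w R one_ne_zero hb, w_conj_w R one_ne_zero (neg_ne_zero.2 one_ne_zero), hElt]
  simp [one_div, inv_neg]

/-- Steinberg's identity. -/
theorem w_mul_w {a b : F} (ha : a ≠ 0) (hb : b ≠ 0) (hab : a + b = 1) :
    wElt X true a * wElt X true b = wElt X true (a / b) * wElt X true 1 := by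
  have hx : ∀ t : F, t ≠ 0 → X true t = X false t⁻¹ * wElt X true t * X false t⁻¹ := fun t ht => by
    rw [w_swap R true ht]
    simp [wElt, x_neg R, mul_assoc]
  have h1 : X true a * X true b = X true 1 := by rw [← R.add, hab]
  rw [hx a ha, hx b hb, hx 1 one_ne_zero, inv_one] at h1
  have h2 : wElt X true a * (X false a⁻¹ * X false b⁻¹) * (wElt X true a)⁻¹ = (X true (a / b))⁻¹ := by
    rw [← R.add, w_conj_y R ha, ← x_neg R]; congr 1; field_simp; linear_combination -hab
  have h3 : wElt X true 1 * X false (-(a / b)) = X true (a / b) * wElt X true 1 := by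
    rw [← mul_inv_eq_iff_eq_mul, w_conj_y R one_ne_zero]; congr 1; ring
  have h4 : wElt X true (a / b) = X true (a / b) * X false (-(b / a)) * X true (a / b) := by
    rw [wElt, Bool.not_true, inv_div]
  have hA : (X false a⁻¹)⁻¹ * X false 1 = X false (-(b / a)) := by
    rw [← x_neg R, ← R.add]; congr 1; field_simp; linear_combination hab
  have hB : X false 1 * (X false b⁻¹)⁻¹ = X false (-(a / b)) := by
    rw [← x_neg R, ← R.add]; congr 1; field_simp; linear_combination hab
  calc wElt X true a * wElt X true b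
      = (wElt X true a * (X false a⁻¹ * X false b⁻¹) * (wElt X true a)⁻¹)⁻¹ *
          ((X false a⁻¹)⁻¹ *
            (X false a⁻¹ * wElt X true a * X false a⁻¹ * (X false b⁻¹ * wElt X true b * X false b⁻¹)) *
            (X false b⁻¹)⁻¹) := by group
    _ = X true (a / b) * (((X false a⁻¹)⁻¹ * X false 1) * (wElt X true 1 *
          (X false 1 * (X false b⁻¹)⁻¹))) := by
        rw [h1, h2, inv_inv]; simp only [mul_assoc]
    _ = _ := by
        rw [hA, hB, h3, h4]; simp only [mul_assoc]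

theorem h_symbol {a b : F} (ha : a ≠ 0) (hb : b ≠ 0) (hab : a + b = 1) :
    hElt X a * hElt X b⁻¹ = hElt X (a / b) := by
  have h := w_mul_w R ha hb hab
  rw [w_eq_h_mul R a, w_eq_h_mul R b, w_eq_h_mul R (a / b), ← w_one_conj_h R hb] at *
  rw [mul_assoc, mul_assoc] at h
  rw [← mul_assoc, mul_inv_eq_iff_eq_mul]
  apply mul_right_cancel (b := wElt X true 1)
  simp only [mul_assoc] at h ⊢
  exact h

section Generated

variable (hgen : Subgroup.closure (Set.range fun p : Bool × F => X p.1 p.2) = ⊤)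

include hgen

theorem h_cocycle_central {a b : F} (ha : a ≠ 0) (hb : b ≠ 0) :
    (hElt X (a * b))⁻¹ * (hElt X a * hElt X b) ∈ Subgroup.center G := by
  rw [Subgroup.mem_center_iff]
  have hfix : ∀ g : G, g ∈ Subgroup.centralizer {(hElt X (a * b))⁻¹ * (hElt X a * hElt X b)} := by
    intro g
    have hg : g ∈ (⊤ : Subgroup G) := trivial
    rw [← hgen] at hg
    refine (Subgroup.closure_le _).2 ?_ hg
    rintro _ ⟨⟨s, u⟩, rfl⟩
    rw [SetLike.mem_coe, Subgroup.mem_centralizer_singleton_iff]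
    have key : (hElt X a * hElt X b) * X s u * (hElt X a * hElt X b)⁻¹ =
        hElt X (a * b) * X s u * (hElt X (a * b))⁻¹ := by
      have e : ∀ a b c : G, (a * b) * c * (a * b)⁻¹ = a * (b * c * b⁻¹) * a⁻¹ := by intros; group
      cases s
      · rw [e, h_conj_y R hb, h_conj_y R ha, h_conj_y R (mul_ne_zero ha hb)]; congr 1
        rw [mul_inv, mul_pow, mul_assoc]
      · rw [e, h_conj_x R hb, h_conj_x R ha, h_conj_x R (mul_ne_zero ha hb)]; congr 1
        rw [mul_pow, mul_assoc]
    have key' := congrArg (fun z => (hElt X (a * b))⁻¹ * z * (hElt X a * hElt X b)) key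
    simp only [mul_assoc, inv_mul_cancel, mul_one, inv_mul_cancel_left] at key'
    simp only [mul_assoc] at key' ⊢
    exact key'.symm
  intro g
  exact Subgroup.mem_centralizer_singleton_iff.1 (hfix g)

theorem h_comm [Finite F] {a b : F} (ha : a ≠ 0) (hb : b ≠ 0) :
    hElt X a * hElt X b = hElt X b * hElt X a := by
  obtain ⟨g, hg⟩ := IsCyclic.exists_monoid_generator (α := Fˣ)
  have hmem : ∀ k : ℕ, ∃ m : ℕ, ∃ z ∈ Subgroup.center G, hElt X ((g : F) ^ k) = z * hElt X g ^ m := by
    intro k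
    induction k with
    | zero => exact ⟨0, 1, one_mem _, by simp [h_one R]⟩
    | succ k ih =>
      obtain ⟨m, z, hz, he⟩ := ih
      have hc := h_cocycle_central R hgen (pow_ne_zero k g.ne_zero) g.ne_zero
      rw [← pow_succ] at hc
      set c := (hElt X ((g : F) ^ (k + 1)))⁻¹ * (hElt X ((g : F) ^ k) * hElt X g) with hcdef
      refine ⟨m + 1, c⁻¹ * z, mul_mem (inv_mem hc) hz, ?_⟩
      have he2 : hElt X ((g : F) ^ k) * hElt X g = z * hElt X g ^ (m + 1) := by
        rw [pow_succ (hElt X (g : F)), ← mul_assoc, ← he]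
      rw [mul_assoc, ← he2, ← Subgroup.mem_center_iff.1 (inv_mem hc), hcdef]
      group
  obtain ⟨i, hi⟩ := hg (Units.mk0 a ha)
  obtain ⟨j, hj⟩ := hg (Units.mk0 b hb)
  have hi' : a = (g : F) ^ i := by rw [← Units.val_pow_eq_pow_val]; exact (congrArg Units.val hi).symm
  have hj' : b = (g : F) ^ j := by rw [← Units.val_pow_eq_pow_val]; exact (congrArg Units.val hj).symm
  obtain ⟨m, z, hz, he⟩ := hmem i
  obtain ⟨m', z', hz', he'⟩ := hmem j
  rw [hi', hj', he, he']
  have c1 : ∀ y, Commute z y := fun y => (Subgroup.mem_center_iff.1 hz y).symm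
  have c2 : ∀ y, Commute z' y := fun y => (Subgroup.mem_center_iff.1 hz' y).symm
  exact ((c1 _).mul_left (((c2 _).symm).mul_right (Commute.pow_pow_self _ m m'))).eq

theorem h_sq_mul [Finite F] {a b : F} (ha : a ≠ 0) (hb : b ≠ 0) :
    hElt X (a ^ 2 * b) = hElt X (a ^ 2) * hElt X b := by
  have h := h_comm R hgen ha hb
  have h2 : hElt X a * hElt X b * (hElt X a)⁻¹ = hElt X (a ^ 2 * b) * (hElt X (a ^ 2))⁻¹ := by
    have e : ∀ a b c : G, a * (b * c) * a⁻¹ = (a * b * a⁻¹) * (a * c * a⁻¹) := by intros; group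
    conv_lhs => arg 1; arg 2; unfold hElt
    rw [e, h_conj_w R ha, h_conj_w R ha, hElt, hElt, mul_inv_rev, mul_assoc, ← mul_assoc (wElt X true (-1)),
      mul_inv_cancel, one_mul, w_inv R, mul_neg, mul_one]
  rw [h, mul_inv_cancel_right, eq_mul_inv_iff_mul_eq] at h2
  rw [← h2, h_comm R hgen hb (pow_ne_zero 2 ha)]

theorem h_mul [Finite F] {a b : F} (ha : a ≠ 0) (hb : b ≠ 0) :
    hElt X (a * b) = hElt X a * hElt X b := by
  classical
  haveI := Fintype.ofFinite F
  by_cases hsa : IsSquare a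
  · obtain ⟨r, rfl⟩ := hsa
    rw [← pow_two]
    exact h_sq_mul R hgen (left_ne_zero_of_mul ha) hb
  by_cases hsb : IsSquare b
  · obtain ⟨r, rfl⟩ := hsb
    rw [mul_comm a, ← pow_two, h_sq_mul R hgen (left_ne_zero_of_mul hb) ha, h_comm R hgen ha]
    exact pow_ne_zero 2 (left_ne_zero_of_mul hb)
  -- two nonsquares with sum one
  obtain ⟨a₀, hna, hnb⟩ : ∃ a₀ : F, ¬ IsSquare a₀ ∧ ¬ IsSquare (1 - a₀) := by
    by_contra hno
    push Not at hno
    let S : Finset F := Finset.univ.filter fun x => x ≠ 0 ∧ IsSquare x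
    let N : Finset F := Finset.univ.filter fun x => ¬ IsSquare x
    have h1 : S.card ≤ N.card := Finset.card_le_card_of_injOn (fun x => a * x)
      (fun x hx => by
        simp only [S, N, Finset.coe_filter, Finset.mem_univ, true_and, Set.mem_setOf_eq] at hx ⊢
        intro hsq
        obtain ⟨r, hr⟩ := hx.2
        obtain ⟨s, hs⟩ := hsq
        have hr0 : r ≠ 0 := fun h => hx.1 (by rw [hr, h, zero_mul])
        exact hsa ⟨s / r, by rw [div_mul_div_comm, ← hs, ← hr, mul_div_assoc, div_self hx.1, mul_one]⟩)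
      fun x _ y _ hxy => mul_left_cancel₀ ha hxy
    have h2 : N.card < S.card := by
      refine lt_of_le_of_lt (Finset.card_le_card_of_injOn (t := S.erase 1) (fun x => 1 - x) ?_
        fun x _ y _ hxy => sub_right_injective hxy) ?_
      · intro x hx
        simp only [N, Finset.coe_filter, Finset.mem_univ, true_and, Set.mem_setOf_eq] at hx
        simp only [S, Finset.mem_coe, Finset.mem_erase, Finset.mem_filter, Finset.mem_univ, true_and]
        refine ⟨fun h => hx ?_, fun h => hx ?_, hno x hx⟩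
        · rw [sub_eq_self] at h; rw [h]; exact IsSquare.zero
        · rw [sub_eq_zero] at h; rw [← h]; exact IsSquare.one
      · refine Finset.card_erase_lt_of_mem ?_
        simp [S]
    omega
  have ha₀ : a₀ ≠ 0 := fun h => hna (by rw [h]; exact IsSquare.zero)
  have hb₀ : 1 - a₀ ≠ 0 := fun h => hnb (by rw [h]; exact IsSquare.zero)
  have hratio : ∀ x y : F, ¬ IsSquare x → ¬ IsSquare y → ∃ r : F, r ≠ 0 ∧ x = r ^ 2 * y := by
    obtain ⟨g, hg⟩ := IsCyclic.exists_monoid_generator (α := Fˣ)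
    intro x y hx hy
    have hx0 : x ≠ 0 := fun h => hx (by rw [h]; exact IsSquare.zero)
    have hy0 : y ≠ 0 := fun h => hy (by rw [h]; exact IsSquare.zero)
    obtain ⟨i, hi⟩ := hg (Units.mk0 x hx0)
    obtain ⟨j, hj⟩ := hg (Units.mk0 y hy0)
    have hi' : x = (g : F) ^ i := by rw [← Units.val_pow_eq_pow_val]; exact (congrArg Units.val hi).symm
    have hj' : y = (g : F) ^ j := by rw [← Units.val_pow_eq_pow_val]; exact (congrArg Units.val hj).symm
    have odd_of : ∀ k : ℕ, ¬ IsSquare ((g : F) ^ k) → ∃ l, k = 2 * l + 1 := by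
      intro k hk
      rcases Nat.even_or_odd' k with ⟨l, rfl | rfl⟩
      · exact absurd ⟨(g : F) ^ l, by rw [← pow_add, two_mul]⟩ hk
      · exact ⟨l, rfl⟩
    obtain ⟨l, rfl⟩ := odd_of i (hi' ▸ hx)
    obtain ⟨l', rfl⟩ := odd_of j (hj' ▸ hy)
    refine ⟨(g : F) ^ l / (g : F) ^ l', div_ne_zero (pow_ne_zero _ g.ne_zero) (pow_ne_zero _ g.ne_zero), ?_⟩
    rw [hi', hj']
    field_simp
    ring
  obtain ⟨r, hr, rfl⟩ := hratio a a₀ hsa hna
  have hnb' : ¬ IsSquare (1 - a₀)⁻¹ := by rwa [isSquare_inv]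
  obtain ⟨s, hs, rfl⟩ := hratio b (1 - a₀)⁻¹ hsb hnb'
  have hsym : hElt X a₀ * hElt X (1 - a₀)⁻¹ = hElt X (a₀ * (1 - a₀)⁻¹) := by
    rw [← div_eq_mul_inv]; exact h_symbol R ha₀ hb₀ (by ring)
  rw [show r ^ 2 * a₀ * (s ^ 2 * (1 - a₀)⁻¹) = (r * s) ^ 2 * (a₀ * (1 - a₀)⁻¹) by ring,
    h_sq_mul R hgen (mul_ne_zero hr hs) (mul_ne_zero ha₀ (inv_ne_zero hb₀)), mul_pow,
    h_sq_mul R hgen hr (pow_ne_zero 2 hs), ← hsym, h_sq_mul R hgen hr ha₀,
    h_sq_mul R hgen hs (inv_ne_zero hb₀)]
  simp only [mul_assoc]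
  rw [← mul_assoc (hElt X (s ^ 2)) (hElt X a₀), h_comm R hgen (pow_ne_zero 2 hs) ha₀, mul_assoc]

omit R in
/-- Action of a matrix on pairs. -/
def act (M : Matrix.SpecialLinearGroup (Fin 2) F) (v : F × F) : F × F :=
  (M 0 0 * v.1 + M 0 1 * v.2, M 1 0 * v.1 + M 1 1 * v.2)

/-- A family satisfying the relations that maps to the transvections maps injectively. -/
theorem injective_of_rel [Finite F] (ρ : G →* Matrix.SpecialLinearGroup (Fin 2) F)
    (hx : ∀ t, (ρ (X true t) : Matrix (Fin 2) (Fin 2) F) = !![1, t; 0, 1])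
    (hy : ∀ t, (ρ (X false t) : Matrix (Fin 2) (Fin 2) F) = !![1, 0; t, 1]) : Function.Injective ρ := by
  classical
  let sec : F × F → G := fun v => if v.2 = 0 then hElt X v.1 else X true (v.1 / v.2) * wElt X true (-v.2⁻¹)
  let U : Subgroup G :=
    { carrier := Set.range (X true)
      one_mem' := ⟨0, x_zero R true⟩
      mul_mem' := by rintro _ _ ⟨t, rfl⟩ ⟨u, rfl⟩; exact ⟨t + u, R.add true t u⟩
      inv_mem' := by rintro _ ⟨t, rfl⟩; exact ⟨-t, x_neg R true t⟩ }
  let Good : G → Prop := fun g => ∀ v : F × F, v ≠ 0 →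
    (sec (act (ρ g) v))⁻¹ * (g * sec v) ∈ U
  have act_mul : ∀ M N (v : F × F), act (M * N) v = act M (act N v) := by
    intro M N v
    simp only [act, Matrix.SpecialLinearGroup.coe_mul, Matrix.mul_apply, Fin.sum_univ_two]
    ext <;> ring
  have act_one : ∀ v : F × F, act (1 : Matrix.SpecialLinearGroup (Fin 2) F) v = v := by
    intro v; simp [act]
  have act_ne : ∀ M (v : F × F), v ≠ 0 → act M v ≠ 0 := by
    intro M v hv h
    apply hv
    rw [← act_one v, ← inv_mul_cancel M, act_mul, h]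
    simp [act]
  have good_mul : ∀ g k, Good g → Good k → Good (g * k) := by
    intro g k hg hk v hv
    have h1 := hg _ (act_ne (ρ k) v hv)
    have h2 := hk v hv
    have := mul_mem h1 h2
    rw [map_mul, act_mul]
    simpa [mul_assoc] using this
  have good_inv : ∀ g, Good g → Good g⁻¹ := by
    intro g hg v hv
    have h1 := hg _ (act_ne (ρ g)⁻¹ v hv)
    rw [← act_mul, mul_inv_cancel, act_one] at h1
    rw [map_inv]
    have := inv_mem h1
    simpa [mul_assoc] using this
  have hw1 : (ρ (wElt X true 1) : Matrix (Fin 2) (Fin 2) F) = !![0, 1; -1, 0] := by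
    simp only [wElt, Bool.not_true, map_mul, Matrix.SpecialLinearGroup.coe_mul, hx, hy]
    ext i j
    fin_cases i <;> fin_cases j <;> simp [Matrix.mul_apply, Fin.sum_univ_two]
  have good_x : ∀ t, Good (X true t) := by
    intro t v hv
    have hact : act (ρ (X true t)) v = (v.1 + t * v.2, v.2) := by simp [act, hx]
    rw [hact]
    by_cases hc : v.2 = 0
    · have ha : v.1 ≠ 0 := fun h => hv (Prod.ext h hc)
      simp only [sec, hc, if_true, mul_zero, add_zero]
      refine ⟨v.1⁻¹ ^ 2 * t, ?_⟩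
      have h := h_conj_x R ha (v.1⁻¹ ^ 2 * t)
      rw [← mul_assoc, inv_pow, mul_inv_cancel₀ (pow_ne_zero 2 ha), one_mul, mul_inv_eq_iff_eq_mul] at h
      rw [inv_pow, eq_inv_mul_iff_mul_eq]
      exact h
    · simp only [sec, hc, if_false]
      rw [← mul_assoc (X true t), ← R.add, show (v.1 + t * v.2) / v.2 = t + v.1 / v.2 by field_simp; ring,
        inv_mul_cancel]
      exact one_mem U
  have hsq : wElt X true 1 * wElt X true 1 = hElt X (-1) := by
    have h1 : hElt X (-1) * hElt X (-1) = 1 := by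
      rw [← h_mul R hgen (neg_ne_zero.2 one_ne_zero) (neg_ne_zero.2 one_ne_zero)]
      simp [h_one R]
    have h2 : hElt X (-1) = (wElt X true 1 * wElt X true 1)⁻¹ := by
      rw [hElt, mul_inv_rev, w_inv R]
    rw [h2] at h1 ⊢
    exact (eq_inv_of_mul_eq_one_left h1).trans (inv_inv _) |>.symm
  have w_h : ∀ {t c : F}, t ≠ 0 → c ≠ 0 → wElt X true t * hElt X c = wElt X true (t * c⁻¹) := by
    intro t c ht hc
    have := w_one_conj_h R hc
    rw [mul_inv_eq_iff_eq_mul] at this
    rw [w_eq_h_mul R t, mul_assoc, this, ← mul_assoc, ← h_mul R hgen ht (inv_ne_zero hc), ← w_eq_h_mul R]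
  have w_w : ∀ {c : F}, c ≠ 0 → wElt X true 1 * wElt X true c = hElt X (-c⁻¹) := by
    intro c hc
    rw [w_eq_h_mul R c, ← mul_assoc, w_h one_ne_zero hc, w_eq_h_mul R (1 * c⁻¹), mul_assoc, hsq, one_mul,
      ← h_mul R hgen (inv_ne_zero hc) (neg_ne_zero.2 one_ne_zero), mul_neg, mul_one]
  have good_w : Good (wElt X true 1) := by
    intro v hv
    have hact : act (ρ (wElt X true 1)) v = (v.2, -v.1) := by simp [act, hw1]
    rw [hact]
    by_cases hc : v.2 = 0
    · have ha : v.1 ≠ 0 := fun h => hv (Prod.ext h hc)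
      simp only [sec, hc, if_true, if_neg (neg_ne_zero.2 ha), zero_div, x_zero R, one_mul]
      rw [w_h one_ne_zero ha, one_mul, inv_neg, neg_neg, inv_mul_cancel]
      exact one_mem U
    · by_cases ha : v.1 = 0
      · simp only [sec, hc, ha, neg_zero, if_true, if_false, zero_div, x_zero R, one_mul]
        rw [w_w (neg_ne_zero.2 (inv_ne_zero hc)), inv_neg, inv_inv, neg_neg, inv_mul_cancel]
        exact one_mem U
      · simp only [sec, hc, if_false, if_neg (neg_ne_zero.2 ha)]
        set r := v.1 / v.2 with hr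
        have hr0 : r ≠ 0 := div_ne_zero ha hc
        have e1 := w_conj_x R one_ne_zero r
        rw [mul_inv_eq_iff_eq_mul] at e1
        have e2 : X false (-(1⁻¹ ^ 2 * r)) =
            X true (-r⁻¹) * wElt X true r⁻¹ * X true (-r⁻¹) := by
          simp [wElt, x_neg R, mul_assoc]
        have e3 := h_conj_x R hc (-(v.2⁻¹ ^ 2) * r⁻¹)
        rw [mul_inv_eq_iff_eq_mul, show v.2 ^ 2 * (-(v.2⁻¹ ^ 2) * r⁻¹) = -r⁻¹ by field_simp] at e3
        refine ⟨-(v.2⁻¹ ^ 2) * r⁻¹, ?_⟩
        rw [eq_inv_mul_iff_mul_eq, ← mul_assoc (wElt X true 1), e1, e2]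
        have e4 := w_w (neg_ne_zero.2 (inv_ne_zero hc))
        rw [inv_neg, inv_inv, neg_neg] at e4
        have e5 := w_h (inv_ne_zero hr0) hc
        have f1 : v.2 / -v.1 = -r⁻¹ := by rw [hr, inv_div, div_neg]
        have f2 : -(-v.1)⁻¹ = r⁻¹ * v.2⁻¹ := by rw [hr]; field_simp
        rw [f1, f2, ← e5]
        simp only [mul_assoc] at e4 ⊢
        rw [e4, ← e3]
  have good_all : ∀ g, Good g := by
    intro g
    have hg : g ∈ (⊤ : Subgroup G) := trivial
    rw [← hgen] at hg
    induction hg using Subgroup.closure_induction with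
    | mem z hz =>
      obtain ⟨⟨b, t⟩, rfl⟩ := hz
      cases b
      · have e := w_conj_x R one_ne_zero (-t)
        simp only [inv_one, one_pow, one_mul, neg_neg] at e
        show Good (X false t)
        rw [show X false t = _ from e.symm]
        exact good_mul _ _ (good_mul _ _ good_w (good_x _)) (good_inv _ good_w)
      · exact good_x t
    | one => intro v hv; simp [act_one]
    | mul a b _ _ iha ihb => exact good_mul a b iha ihb
    | inv a _ iha => exact good_inv a iha
  rw [← MonoidHom.ker_eq_bot_iff, eq_bot_iff]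
  intro g hg
  have h := good_all g (1, 0) (fun h => one_ne_zero (congrArg Prod.fst h))
  rw [MonoidHom.mem_ker.1 hg, act_one] at h
  simp only [sec, if_true, h_one R, inv_one, one_mul, mul_one] at h
  obtain ⟨t, rfl⟩ := h
  have ht := congrFun (congrFun (congrArg (fun M : Matrix.SpecialLinearGroup (Fin 2) F => M.1)
    (MonoidHom.mem_ker.1 hg)) 0) 1
  simp [hx] at ht
  rw [Subgroup.mem_bot, ht, x_zero R]

end Generated

end Cfsg.Agent.Lib.Schur.SteinbergSL2

namespace Cfsg.Agent.Lib.Schur.SteinbergSL2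

variable (F : Type*) [Field F]

/-- The relators of the presentation. -/
def rels : Set (FreeGroup (Bool × F)) :=
  {g | ∃ (b : Bool) (t u : F), g = FreeGroup.of (b, t) * FreeGroup.of (b, u) * (FreeGroup.of (b, t + u))⁻¹} ∪
  {g | ∃ (b : Bool) (t u : F), t ≠ 0 ∧
    g = (FreeGroup.of (b, t) * FreeGroup.of (!b, -t⁻¹) * FreeGroup.of (b, t)) * FreeGroup.of (b, u) *
          (FreeGroup.of (b, t) * FreeGroup.of (!b, -t⁻¹) * FreeGroup.of (b, t))⁻¹ *
            (FreeGroup.of (!b, -(t⁻¹ ^ 2 * u)))⁻¹}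

/-- The transvection attached to a generator. -/
def trv (b : Bool) (t : F) : Matrix.SpecialLinearGroup (Fin 2) F :=
  if b then ⟨!![1, t; 0, 1], by simp [Matrix.det_fin_two]⟩ else ⟨!![1, 0; t, 1], by simp [Matrix.det_fin_two]⟩

theorem trv_rel : IsSL2Rel (trv F) := by
  constructor
  · intro b t u
    cases b <;> apply Matrix.SpecialLinearGroup.ext <;> intro i j <;>
      simp only [trv, Bool.false_eq_true, if_true, if_false, Matrix.SpecialLinearGroup.coe_mul,
        Matrix.SpecialLinearGroup.coe_mk] <;>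
      fin_cases i <;> fin_cases j <;> simp [Matrix.mul_apply, Fin.sum_univ_two, add_comm]
  · intro b t u ht
    rw [mul_inv_eq_iff_eq_mul]
    cases b <;> apply Matrix.SpecialLinearGroup.ext <;> intro i j <;>
      simp only [wElt, trv, Bool.not_true, Bool.not_false, Bool.false_eq_true, if_true, if_false,
        Matrix.SpecialLinearGroup.coe_mul, Matrix.SpecialLinearGroup.coe_mk] <;>
      fin_cases i <;> fin_cases j <;>
        simp [Matrix.mul_apply, Fin.sum_univ_two] <;> field_simp <;> (first | ring1 | simp | (ring_nf; simp))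

variable {F}

/-- A family with the relations gives a homomorphism out of the presented group. -/
theorem rels_eval {G : Type*} [Group G] {X : Bool → F → G} (R : IsSL2Rel X) :
    ∀ r ∈ rels F, FreeGroup.lift (fun p : Bool × F => X p.1 p.2) r = 1 := by
  rintro r (⟨b, t, u, rfl⟩ | ⟨b, t, u, ht, rfl⟩)
  · simp [R.add]
  · simp only [map_mul, map_inv, FreeGroup.lift_apply_of]
    rw [mul_inv_eq_one]
    exact R.conj b t u ht

theorem presented_rel :
    IsSL2Rel (fun b t => (PresentedGroup.of (b, t) : PresentedGroup (rels F))) := by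
  constructor
  · intro b t u
    exact (mul_inv_eq_one.1 (PresentedGroup.one_of_mem (Or.inl ⟨b, t, u, rfl⟩))).symm
  · intro b t u ht
    exact mul_inv_eq_one.1 (PresentedGroup.one_of_mem (Or.inr ⟨b, t, u, ht, rfl⟩))

variable (F)

/-- The presentation of SL₂. -/
theorem exists_presentation [Finite F] :
    ∃ e : PresentedGroup (rels F) ≃* Matrix.SpecialLinearGroup (Fin 2) F,
      ∀ b t, e (PresentedGroup.of (b, t)) = trv F b t := by
  let ρ : PresentedGroup (rels F) →* Matrix.SpecialLinearGroup (Fin 2) F :=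
    PresentedGroup.toGroup (rels_eval (trv_rel F))
  have hρ : ∀ b t, ρ (PresentedGroup.of (b, t)) = trv F b t := fun b t => PresentedGroup.toGroup.of _
  have hinj : Function.Injective ρ := by
    refine injective_of_rel (presented_rel (F := F)) ?_ ρ (fun t => ?_) (fun t => ?_)
    · exact PresentedGroup.closure_range_of (rels F)
    · rw [hρ]; rfl
    · rw [hρ]; rfl
  have hsurj : Function.Surjective ρ := by
    rw [← MonoidHom.range_eq_top]
    apply Cfsg.Agent.Lib.Linear.sl_eq_top_of_transvection_mem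
    intro i j hij c
    fin_cases i <;> fin_cases j
    · exact absurd rfl hij
    · refine ⟨PresentedGroup.of (true, c), ?_⟩
      rw [hρ]; apply Subtype.ext; ext a b
      fin_cases a <;> fin_cases b <;> simp [trv, Matrix.SpecialLinearGroup.transvection_coe]
    · refine ⟨PresentedGroup.of (false, c), ?_⟩
      rw [hρ]; apply Subtype.ext; ext a b
      fin_cases a <;> fin_cases b <;> simp [trv, Matrix.SpecialLinearGroup.transvection_coe]
    · exact absurd rfl hij
  exact ⟨MulEquiv.ofBijective ρ ⟨hinj, hsurj⟩, hρ⟩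

end Cfsg.Agent.Lib.Schur.SteinbergSL2
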