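/-
Steinberg's presentation of SL_n (n ≥ 3) over a finite field, by induction from the case n = 2: the cosets of the
subgroup generated by the x_ij (j ≠ 0) are in bijection with the nonzero vectors.
-/
import Mathlib
import Cfsg.Agent.Lib.Linear.Transvection
import Cfsg.Agent.Lib.Schur.SteinbergSL2

set_option autoImplicit false

namespace Cfsg.Agent.Lib.Schur.SteinbergSLn

open Matrix

variable {F : Type*} [Field F] {G : Type*} [Group G]

/-- Steinberg's relations for a family indexed by pairs. -/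
structure IsSLnRel {ι : Type*} (X : ι → ι → F → G) : Prop where
  add : ∀ i j, i ≠ j → ∀ t u, X i j (t + u) = X i j t * X i j u
  comm : ∀ i j k l, i ≠ j → k ≠ l → i ≠ l → j ≠ k → ∀ t u, X i j t * X k l u = X k l u * X i j t
  chain : ∀ i j l, i ≠ j → j ≠ l → i ≠ l → ∀ t u, X i j t * X j l u = X i l (t * u) * X j l u * X i j t

section Basic

variable {ι : Type*} {X : ι → ι → F → G} (R : IsSLnRel X)

include R

theorem x_zero {i j : ι} (h : i ≠ j) : X i j 0 = 1 := by
  have := R.add i j h 0 0
  rw [add_zero] at this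
  exact left_eq_mul.1 this

theorem x_neg {i j : ι} (h : i ≠ j) (t : F) : X i j (-t) = (X i j t)⁻¹ := by
  rw [eq_inv_iff_mul_eq_one, ← R.add i j h, neg_add_cancel, x_zero R h]

theorem chain_rev {i j l : ι} (hij : i ≠ j) (hjl : j ≠ l) (hil : i ≠ l) (t u : F) :
    X j l u * X i j t = X i l (-(t * u)) * X i j t * X j l u := by
  have h := R.chain i j l hij hjl hil t u
  rw [x_neg R hil, mul_assoc _ (X i j t), h, ← mul_assoc, ← mul_assoc, inv_mul_cancel, one_mul]

/-- The family of a sub-SL₂ satisfies the SL₂ relations. -/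
theorem sl2Rel {a b k : ι} (hab : a ≠ b) (hak : a ≠ k) (hbk : b ≠ k) :
    SteinbergSL2.IsSL2Rel (fun (s : Bool) t => if s then X a b t else X b a t) := by
  have key : ∀ i j : ι, i ≠ j → i ≠ k → j ≠ k → ∀ t u : F, t ≠ 0 →
      X i j t * X j i (-t⁻¹) * X i j t * X i j u * (X i j t * X j i (-t⁻¹) * X i j t)⁻¹ =
        X j i (-(t⁻¹ ^ 2 * u)) := by
    intro i j hij hik hjk t u ht
    set w := X i j t * X j i (-t⁻¹) * X i j t with hw
    have e1 : w * X i k u = X j k (-(t⁻¹ * u)) * w := by
      rw [hw, mul_assoc _ (X i j t) (X i k u), R.comm i j i k hij hik hik hij.symm,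
        mul_assoc (X i j t), ← mul_assoc (X j i _) (X i k u), R.chain j i k hij.symm hik hjk,
        neg_mul, mul_assoc (X j k _), mul_assoc (X j k _), ← mul_assoc (X i j t) (X j k _),
        R.chain i j k hij hjk hik, show t * -(t⁻¹ * u) = -u by field_simp,
        mul_assoc (X i k _ * _), mul_assoc (X i k u), ← mul_assoc (X i j t) (X i k u),
        R.comm i j i k hij hik hik hij.symm, R.comm i k j k hik hjk hik hjk.symm,
        mul_assoc (X j k _), x_neg R hik]
      simp only [mul_assoc, inv_mul_cancel_left]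
    have e2 : w * X k j 1 = X k i t⁻¹ * w := by
      rw [hw, mul_assoc _ (X i j t) (X k j 1), R.comm i j k j hij hjk.symm hij hjk]
      rw [mul_assoc (X i j t), ← mul_assoc (X j i _) (X k j 1), chain_rev R hjk.symm hij.symm hik.symm,
        one_mul, neg_neg, mul_assoc (X k i _), mul_assoc (X k i _), ← mul_assoc (X i j t) (X k i _),
        chain_rev R hik.symm hij hjk.symm, inv_mul_cancel₀ ht,
        mul_assoc (X k j _ * _), mul_assoc (X k j 1), ← mul_assoc (X i j t) (X k j 1),
        R.comm i j k j hij hjk.symm hij hjk, x_neg R hjk.symm]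
      rw [← x_neg R hjk.symm, ← R.comm k i k j hik.symm hjk.symm hjk.symm hik, x_neg R hjk.symm]
      simp only [mul_assoc, inv_mul_cancel_left]
    have h := R.chain i k j hik hjk.symm hij u 1
    rw [mul_one] at h
    have h' := R.chain j k i hjk hik.symm hij.symm (-(t⁻¹ * u)) t⁻¹
    rw [show -(t⁻¹ * u) * t⁻¹ = -(t⁻¹ ^ 2 * u) by ring] at h'
    have c1 : w * X i k u * w⁻¹ = X j k (-(t⁻¹ * u)) := by rw [e1, mul_inv_cancel_right]
    have c2 : w * X k j 1 * w⁻¹ = X k i t⁻¹ := by rw [e2, mul_inv_cancel_right]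
    have hx : X i j u = X i k u * X k j 1 * (X k j 1 * X i k u)⁻¹ := by
      rw [h]; simp [mul_assoc]
    have hy : X j i (-(t⁻¹ ^ 2 * u)) = X j k (-(t⁻¹ * u)) * X k i t⁻¹ *
        (X k i t⁻¹ * X j k (-(t⁻¹ * u)))⁻¹ := by
      rw [h']; simp [mul_assoc]
    rw [hx, hy, ← c1, ← c2]
    group
  constructor
  · intro s t u
    cases s
    · exact R.add b a hab.symm t u
    · exact R.add a b hab t u
  · intro s t u ht
    cases s
    · exact key b a hab.symm hbk hak t u ht
    · exact key a b hab hak hbk t u ht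

end Basic

/-- A homomorphism from SL₂ onto a sub-SL₂ of a Steinberg family. -/
theorem exists_hom_two [Finite F] {ι : Type*} {X : ι → ι → F → G} (R : IsSLnRel X) {a b k : ι}
    (hab : a ≠ b) (hak : a ≠ k) (hbk : b ≠ k) :
    ∃ ψ : Matrix.SpecialLinearGroup (Fin 2) F →* G, ∀ (i j : Fin 2) (hij : i ≠ j) (t : F),
      ψ (Matrix.SpecialLinearGroup.transvection hij t) =
        X (if i = 0 then a else b) (if j = 0 then a else b) t := by
  obtain ⟨e, he⟩ := SteinbergSL2.exists_presentation F
  let φ := PresentedGroup.toGroup (SteinbergSL2.rels_eval (sl2Rel R hab hak hbk))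
  refine ⟨φ.comp e.symm.toMonoidHom, ?_⟩
  have h : ∀ s t, φ (e.symm (SteinbergSL2.trv F s t)) = if s then X a b t else X b a t := by
    intro s t
    rw [← he, MulEquiv.symm_apply_apply]
    exact PresentedGroup.toGroup.of _
  intro i j hij t
  fin_cases i <;> fin_cases j
  · exact absurd rfl hij
  · have ht : Matrix.SpecialLinearGroup.transvection hij t = SteinbergSL2.trv F true t := by
      apply Matrix.SpecialLinearGroup.ext; intro x y
      fin_cases x <;> fin_cases y <;> simp [SteinbergSL2.trv, Matrix.SpecialLinearGroup.transvection_coe]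
    simpa [ht] using h true t
  · have ht : Matrix.SpecialLinearGroup.transvection hij t = SteinbergSL2.trv F false t := by
      apply Matrix.SpecialLinearGroup.ext; intro x y
      fin_cases x <;> fin_cases y <;> simp [SteinbergSL2.trv, Matrix.SpecialLinearGroup.transvection_coe]
    simpa [ht] using h false t
  · exact absurd rfl hij

section Step

variable {m : ℕ} {X : Fin (m + 1) → Fin (m + 1) → F → G} (R : IsSLnRel X)

/-- The homomorphism given by the column X i 0. -/
def colHom : (Fin m → Multiplicative F) →* G :=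
  MonoidHom.noncommPiCoprod
    (fun i => MonoidHom.mk' (fun t : Multiplicative F => X i.succ 0 t.toAdd)
      (fun t u => R.add _ _ (Fin.succ_ne_zero i) _ _))
    (fun i j _ t u => R.comm _ _ _ _ (Fin.succ_ne_zero i) (Fin.succ_ne_zero j) (Fin.succ_ne_zero i)
      (Fin.succ_ne_zero j).symm _ _)

/-- The column element with entries `u`. -/
def col (u : Fin m → F) : G := colHom R fun i => Multiplicative.ofAdd (u i)

/-- The homomorphism given by the row X 0 j. -/
def rowHom : (Fin m → Multiplicative F) →* G :=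
  MonoidHom.noncommPiCoprod
    (fun i => MonoidHom.mk' (fun t : Multiplicative F => X 0 i.succ t.toAdd)
      (fun t u => R.add _ _ (Fin.succ_ne_zero i).symm _ _))
    (fun i j _ t u => R.comm _ _ _ _ (Fin.succ_ne_zero i).symm (Fin.succ_ne_zero j).symm
      (Fin.succ_ne_zero j).symm (Fin.succ_ne_zero i) _ _)

/-- The subgroup fixing the first basis vector. -/
def stab (X : Fin (m + 1) → Fin (m + 1) → F → G) : Subgroup G :=
  Subgroup.closure {g | ∃ i j t, i ≠ j ∧ j ≠ 0 ∧ g = X i j t}

theorem colHom_mulSingle (i : Fin m) (t : Multiplicative F) :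
    colHom R (Pi.mulSingle i t) = X i.succ 0 t.toAdd := by
  rw [colHom]; exact MonoidHom.noncommPiCoprod_mulSingle (N := fun _ => Multiplicative F) _ i t

theorem rowHom_mulSingle (i : Fin m) (t : Multiplicative F) :
    rowHom R (Pi.mulSingle i t) = X 0 i.succ t.toAdd := by
  rw [rowHom]; exact MonoidHom.noncommPiCoprod_mulSingle (N := fun _ => Multiplicative F) _ i t

theorem col_add (u w : Fin m → F) : col R (u + w) = col R u * col R w := by
  rw [col, col, col, ← map_mul]; rfl

theorem col_zero : col R (0 : Fin m → F) = 1 := map_one (colHom R)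

theorem col_single (i : Fin m) (t : F) : col R (Pi.single i t) = X i.succ 0 t := by
  have h : (fun j => Multiplicative.ofAdd ((Pi.single i t : Fin m → F) j)) =
      Pi.mulSingle i (Multiplicative.ofAdd t) := by
    funext j
    rcases eq_or_ne j i with rfl | hj
    · simp
    · simp [hj]
  rw [col, h]
  exact colHom_mulSingle R i _

theorem col_induction (p : (Fin m → F) → Prop) (h0 : p 0)
    (hadd : ∀ u w, p u → p w → p (u + w)) (hs : ∀ i t, p (Pi.single i t)) (u : Fin m → F) : p u := by
  rw [← Finset.univ_sum_single u]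
  exact Finset.sum_induction _ p hadd h0 fun i _ => hs i _

theorem mem_stab {i j : Fin (m + 1)} (hij : i ≠ j) (hj : j ≠ 0) (t : F) : X i j t ∈ stab X :=
  Subgroup.subset_closure ⟨i, j, t, hij, hj, rfl⟩

/-- The trivial coset. -/
def base (X : Fin (m + 1) → Fin (m + 1) → F → G) : G ⧸ stab X := ((1 : G) : G ⧸ stab X)

theorem smul_base {g : G} (hg : g ∈ stab X) : g • base X = base X := by
  rw [base, MulAction.Quotient.smul_mk, smul_eq_mul, mul_one, QuotientGroup.eq, mul_one]
  exact inv_mem hg

include R in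
/-- Moving `x_ik` past a column element. -/
theorem x_mul_col {i k : Fin m} (hik : i ≠ k) (c : F) (u : Fin m → F) :
    X i.succ k.succ c * col R u = col R (u + Pi.single i (c * u k)) * X i.succ k.succ c := by
  induction u using col_induction with
  | h0 => simp [col_zero]
  | hadd u w ihu ihw =>
    rw [col_add, ← mul_assoc, ihu, mul_assoc, ihw, ← mul_assoc, ← col_add]
    congr 2
    rw [Pi.add_apply, mul_add, Pi.single_add]; abel
  | hs l t =>
    have hik' : i.succ ≠ k.succ := (Fin.succ_injective m).ne hik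
    rcases eq_or_ne l k with rfl | hlk
    · rw [col_add, col_single, col_single, Pi.single_eq_same,
        R.chain i.succ l.succ 0 hik' (Fin.succ_ne_zero l) (Fin.succ_ne_zero i),
        R.comm i.succ 0 l.succ 0 (Fin.succ_ne_zero i) (Fin.succ_ne_zero l) (Fin.succ_ne_zero i)
          (Fin.succ_ne_zero l).symm]
    · rw [Pi.single_eq_of_ne hlk.symm, mul_zero, Pi.single_zero, add_zero, col_single,
        R.comm _ _ _ _ hik' (Fin.succ_ne_zero l) (Fin.succ_ne_zero i) ((Fin.succ_injective m).ne hlk.symm)]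

include R in
theorem x_smul_col {i k : Fin m} (hik : i ≠ k) (c : F) (u : Fin m → F) :
    X i.succ k.succ c • col R u • base X = col R (u + Pi.single i (c * u k)) • base X := by
  rw [← mul_smul, x_mul_col R hik, mul_smul,
    smul_base (mem_stab ((Fin.succ_injective m).ne hik) (Fin.succ_ne_zero k) c)]

include R in
/-- `x_0k` fixes column cosets with zero `k`-entry. -/
theorem x0_smul_col {k : Fin m} (r : F) (u : Fin m → F) (hu : u k = 0) :
    X 0 k.succ r • col R u • base X = col R u • base X := by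
  have key : ∀ s : Finset (Fin m), k ∉ s →
      X 0 k.succ r • col R (∑ i ∈ s, Pi.single i (u i)) • base X =
        col R (∑ i ∈ s, Pi.single i (u i)) • base X := by
    intro s
    induction s using Finset.induction with
    | empty =>
      intro _
      rw [Finset.sum_empty, col_zero, one_smul, smul_base (mem_stab (Fin.succ_ne_zero k).symm (Fin.succ_ne_zero k) r)]
    | insert i s hi ih =>
      intro hk
      rw [Finset.mem_insert, not_or] at hk
      have hz : (∑ l ∈ s, Pi.single l (u l) : Fin m → F) k = 0 := by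
        rw [Finset.sum_apply, Finset.sum_eq_zero]
        intro l hl
        rw [Pi.single_eq_of_ne]
        rintro rfl; exact hk.2 hl
      have hik : i.succ ≠ k.succ := (Fin.succ_injective m).ne (Ne.symm hk.1)
      have e : X 0 k.succ r * X i.succ 0 (u i) =
          X i.succ 0 (u i) * (X i.succ k.succ (-(u i * r)) * X 0 k.succ r) := by
        rw [chain_rev R (Fin.succ_ne_zero i) (Fin.succ_ne_zero k).symm hik, ← mul_assoc]
        congr 1
        exact R.comm _ _ _ _ hik (Fin.succ_ne_zero i) (Fin.succ_ne_zero i) hik.symm _ _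
      rw [Finset.sum_insert hi, col_add, col_single, mul_smul, ← mul_smul (X 0 k.succ r), e, mul_smul,
        mul_smul, ih hk.2, x_smul_col R (Ne.symm hk.1), hz, mul_zero, Pi.single_zero, add_zero]
  have h := key (Finset.univ.erase k) (Finset.notMem_erase _ _)
  have hu' : (∑ i ∈ Finset.univ.erase k, Pi.single i (u i) : Fin m → F) = u := by
    rw [Finset.sum_erase _ (by rw [hu, Pi.single_zero]), Finset.univ_sum_single]
  rwa [hu'] at h

/-- The coset attached to `v` using the coordinate `k`. -/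
def secAt (k : Fin m) (v : Fin (m + 1) → F) : G ⧸ stab X :=
  X 0 k.succ ((v 0 - 1) / v k.succ) • col R (fun i => v i.succ) • base X

include R in
theorem secAt_eq {k l : Fin m} (v : Fin (m + 1) → F) (hk : v k.succ ≠ 0) (hl : v l.succ ≠ 0) :
    secAt R k v = secAt R l v := by
  rcases eq_or_ne k l with rfl | hkl
  · rfl
  set d := v 0 - 1
  set u : Fin m → F := fun i => v i.succ with hu
  set u' : Fin m → F := u - Pi.single l (u l) with hu'
  have hu'l : u' l = 0 := by simp [hu']
  have hu'k : u' k = u k := by simp [hu', hkl]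
  have hadj : X l.succ k.succ (u l / u k) • col R u' • base X = col R u • base X := by
    rw [x_smul_col R hkl.symm, hu'k, div_mul_cancel₀ _ (show u k ≠ 0 from hk), hu', sub_add_cancel]
  have hlk' : l.succ ≠ k.succ := (Fin.succ_injective m).ne hkl.symm
  have e : X 0 l.succ (d / u l) * X l.succ k.succ (u l / u k) =
      X 0 k.succ (d / u k) * X l.succ k.succ (u l / u k) * X 0 l.succ (d / u l) := by
    rw [R.chain 0 l.succ k.succ (Fin.succ_ne_zero l).symm hlk' (Fin.succ_ne_zero k).symm]
    congr 3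
    have : u l ≠ 0 := hl
    field_simp
  show X 0 k.succ (d / u k) • col R u • base X = X 0 l.succ (d / u l) • col R u • base X
  rw [← hadj, ← mul_smul (X 0 l.succ (d / u l)), e, mul_smul, mul_smul, x0_smul_col R _ u' hu'l]

variable (hm : 2 ≤ m)

/-- An auxiliary index. -/
def one' : Fin m := ⟨0, by omega⟩

/-- The coset attached to a nonzero vector. -/
noncomputable def sec (v : Fin (m + 1) → F) : G ⧸ stab X :=
  open scoped Classical in
  if h : ∃ k : Fin m, v k.succ ≠ 0 then secAt R h.choose v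
  else X (one' hm).succ 0 (-(v 0)⁻¹) • secAt R (one' hm) (v + Pi.single (one' hm).succ 1)

theorem sec_eq {k : Fin m} (v : Fin (m + 1) → F) (hk : v k.succ ≠ 0) : sec R hm v = secAt R k v := by
  classical
  have h : ∃ k : Fin m, v k.succ ≠ 0 := ⟨k, hk⟩
  rw [sec, dif_pos h]
  exact secAt_eq R v h.choose_spec hk

variable {hm}

theorem exists_ne_index {m : ℕ} (k : Fin m) (hm : 2 ≤ m) : ∃ l : Fin m, l ≠ k := by
  haveI : Nontrivial (Fin m) := Fin.nontrivial_iff_two_le.2 hm
  exact exists_ne k

/-- `g` maps the coset of `v` to that of its image. -/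
def Good (ρ : G →* Matrix.SpecialLinearGroup (Fin (m + 1)) F) (hm : 2 ≤ m) (g : G) (v : Fin (m + 1) → F) : Prop :=
  g • sec R hm v = sec R hm (ρ g • v)

variable (ρ : G →* Matrix.SpecialLinearGroup (Fin (m + 1)) F)
  (hρ : ∀ i j, i ≠ j → ∀ (t : F) (v : Fin (m + 1) → F), ρ (X i j t) • v = v + Pi.single i (t * v j))

theorem good_mul {g k : G} {v : Fin (m + 1) → F} (hg : Good R ρ hm g (ρ k • v)) (hk : Good R ρ hm k v) :
    Good R ρ hm (g * k) v := by
  unfold Good at *
  rw [mul_smul, hk, hg, map_mul, mul_smul]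

include hρ

theorem good_low_of_ne {i k l : Fin m} (hik : i ≠ k) (c : F) (v : Fin (m + 1) → F) (hl : v l.succ ≠ 0)
    (hli : l ≠ i) : Good R ρ hm (X i.succ k.succ c) v := by
  have hik' : i.succ ≠ k.succ := (Fin.succ_injective m).ne hik
  have hli' : l.succ ≠ i.succ := (Fin.succ_injective m).ne hli
  unfold Good
  rw [hρ _ _ hik', sec_eq R hm v hl, sec_eq R hm (k := l) _ (by simpa [Pi.single_eq_of_ne hli'] using hl)]
  unfold secAt
  rw [← mul_smul, R.comm _ _ _ _ hik' (Fin.succ_ne_zero l).symm hli'.symm (Fin.succ_ne_zero k), mul_smul,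
    x_smul_col R hik]
  have e0 : (v + Pi.single i.succ (c * v k.succ) : Fin (m + 1) → F) 0 = v 0 := by
    simp [Pi.single_eq_of_ne (Fin.succ_ne_zero i).symm]
  have el : (v + Pi.single i.succ (c * v k.succ) : Fin (m + 1) → F) l.succ = v l.succ := by
    simp [Pi.single_eq_of_ne hli']
  have eu : (fun x : Fin m => (v + Pi.single i.succ (c * v k.succ) : Fin (m + 1) → F) x.succ) =
      (fun x : Fin m => v x.succ) + Pi.single i (c * v k.succ) := by
    funext x
    rcases eq_or_ne x i with rfl | hx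
    · simp
    · simp [hx, (Fin.succ_injective m).ne hx]
  rw [e0, el, eu]

theorem good_low_of_mem {i k : Fin m} (hik : i ≠ k) (c : F) (v : Fin (m + 1) → F) (hi : v i.succ ≠ 0) :
    Good R ρ hm (X i.succ k.succ c) v := by
  by_cases h : ∃ l : Fin m, l ≠ i ∧ v l.succ ≠ 0
  · obtain ⟨l, hli, hl⟩ := h
    exact good_low_of_ne R ρ hρ hik c v hl hli
  push Not at h
  have hik' : i.succ ≠ k.succ := (Fin.succ_injective m).ne hik
  have hk0 : v k.succ = 0 := h k hik.symm
  unfold Good
  rw [hρ _ _ hik', hk0, mul_zero, Pi.single_zero, add_zero, sec_eq R hm v hi]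
  unfold secAt
  rw [← mul_smul, chain_rev R (Fin.succ_ne_zero i).symm hik' (Fin.succ_ne_zero k).symm, mul_smul,
    x_smul_col R hik, hk0, mul_zero, Pi.single_zero, add_zero, mul_smul, ← mul_smul (X 0 k.succ _),
    R.comm 0 k.succ 0 i.succ (Fin.succ_ne_zero k).symm (Fin.succ_ne_zero i).symm (Fin.succ_ne_zero i).symm
      (Fin.succ_ne_zero k), mul_smul, x0_smul_col R _ _ hk0]

theorem good_col_of_ne {i l : Fin m} (t : F) (v : Fin (m + 1) → F) (hl : v l.succ ≠ 0) (hli : l ≠ i) :
    Good R ρ hm (X i.succ 0 t) v := by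
  have hli' : l.succ ≠ i.succ := (Fin.succ_injective m).ne hli
  unfold Good
  rw [hρ _ _ (Fin.succ_ne_zero i), sec_eq R hm v hl,
    sec_eq R hm (k := l) _ (by simpa [Pi.single_eq_of_ne hli'] using hl)]
  unfold secAt
  rw [← mul_smul, R.chain i.succ 0 l.succ (Fin.succ_ne_zero i) (Fin.succ_ne_zero l).symm hli'.symm,
    R.comm i.succ l.succ 0 l.succ hli'.symm (Fin.succ_ne_zero l).symm hli'.symm (Fin.succ_ne_zero l),
    mul_smul, mul_smul, ← mul_smul (X i.succ 0 t), ← col_single R i t, ← col_add R, x_smul_col R hli.symm]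
  have e0 : (v + Pi.single i.succ (t * v 0) : Fin (m + 1) → F) 0 = v 0 := by
    simp [Pi.single_eq_of_ne (Fin.succ_ne_zero i).symm]
  have el : (v + Pi.single i.succ (t * v 0) : Fin (m + 1) → F) l.succ = v l.succ := by
    simp [Pi.single_eq_of_ne hli']
  rw [e0, el]
  congr 3
  funext x
  rcases eq_or_ne x i with rfl | hx
  · simp [Pi.single_eq_of_ne hli]
    field_simp
    ring
  · simp [hx, (Fin.succ_injective m).ne hx]

theorem sec_tail_zero (k : Fin m) (v : Fin (m + 1) → F) (hc : v 0 ≠ 0) (hv : ∀ i : Fin m, v i.succ = 0) :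
    sec R hm v = X k.succ 0 (-(v 0)⁻¹) • sec R hm (v + Pi.single k.succ 1) := by
  classical
  have h : ¬ ∃ i : Fin m, v i.succ ≠ 0 := fun ⟨i, hi⟩ => hi (hv i)
  rw [sec, dif_neg h, ← sec_eq R hm (k := one' hm) _ (by simp [hv])]
  set o := one' hm
  rcases eq_or_ne k o with rfl | hko
  · rfl
  have hko' : k.succ ≠ o.succ := (Fin.succ_injective m).ne hko
  set w := v + Pi.single o.succ 1 + Pi.single k.succ 1 with hw
  have h1 := good_col_of_ne (i := k) (l := o) R ρ hρ (hm := hm) (-(v 0)⁻¹) w
    (by simp [hw, hv, Pi.single_eq_of_ne hko'.symm]) hko.symm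
  have h2 := good_col_of_ne (i := o) (l := k) R ρ hρ (hm := hm) (-(v 0)⁻¹) w
    (by simp [hw, hv, Pi.single_eq_of_ne hko']) hko
  unfold Good at h1 h2
  have hw0 : w 0 = v 0 := by
    simp [hw, Pi.single_eq_of_ne (Fin.succ_ne_zero o).symm, Pi.single_eq_of_ne (Fin.succ_ne_zero k).symm]
  rw [hρ _ _ (Fin.succ_ne_zero k), hw0, neg_mul, inv_mul_cancel₀ hc, Pi.single_neg, hw, add_neg_cancel_right] at h1
  rw [hρ _ _ (Fin.succ_ne_zero o), hw0, neg_mul, inv_mul_cancel₀ hc, Pi.single_neg, hw,
    add_right_comm, add_neg_cancel_right] at h2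
  rw [← h1, ← h2, ← mul_smul, ← mul_smul,
    R.comm _ _ _ _ (Fin.succ_ne_zero o) (Fin.succ_ne_zero k) (Fin.succ_ne_zero o) (Fin.succ_ne_zero k).symm]
  congr 2
  rw [add_right_comm]

theorem good_low {i k : Fin m} (hik : i ≠ k) (c : F) (v : Fin (m + 1) → F) (hv : v ≠ 0) :
    Good R ρ hm (X i.succ k.succ c) v := by
  by_cases hi : v i.succ ≠ 0
  · exact good_low_of_mem R ρ hρ hik c v hi
  push Not at hi
  by_cases h : ∃ l : Fin m, v l.succ ≠ 0
  · obtain ⟨l, hl⟩ := h
    exact good_low_of_ne R ρ hρ hik c v hl fun e => hl (e ▸ hi)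
  push Not at h
  have hc : v 0 ≠ 0 := by
    intro h0; apply hv; funext x; refine Fin.cases h0 h x
  have hik' : i.succ ≠ k.succ := (Fin.succ_injective m).ne hik
  have h1 := good_low_of_mem (hm := hm) R ρ hρ hik c (v + Pi.single i.succ 1) (by simp [h i])
  unfold Good at *
  rw [hρ _ _ hik', Pi.add_apply, h k, Pi.single_eq_of_ne hik'.symm, add_zero, mul_zero, Pi.single_zero,
    add_zero] at h1
  rw [hρ _ _ hik', h k, mul_zero, Pi.single_zero, add_zero, sec_tail_zero R ρ hρ i v hc h, ← mul_smul,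
    R.comm _ _ _ _ hik' (Fin.succ_ne_zero i) (Fin.succ_ne_zero i) hik'.symm, mul_smul, h1]

theorem good_row (k : Fin m) (t : F) (v : Fin (m + 1) → F) (hv : v ≠ 0) :
    Good R ρ hm (X 0 k.succ t) v := by
  have h0k := (Fin.succ_ne_zero k).symm
  by_cases hk : v k.succ ≠ 0
  · unfold Good
    rw [hρ _ _ h0k, sec_eq R hm v hk,
      sec_eq R hm (k := k) _ (by simpa [Pi.single_eq_of_ne h0k.symm] using hk)]
    unfold secAt
    rw [← mul_smul, ← R.add _ _ h0k]
    congr 3
    · rw [Pi.add_apply, Pi.add_apply, Pi.single_eq_same, Pi.single_eq_of_ne h0k.symm, add_zero]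
      field_simp; ring
    · funext x; simp [Pi.single_eq_of_ne (Fin.succ_ne_zero x)]
  push Not at hk
  by_cases h : ∃ l : Fin m, v l.succ ≠ 0
  · obtain ⟨l, hl⟩ := h
    unfold Good
    rw [hρ _ _ h0k, hk, mul_zero, Pi.single_zero, add_zero, sec_eq R hm v hl]
    unfold secAt
    rw [← mul_smul, R.comm 0 k.succ 0 l.succ h0k (Fin.succ_ne_zero l).symm (Fin.succ_ne_zero l).symm h0k.symm,
      mul_smul, x0_smul_col R _ _ hk]
  push Not at h
  have hc : v 0 ≠ 0 := by
    intro h0; apply hv; funext x; refine Fin.cases h0 h x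
  obtain ⟨l, hl⟩ := exists_ne_index k hm
  have hlk' : l.succ ≠ k.succ := (Fin.succ_injective m).ne hl
  have hfix : Good R ρ hm (X 0 k.succ t) (v + Pi.single l.succ 1) := by
    unfold Good
    rw [hρ _ _ h0k, Pi.add_apply, h k, Pi.single_eq_of_ne hlk'.symm, add_zero, mul_zero, Pi.single_zero,
      add_zero, sec_eq R hm (k := l) (v + Pi.single l.succ 1) (by simp [h l])]
    unfold secAt
    rw [← mul_smul, R.comm 0 k.succ 0 l.succ h0k (Fin.succ_ne_zero l).symm (Fin.succ_ne_zero l).symm h0k.symm,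
      mul_smul, x0_smul_col R]
    simp [h k, Pi.single_eq_of_ne hlk'.symm]
  have hlow := good_low (hm := hm) R ρ hρ hl (-(-(v 0)⁻¹ * t)) v hv
  unfold Good at *
  rw [hρ _ _ h0k, Pi.add_apply, h k, Pi.single_eq_of_ne hlk'.symm, add_zero, mul_zero, Pi.single_zero,
    add_zero] at hfix
  rw [hρ _ _ hlk', h k, mul_zero, Pi.single_zero, add_zero] at hlow
  rw [hρ _ _ h0k, h k, mul_zero, Pi.single_zero, add_zero]
  conv_lhs => rw [sec_tail_zero R ρ hρ l v hc h]
  rw [← mul_smul, chain_rev R (Fin.succ_ne_zero l) h0k hlk', mul_smul, mul_smul, hfix,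
    ← sec_tail_zero R ρ hρ l v hc h, hlow]

theorem good_col_to_zero (i : Fin m) (t : F) (v : Fin (m + 1) → F) (hc : v 0 ≠ 0)
    (hv : ∀ l : Fin m, l ≠ i → v l.succ = 0) (hi : v i.succ ≠ 0) (hsum : v i.succ + t * v 0 = 0) :
    Good R ρ hm (X i.succ 0 t) v := by
  obtain ⟨l, hl⟩ := exists_ne_index i hm
  have hli' : l.succ ≠ i.succ := (Fin.succ_injective m).ne hl
  have h1 := good_col_of_ne (i := l) (l := i) (hm := hm) R ρ hρ (-(v 0)⁻¹) (v + Pi.single l.succ 1)
    (by simpa [Pi.single_eq_of_ne hli'.symm] using hi) hl.symm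
  have h2 := good_col_of_ne (i := i) (l := l) (hm := hm) R ρ hρ t (v + Pi.single l.succ 1)
    (by simp [hv l hl]) hl
  unfold Good at *
  have hv0 : (v + Pi.single l.succ 1 : Fin (m + 1) → F) 0 = v 0 := by
    simp [Pi.single_eq_of_ne (Fin.succ_ne_zero l).symm]
  rw [hρ _ _ (Fin.succ_ne_zero l), hv0, neg_mul, inv_mul_cancel₀ hc, Pi.single_neg, add_neg_cancel_right] at h1
  rw [hρ _ _ (Fin.succ_ne_zero i), hv0] at h2
  rw [hρ _ _ (Fin.succ_ne_zero i)]
  have hz : ∀ x : Fin m, (v + Pi.single i.succ (t * v 0) : Fin (m + 1) → F) x.succ = 0 := by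
    intro x
    rcases eq_or_ne x i with rfl | hx
    · simpa using hsum
    · simp [hv x hx, Pi.single_eq_of_ne ((Fin.succ_injective m).ne hx)]
  have hv0' : (v + Pi.single i.succ (t * v 0) : Fin (m + 1) → F) 0 = v 0 := by
    simp [Pi.single_eq_of_ne (Fin.succ_ne_zero i).symm]
  rw [sec_tail_zero R ρ hρ l _ (by rw [hv0']; exact hc) hz, hv0', add_right_comm, ← h2, ← h1, ← mul_smul,
    ← mul_smul, R.comm _ _ _ _ (Fin.succ_ne_zero i) (Fin.succ_ne_zero l) (Fin.succ_ne_zero i)
      (Fin.succ_ne_zero l).symm]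

theorem good_col (i : Fin m) (t : F) (v : Fin (m + 1) → F) (hv : v ≠ 0) :
    Good R ρ hm (X i.succ 0 t) v := by
  by_cases h : ∃ l : Fin m, l ≠ i ∧ v l.succ ≠ 0
  · obtain ⟨l, hli, hl⟩ := h
    exact good_col_of_ne R ρ hρ t v hl hli
  push Not at h
  rcases eq_or_ne t 0 with rfl | ht
  · unfold Good
    rw [hρ _ _ (Fin.succ_ne_zero i), zero_mul, Pi.single_zero, add_zero, x_zero R (Fin.succ_ne_zero i), one_smul]
  by_cases hi : v i.succ ≠ 0
  · by_cases hc : v i.succ + t * v 0 = 0
    · refine good_col_to_zero R ρ hρ i t v ?_ h hi hc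
      intro h0; rw [h0, mul_zero, add_zero] at hc; exact hi hc
    obtain ⟨l, hl⟩ := exists_ne_index i hm
    have hli' : l.succ ≠ i.succ := (Fin.succ_injective m).ne hl
    have e : X i.succ 0 t = X i.succ l.succ t * (X l.succ 0 1 * (X i.succ l.succ (-t) * X l.succ 0 (-1))) := by
      rw [x_neg R hli'.symm, x_neg R (Fin.succ_ne_zero l), ← mul_assoc,
        R.chain i.succ l.succ 0 hli'.symm (Fin.succ_ne_zero l) (Fin.succ_ne_zero i), mul_one]
      group
    rw [e]
    have ne_smul : ∀ g (w : Fin (m + 1) → F), w ≠ 0 → ρ g • w ≠ 0 := fun g w hw hzero => hw (by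
      rw [← inv_smul_smul (ρ g) w, hzero, Matrix.SpecialLinearGroup.smul_def]; simp)
    refine good_mul R ρ ?_ (good_mul R ρ ?_ (good_mul R ρ ?_ ?_))
    · exact good_low R ρ hρ hl.symm _ _ (ne_smul _ _ hv)
    · refine good_col_of_ne (l := i) R ρ hρ _ _ ?_ hl.symm
      rw [map_mul, mul_smul, hρ _ _ hli'.symm, hρ _ _ (Fin.succ_ne_zero l)]
      simpa [h l hl, Pi.single_eq_of_ne hli'.symm] using hc
    · exact good_low R ρ hρ hl.symm _ _ (ne_smul _ _ hv)
    · exact good_col_of_ne R ρ hρ _ v hi hl.symm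
  push Not at hi
  have hc : v 0 ≠ 0 := by
    intro h0; apply hv; funext x
    refine Fin.cases h0 (fun l => ?_) x
    rcases eq_or_ne l i with rfl | hl
    · exact hi
    · exact h l hl
  have h1 := good_col_to_zero (hm := hm) R ρ hρ i (-t) (v + Pi.single i.succ (t * v 0))
    (by simpa [Pi.single_eq_of_ne (Fin.succ_ne_zero i).symm] using hc)
    (fun l hl => by simp [h l hl, Pi.single_eq_of_ne ((Fin.succ_injective m).ne hl)])
    (by simp [hi, ht, hc]) (by simp [hi, Pi.single_eq_of_ne (Fin.succ_ne_zero i).symm])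
  unfold Good at *
  rw [hρ _ _ (Fin.succ_ne_zero i), Pi.add_apply, Pi.single_eq_of_ne (Fin.succ_ne_zero i).symm, add_zero,
    neg_mul, Pi.single_neg, add_neg_cancel_right, x_neg R (Fin.succ_ne_zero i), inv_smul_eq_iff] at h1
  rw [hρ _ _ (Fin.succ_ne_zero i), ← h1]

variable (hgen : Subgroup.closure {g | ∃ i j t, i ≠ j ∧ g = X i j t} = ⊤)

include hgen R

/-- Elements in the kernel lie in the stabilizer. -/
theorem ker_le_stab (hm : 2 ≤ m) : ρ.ker ≤ stab X := by
  have hall : ∀ g : G, ∀ v : Fin (m + 1) → F, v ≠ 0 → Good R ρ hm g v := by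
    intro g
    have hg : g ∈ (⊤ : Subgroup G) := trivial
    rw [← hgen] at hg
    have ne_smul : ∀ g (w : Fin (m + 1) → F), w ≠ 0 → ρ g • w ≠ 0 := fun g w hw hzero => hw (by
      rw [← inv_smul_smul (ρ g) w, hzero, Matrix.SpecialLinearGroup.smul_def]; simp)
    induction hg using Subgroup.closure_induction with
    | mem z hz =>
      obtain ⟨i, j, t, hij, rfl⟩ := hz
      intro v hv
      induction i using Fin.cases with
      | zero =>
        induction j using Fin.cases with
        | zero => exact absurd rfl hij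
        | succ k => exact good_row R ρ hρ k t v hv
      | succ i =>
        induction j using Fin.cases with
        | zero => exact good_col R ρ hρ i t v hv
        | succ k => exact good_low R ρ hρ (fun e => hij (congrArg Fin.succ e)) t v hv
    | one => intro v _; simp [Good]
    | mul a b _ _ iha ihb => intro v hv; exact good_mul R ρ (iha _ (ne_smul b v hv)) (ihb v hv)
    | inv a _ iha =>
      intro v hv
      have h := iha _ (ne_smul a⁻¹ v hv)
      unfold Good at *
      rw [← mul_smul, ← map_mul, mul_inv_cancel, map_one, one_smul] at h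
      rw [inv_smul_eq_iff]; exact h.symm
  intro g hg
  have he : (Pi.single 0 1 : Fin (m + 1) → F) ≠ 0 := by simp
  have hbase : sec R hm (Pi.single 0 1) = base X := by
    rw [sec_tail_zero R ρ hρ (one' hm) _ (by simp) (fun i => Pi.single_eq_of_ne (Fin.succ_ne_zero i) _),
      sec_eq R hm (k := one' hm) _ (by simp [Pi.single_eq_of_ne (Fin.succ_ne_zero (one' hm))])]
    unfold secAt
    have hu : (fun i : Fin m => (Pi.single 0 1 + Pi.single (one' hm).succ 1 : Fin (m + 1) → F) i.succ) =
        Pi.single (one' hm) 1 := by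
      funext x
      rcases eq_or_ne x (one' hm) with rfl | hx
      · simp [Pi.single_eq_of_ne (Fin.succ_ne_zero _)]
      · simp [hx, Pi.single_eq_of_ne ((Fin.succ_injective m).ne hx), Pi.single_eq_of_ne (Fin.succ_ne_zero x)]
    rw [hu, col_single, Pi.add_apply, Pi.single_eq_same,
      Pi.single_eq_of_ne (Fin.succ_ne_zero (one' hm)).symm, add_zero, sub_self, zero_div,
      x_zero R (Fin.succ_ne_zero (one' hm)).symm, one_smul, inv_one, ← mul_smul, x_neg R (Fin.succ_ne_zero _),
      inv_mul_cancel, one_smul]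
  have h := hall g _ he
  unfold Good at h
  rw [MonoidHom.mem_ker.1 hg, one_smul, hbase, base, MulAction.Quotient.smul_mk, smul_eq_mul, mul_one,
    QuotientGroup.eq, mul_one] at h
  exact inv_mem_iff.1 h

theorem injective_of_rel (hm : 2 ≤ m) (ψ : Matrix.SpecialLinearGroup (Fin m) F →* G)
    (hψ : ∀ i j (hij : i ≠ j) t, ψ (Matrix.SpecialLinearGroup.transvection hij t) = X i.succ j.succ t) :
    Function.Injective ρ := by
  -- the row group is normalised by the image of `ψ`
  have hψrange : ∀ i j : Fin m, i ≠ j → ∀ t, X i.succ j.succ t ∈ ψ.range := fun i j hij t => ⟨_, hψ i j hij t⟩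
  have hnorm : ψ.range ≤ Subgroup.normalizer ((rowHom R).range : Set G) := by
    rw [MonoidHom.range_eq_map, Subgroup.map_le_iff_le_comap]
    refine top_le_iff.2 (Cfsg.Agent.Lib.Linear.sl_eq_top_of_transvection_mem _ fun i j hij t => ?_)
    rw [Subgroup.mem_comap, hψ]
    have hij' : i.succ ≠ j.succ := (Fin.succ_injective m).ne hij
    have step : ∀ c : F, ∀ r, X i.succ j.succ c * rowHom R r * (X i.succ j.succ c)⁻¹ ∈ (rowHom R).range := by
      intro c r
      rw [← Finset.univ_prod_mulSingle r]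
      refine Finset.prod_induction _ (fun z => X i.succ j.succ c * rowHom R z * (X i.succ j.succ c)⁻¹ ∈
        (rowHom R).range) (fun a b ha hb => ?_) ?_ fun l _ => ?_
      · have := mul_mem ha hb
        rw [map_mul]
        simpa [mul_assoc] using this
      · simp
      · rw [rowHom_mulSingle]
        rcases eq_or_ne l i with rfl | hli
        · rw [chain_rev R (Fin.succ_ne_zero l).symm hij' (Fin.succ_ne_zero j).symm, mul_inv_cancel_right]
          exact mul_mem ⟨Pi.mulSingle j (Multiplicative.ofAdd _), rowHom_mulSingle R j _⟩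
            ⟨Pi.mulSingle l (Multiplicative.ofAdd _), rowHom_mulSingle R l _⟩
        · rw [R.comm _ _ _ _ hij' (Fin.succ_ne_zero l).symm ((Fin.succ_injective m).ne hli.symm)
            (Fin.succ_ne_zero j), mul_inv_cancel_right]
          exact ⟨Pi.mulSingle l (Multiplicative.ofAdd _), rowHom_mulSingle R l _⟩
    rw [Subgroup.mem_normalizer_iff]
    intro h
    constructor
    · rintro ⟨r, rfl⟩; exact step t r
    · intro hh
      obtain ⟨r, hr⟩ := hh
      have := step (-t) r
      rw [hr, x_neg R hij'] at this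
      simpa [mul_assoc] using this
  have hdec : stab X ≤ (rowHom R).range ⊔ ψ.range := by
    refine (Subgroup.closure_le _).2 ?_
    rintro _ ⟨i, j, t, hij, hj, rfl⟩
    obtain ⟨j, rfl⟩ := Fin.exists_succ_eq.2 hj
    induction i using Fin.cases with
    | zero => exact Subgroup.mem_sup_left ⟨Pi.mulSingle j (Multiplicative.ofAdd t), rowHom_mulSingle R j _⟩
    | succ i => exact Subgroup.mem_sup_right (hψrange i j (fun e => hij (congrArg Fin.succ e)) t)
  have hψact : ∀ (h : Matrix.SpecialLinearGroup (Fin m) F) (v : Fin (m + 1) → F),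
      (ρ (ψ h) • v) 0 = v 0 ∧ (fun i : Fin m => (ρ (ψ h) • v) i.succ) = h • fun i : Fin m => v i.succ := by
    let K : Subgroup (Matrix.SpecialLinearGroup (Fin m) F) :=
      { carrier := {h | ∀ v : Fin (m + 1) → F, (ρ (ψ h) • v) 0 = v 0 ∧
          (fun i : Fin m => (ρ (ψ h) • v) i.succ) = h • fun i : Fin m => v i.succ}
        one_mem' := fun v => by simp
        mul_mem' := fun {a b} ha hb v => by
          refine ⟨?_, ?_⟩
          · rw [map_mul, map_mul, mul_smul, (ha _).1, (hb v).1]
          · rw [map_mul, map_mul, mul_smul, (ha _).2, (hb v).2, mul_smul]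
        inv_mem' := fun {a} ha v => by
          obtain ⟨h1, h2⟩ := ha (ρ (ψ a⁻¹) • v)
          rw [← mul_smul, ← map_mul, ← map_mul, mul_inv_cancel, map_one, map_one, one_smul] at h1 h2
          exact ⟨h1.symm, by rw [h2, inv_smul_smul]⟩ }
    have hK : K = ⊤ := Cfsg.Agent.Lib.Linear.sl_eq_top_of_transvection_mem K fun i j hij t v => by
      have hij' : i.succ ≠ j.succ := (Fin.succ_injective m).ne hij
      rw [hψ, hρ _ _ hij']
      refine ⟨by simp [Pi.single_eq_of_ne (Fin.succ_ne_zero i).symm], ?_⟩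
      funext x
      rcases eq_or_ne x i with rfl | hx
      · simp [Matrix.SpecialLinearGroup.smul_def, Matrix.SpecialLinearGroup.transvection_coe, add_mulVec,
          single_mulVec_eq]
      · simp [Matrix.SpecialLinearGroup.smul_def, Matrix.SpecialLinearGroup.transvection_coe, add_mulVec,
          single_mulVec_eq, hx, Pi.single_eq_of_ne ((Fin.succ_injective m).ne hx)]
    intro h
    exact (show h ∈ K from hK ▸ trivial)
  have hrow : ∀ (r : Fin m → Multiplicative F) (v : Fin (m + 1) → F),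
      ρ (rowHom R r) • v = v + Pi.single 0 (∑ i : Fin m, (r i).toAdd * v i.succ) := by
    intro r
    rw [← Finset.univ_prod_mulSingle r]
    refine Finset.prod_induction _ (fun z => ∀ v : Fin (m + 1) → F,
      ρ (rowHom R z) • v = v + Pi.single 0 (∑ i : Fin m, (z i).toAdd * v i.succ)) (fun a b ha hb v => ?_)
      (fun v => by simp) fun l _ v => ?_
    · rw [map_mul, map_mul, mul_smul, hb, ha]
      have : ∀ i : Fin m, (v + Pi.single 0 (∑ x : Fin m, (b x).toAdd * v x.succ) : Fin (m + 1) → F) i.succ =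
          v i.succ := fun i => by simp [Pi.single_eq_of_ne (Fin.succ_ne_zero i)]
      simp only [this, Pi.mul_apply, toAdd_mul, add_mul, Finset.sum_add_distrib, Pi.single_add]
      abel
    · rw [rowHom_mulSingle, hρ _ _ (Fin.succ_ne_zero l).symm]
      congr 2
      rw [Finset.sum_eq_single l] <;> simp +contextual
  rw [← MonoidHom.ker_eq_bot_iff, eq_bot_iff]
  intro g hg
  have hmem := hdec (ker_le_stab R ρ hρ hgen hm hg)
  rw [← SetLike.mem_coe, Subgroup.coe_mul_of_right_le_normalizer_left _ _ hnorm] at hmem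
  obtain ⟨_, ⟨r, rfl⟩, _, ⟨h, rfl⟩, rfl⟩ := hmem
  have hg' : ∀ v : Fin (m + 1) → F, ρ (rowHom R r) • ρ (ψ h) • v = v := fun v => by
    rw [← mul_smul, ← map_mul, MonoidHom.mem_ker.1 hg, one_smul]
  have hh : h = 1 := by
    refine Cfsg.Agent.Lib.Linear.sl_ext_single fun k => ?_
    have h1 := hg' (Pi.single k.succ 1)
    have hs : (fun i : Fin m => (Pi.single k.succ 1 : Fin (m + 1) → F) i.succ) = Pi.single k 1 := by
      funext x
      rcases eq_or_ne x k with rfl | hx
      · simp
      · simp [hx, (Fin.succ_injective m).ne hx]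
    rw [one_smul, ← hs, ← (hψact h _).2]
    funext x
    have h2 := congrFun h1 x.succ
    rw [hrow, Pi.add_apply, Pi.single_eq_of_ne (Fin.succ_ne_zero x), add_zero] at h2
    exact h2
  subst hh
  simp only [map_one, one_smul] at hg'
  have hr : r = 1 := by
    funext k
    have h1 := congrFun (hg' (Pi.single k.succ 1)) 0
    rw [hrow, Pi.add_apply, Pi.single_eq_same, Pi.single_eq_of_ne (Fin.succ_ne_zero k).symm, zero_add] at h1
    rw [Finset.sum_eq_single k (fun x _ hx => by simp [(Fin.succ_injective m).ne hx]) (by simp),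
      Pi.single_eq_same, mul_one] at h1
    exact Multiplicative.toAdd.injective (h1.trans toAdd_one.symm)
  subst hr
  simp

end Step

/-- The relators of the presentation. -/
def rels (n : ℕ) (F : Type*) [Field F] : Set (FreeGroup ({ij : Fin n × Fin n // ij.1 ≠ ij.2} × F)) :=
  {g : FreeGroup ({ij : Fin n × Fin n // ij.1 ≠ ij.2} × F) |
      ∃ (a : {ij : Fin n × Fin n // ij.1 ≠ ij.2}) (t u : F),
        g = FreeGroup.of (a, t) * FreeGroup.of (a, u) * (FreeGroup.of (a, t + u))⁻¹} ∪
  {g | ∃ (a b : {ij : Fin n × Fin n // ij.1 ≠ ij.2}) (t u : F), a.1.1 ≠ b.1.2 ∧ a.1.2 ≠ b.1.1 ∧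
        g = FreeGroup.of (a, t) * FreeGroup.of (b, u) * (FreeGroup.of (a, t))⁻¹ * (FreeGroup.of (b, u))⁻¹} ∪
  {g | ∃ (a b : {ij : Fin n × Fin n // ij.1 ≠ ij.2}) (h : a.1.1 ≠ b.1.2) (t u : F), a.1.2 = b.1.1 ∧
        g = FreeGroup.of (a, t) * FreeGroup.of (b, u) * (FreeGroup.of (a, t))⁻¹ * (FreeGroup.of (b, u))⁻¹ *
          (FreeGroup.of (⟨(a.1.1, b.1.2), h⟩, t * u))⁻¹}

/-- The generators of the presented group as a family indexed by all pairs. -/
def gens (n : ℕ) (F : Type*) [Field F] (i j : Fin n) (t : F) : PresentedGroup (rels n F) :=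
  if h : i ≠ j then PresentedGroup.of (⟨(i, j), h⟩, t) else 1

theorem gens_rel (n : ℕ) : IsSLnRel (gens n F) := by
  constructor
  · intro i j hij t u
    simp only [gens, dif_pos hij]
    exact (mul_inv_eq_one.1 (PresentedGroup.one_of_mem (Or.inl (Or.inl ⟨⟨(i, j), hij⟩, t, u, rfl⟩)))).symm
  · intro i j k l hij hkl hil hjk t u
    simp only [gens, dif_pos hij, dif_pos hkl]
    have h := PresentedGroup.one_of_mem (rels := rels n F)
      (Or.inl (Or.inr ⟨⟨(i, j), hij⟩, ⟨(k, l), hkl⟩, t, u, hil, hjk, rfl⟩))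
    rw [map_mul, map_mul, map_mul, map_inv, map_inv, mul_inv_eq_one, mul_inv_eq_iff_eq_mul] at h
    exact h
  · intro i j l hij hjl hil t u
    simp only [gens, dif_pos hij, dif_pos hjl, dif_pos hil]
    have h := PresentedGroup.one_of_mem (rels := rels n F)
      (Or.inr ⟨⟨(i, j), hij⟩, ⟨(j, l), hjl⟩, hil, t, u, rfl, rfl⟩)
    rw [map_mul, map_mul, map_mul, map_mul, map_inv, map_inv, map_inv, mul_inv_eq_one, mul_inv_eq_iff_eq_mul,
      mul_inv_eq_iff_eq_mul] at h
    exact h

theorem rels_eval {n : ℕ} {X : Fin n → Fin n → F → G} (R : IsSLnRel X) :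
    ∀ r ∈ rels n F, FreeGroup.lift
      (fun p : {ij : Fin n × Fin n // ij.1 ≠ ij.2} × F => X p.1.1.1 p.1.1.2 p.2) r = 1 := by
  rintro r ((⟨a, t, u, rfl⟩ | ⟨a, b, t, u, h1, h2, rfl⟩) | ⟨a, b, h, t, u, h2, rfl⟩)
  · simp [R.add _ _ a.2]
  · simp only [map_mul, map_inv, FreeGroup.lift_apply_of]
    rw [mul_inv_eq_one, mul_inv_eq_iff_eq_mul]
    exact R.comm _ _ _ _ a.2 b.2 h1 h2 t u
  · obtain ⟨⟨i, j⟩, hij⟩ := a
    obtain ⟨⟨k, l⟩, hkl⟩ := b
    subst h2
    simp only [map_mul, map_inv, FreeGroup.lift_apply_of]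
    rw [mul_inv_eq_one, mul_inv_eq_iff_eq_mul, mul_inv_eq_iff_eq_mul]
    exact R.chain i j l hij hkl h t u

/-- The transvection family. -/
def trv (n : ℕ) (F : Type*) [Field F] (i j : Fin n) (t : F) : Matrix.SpecialLinearGroup (Fin n) F :=
  if h : i ≠ j then Matrix.SpecialLinearGroup.transvection h t else 1

theorem trv_smul {n : ℕ} {i j : Fin n} (h : i ≠ j) (t : F) (v : Fin n → F) :
    trv n F i j t • v = v + Pi.single i (t * v j) := by
  funext x
  rcases eq_or_ne x i with rfl | hx
  · simp [trv, h, Matrix.SpecialLinearGroup.smul_def, Matrix.SpecialLinearGroup.transvection_coe, add_mulVec,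
      single_mulVec_eq]
  · simp [trv, h, Matrix.SpecialLinearGroup.smul_def, Matrix.SpecialLinearGroup.transvection_coe, add_mulVec,
      single_mulVec_eq, hx]

theorem trv_rel (n : ℕ) : IsSLnRel (trv n F) := by
  constructor
  · intro i j hij t u
    refine Cfsg.Agent.Lib.Linear.sl_ext_single fun k => ?_
    simp [mul_smul, trv_smul hij, Pi.single_eq_of_ne hij.symm, add_mul, Pi.single_add]
    abel
  · intro i j k l hij hkl hil hjk t u
    refine Cfsg.Agent.Lib.Linear.sl_ext_single fun x => ?_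
    simp [mul_smul, trv_smul hij, trv_smul hkl, Pi.single_eq_of_ne hjk, Pi.single_eq_of_ne hil.symm]
    abel
  · intro i j l hij hjl hil t u
    refine Cfsg.Agent.Lib.Linear.sl_ext_single fun x => ?_
    simp [mul_smul, trv_smul hij, trv_smul hjl, trv_smul hil, Pi.single_eq_of_ne hij.symm,
      Pi.single_eq_of_ne hil.symm, Pi.single_eq_of_ne hjl.symm, mul_add, mul_assoc, Pi.single_add]
    abel

/-- Steinberg's presentation of `SL_n`. -/
theorem exists_presentation [Finite F] (n : ℕ) (hn : 3 ≤ n) :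
    ∃ e : PresentedGroup (rels n F) ≃* Matrix.SpecialLinearGroup (Fin n) F,
      ∀ a t, e (PresentedGroup.of (a, t)) = Matrix.SpecialLinearGroup.transvection a.2 t := by
  induction n, hn using Nat.le_induction with
  | base => exact step 2 le_rfl (by
      obtain ⟨ψ, hψ⟩ := exists_hom_two (gens_rel (F := F) 3) (a := 1) (b := 2) (k := 0) (by decide) (by decide)
        (by decide)
      refine ⟨ψ, fun i j hij t => ?_⟩
      rw [hψ]
      fin_cases i <;> fin_cases j <;> first | exact absurd rfl hij | rfl)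
  | succ n hn ih => exact step n (by omega) (by
      obtain ⟨e, he⟩ := ih
      let sub : Fin n → Fin n → F → PresentedGroup (rels (n + 1) F) := fun i j => gens (n + 1) F i.succ j.succ
      have hsub : IsSLnRel sub :=
        ⟨fun i j h => (gens_rel _).add _ _ ((Fin.succ_injective n).ne h),
          fun i j k l a b c d => (gens_rel _).comm _ _ _ _ ((Fin.succ_injective n).ne a)
            ((Fin.succ_injective n).ne b) ((Fin.succ_injective n).ne c) ((Fin.succ_injective n).ne d),
          fun i j l a b c => (gens_rel _).chain _ _ _ ((Fin.succ_injective n).ne a)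
            ((Fin.succ_injective n).ne b) ((Fin.succ_injective n).ne c)⟩
      refine ⟨(PresentedGroup.toGroup (rels_eval hsub)).comp e.symm.toMonoidHom, fun i j hij t => ?_⟩
      rw [MonoidHom.comp_apply, MulEquiv.coe_toMonoidHom, ← he ⟨(i, j), hij⟩ t, MulEquiv.symm_apply_apply]
      exact PresentedGroup.toGroup.of _)
where
  step (m : ℕ) (hm : 2 ≤ m)
      (h : ∃ ψ : Matrix.SpecialLinearGroup (Fin m) F →* PresentedGroup (rels (m + 1) F),
        ∀ i j (hij : i ≠ j) t, ψ (Matrix.SpecialLinearGroup.transvection hij t) = gens (m + 1) F i.succ j.succ t) :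
      ∃ e : PresentedGroup (rels (m + 1) F) ≃* Matrix.SpecialLinearGroup (Fin (m + 1)) F,
        ∀ a t, e (PresentedGroup.of (a, t)) = Matrix.SpecialLinearGroup.transvection a.2 t := by
    obtain ⟨ψ, hψ⟩ := h
    let ρ := PresentedGroup.toGroup (rels_eval (trv_rel (F := F) (m + 1)))
    have hρ : ∀ a t, ρ (PresentedGroup.of (a, t)) = Matrix.SpecialLinearGroup.transvection a.2 t := fun a t => by
      rw [PresentedGroup.toGroup.of]; simp [trv, a.2]
    have hρ' : ∀ i j, i ≠ j → ∀ (t : F) (v : Fin (m + 1) → F), ρ (gens (m + 1) F i j t) • v = v + Pi.single i (t * v j) := by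
      intro i j hij t v
      rw [gens, dif_pos hij, PresentedGroup.toGroup.of]
      exact trv_smul hij t v
    have hgen : Subgroup.closure {g | ∃ i j t, i ≠ j ∧ g = gens (m + 1) F i j t} = ⊤ := by
      rw [eq_top_iff, ← PresentedGroup.closure_range_of (rels (m + 1) F)]
      refine Subgroup.closure_mono ?_
      rintro _ ⟨⟨⟨⟨i, j⟩, hij⟩, t⟩, rfl⟩
      exact ⟨i, j, t, hij, by rw [gens, dif_pos hij]⟩
    have hinj := injective_of_rel (gens_rel (m + 1)) ρ hρ' hgen hm ψ hψ
    have hsurj : Function.Surjective ρ := by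
      rw [← MonoidHom.range_eq_top]
      apply Cfsg.Agent.Lib.Linear.sl_eq_top_of_transvection_mem
      intro i j hij c
      exact ⟨_, hρ ⟨(i, j), hij⟩ c⟩
    exact ⟨MulEquiv.ofBijective ρ ⟨hinj, hsurj⟩, hρ⟩

end Cfsg.Agent.Lib.Schur.SteinbergSLn
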