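/-
Homomorphisms from SL_n over a finite field lift through central extensions (outside the exceptional cases
(3,2), (3,4), (4,2)).
-/
import Mathlib
import Cfsg.Agent.Lib.Schur.Fusion
import Cfsg.Agent.Lib.Schur.SteinbergSLn

set_option autoImplicit false

namespace Cfsg.Agent.Lib.Schur.LiftSLn

open scoped commutatorElement
open Cfsg.Agent.Lib.Schur.Fusion
open Cfsg.Agent.Lib.Schur.SteinbergSLn (trv trv_rel trv_smul IsSLnRel chain_rev x_neg x_zero rels rels_eval)

variable {E Q : Type*} [Group E] [Group Q] {π : E →* Q} (hk : π.ker ≤ Subgroup.center E)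

include hk

/-- Commuting of lifts does not depend on the lifts. -/
theorem commute_congr {a a' b b' : E} (ha : π a = π a') (hb : π b = π b') (h : Commute a b) : Commute a' b' :=
  commutatorElement_eq_one_iff_commute.1 ((commutator_congr hk ha hb).symm.trans
    (commutatorElement_eq_one_iff_commute.2 h))

/-- An element commutes with every lift of a commutator of elements whose images it fixes. -/
theorem commute_of_commutator {e a b c : E} (ha : Commute (π e) (π a)) (hb : Commute (π e) (π b))
    (hc : π c = π ⁅a, b⁆) : Commute e c := by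
  refine commute_congr hk rfl hc.symm ?_
  have h : e * ⁅a, b⁆ * e⁻¹ = ⁅a, b⁆ := by
    rw [conjugate_commutatorElement]
    exact commutator_congr hk (by simp [map_mul, ha.eq]) (by simp [map_mul, hb.eq])
  exact mul_inv_eq_iff_eq_mul.1 h

/-- Additivity on the left when the left factor commutes with the commutator. -/
theorem commutator_mul_left_of_commute {a a' b : E} (h : Commute a ⁅a', b⁆) :
    ⁅a * a', b⁆ = ⁅a', b⁆ * ⁅a, b⁆ := by
  rw [commutatorElement_mul_left_eq_conj_mul, h.eq, mul_inv_cancel_right]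

/-- Additivity on the right when the left factor commutes with the commutator. -/
theorem commutator_mul_right_of_commute {a b b' : E} (h : Commute b ⁅a, b'⁆) :
    ⁅a, b * b'⁆ = ⁅a, b⁆ * ⁅a, b'⁆ := by
  rw [commutatorElement_mul_right_eq_mul_conj, mul_assoc ⁅a, b⁆, h.eq, mul_assoc, mul_assoc, mul_inv_cancel,
    mul_one]

variable {n : ℕ} {F : Type*} [Field F] (ρ : Matrix.SpecialLinearGroup (Fin n) F →* Q)
  (a : Fin n → Fin n → F → E) (ha : ∀ i j t, π (a i j t) = ρ (trv n F i j t))

include ha

theorem lift_image_commute {i j k l : Fin n} (hij : i ≠ j) (hkl : k ≠ l) (hil : i ≠ l) (hjk : j ≠ k) (t u : F) :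
    Commute (π (a i j t)) (π (a k l u)) := by
  rw [ha, ha]; exact Commute.map ((trv_rel n).comm i j k l hij hkl hil hjk t u) ρ

theorem lift_chain {i j l : Fin n} (hij : i ≠ j) (hjl : j ≠ l) (hil : i ≠ l) (t u : F) :
    π ⁅a i j t, a j l u⁆ = π (a i l (t * u)) := by
  rw [map_commutatorElement, ha, ha, ha, ← map_commutatorElement]
  congr 1
  rw [commutatorElement_def, (trv_rel n).chain i j l hij hjl hil]
  group

theorem lift_add {i j : Fin n} (hij : i ≠ j) (t u : F) :
    π (a i j (t + u)) = π (a i j t * a i j u) := by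
  rw [map_mul, ha, ha, ha, ← map_mul, (trv_rel n).add i j hij]

section

omit hk ha

theorem exists_scalar_of_card (F : Type*) [Field F] [Finite F] {m : ℕ} (hm : 0 < m)
    (hF : m + 1 < Nat.card F) : ∃ c : F, c ≠ 0 ∧ c ^ m ≠ 1 := by
  classical
  haveI := Fintype.ofFinite F
  by_contra hno
  push Not at hno
  have hsub : (Finset.univ.erase (0 : F)) ⊆ (Polynomial.nthRoots m (1 : F)).toFinset := by
    intro x hx
    rw [Multiset.mem_toFinset, Polynomial.mem_nthRoots hm]
    exact hno x (Finset.ne_of_mem_erase hx)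
  have h1 := (Finset.card_le_card hsub).trans ((Multiset.toFinset_card_le _).trans (Polynomial.card_nthRoots m 1))
  rw [Finset.card_erase_of_mem (Finset.mem_univ _), Finset.card_univ, ← Nat.card_eq_fintype_card] at h1
  omega

theorem eq_one_or_neg_one_of_card_three (F : Type*) [Field F] [Finite F] (hF : Nat.card F = 3) (x : F) :
    x = 0 ∨ x = 1 ∨ x = -1 := by
  rcases eq_or_ne x 0 with h | h
  · exact Or.inl h
  haveI := Fintype.ofFinite F
  have h2 := FiniteField.pow_card_sub_one_eq_one x h
  rw [← Nat.card_eq_fintype_card, hF] at h2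
  exact Or.inr (sq_eq_one_iff.1 h2)

end

variable (hπ : Function.Surjective π)

include hπ

/-- Pairs separated by a torus element. -/
theorem lifts_commute_torus {i j k l : Fin n} (hij : i ≠ j) (hkl : k ≠ l) (hil : i ≠ l) (hjk : j ≠ k)
    (hd : ∃ d : Fin n → F, (∏ x, d x) = 1 ∧ d k = d l ∧ d i ≠ d j) (t u : F) :
    Commute (a i j t) (a k l u) := by
  classical
  obtain ⟨d, hd1, hdkl, hdij⟩ := hd
  let h : Matrix.SpecialLinearGroup (Fin n) F := ⟨Matrix.diagonal d, by rw [Matrix.det_diagonal, hd1]⟩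
  have hd0 : ∀ x, d x ≠ 0 := fun x hx => by
    rw [Finset.prod_eq_zero (Finset.mem_univ x) hx] at hd1; exact one_ne_zero hd1.symm
  have hconj : ∀ p q, p ≠ q → ∀ s, h * trv n F p q s * h⁻¹ = trv n F p q (d p / d q * s) := by
    intro p q hpq s
    rw [mul_inv_eq_iff_eq_mul]
    refine Cfsg.Agent.Lib.Linear.sl_ext_single fun x => ?_
    have hs : ∀ v : Fin n → F, h • v = d * v := fun v => by
      funext y; show (Matrix.diagonal d).mulVec v y = _; simp [Matrix.mulVec_diagonal]
    simp only [mul_smul, hs, trv_smul hpq]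
    funext y
    rcases eq_or_ne y p with rfl | hy
    · simp only [Pi.mul_apply, Pi.add_apply, Pi.single_eq_same]
      field_simp [hd0 q]
    · simp [hy]
  obtain ⟨m, hm⟩ := hπ (ρ h)
  have hcom : ∀ s, Commute (π (a i j s)) (π (a k l u)) := fun s => lift_image_commute hk ρ a ha hij hkl hil hjk s u
  set α := d i / d j with hα
  have hα1 : α - 1 ≠ 0 := by
    rw [sub_ne_zero, hα, ne_eq, div_eq_one_iff_eq (hd0 j)]; exact hdij
  have hinv : ∀ s, ⁅a i j (α * s), a k l u⁆ = ⁅a i j s, a k l u⁆ := by
    intro s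
    refine commutator_conj hk (n := m) (hcom s) ?_ ?_
    · rw [hm, ha, ha, ← hconj i j hij, map_mul, map_mul, map_inv]
    · rw [hm, ha]
      conv_lhs => rw [← one_mul u, ← div_self (hd0 l)]
      nth_rewrite 1 [← hdkl]
      rw [← hconj k l hkl, map_mul, map_mul, map_inv]
  have hmul : ∀ s s', ⁅a i j (s + s'), a k l u⁆ = ⁅a i j s', a k l u⁆ * ⁅a i j s, a k l u⁆ := by
    intro s s'
    rw [commutator_congr hk (lift_add hk ρ a ha hij s s') (rfl : π (a k l u) = π (a k l u)),
      commutator_mul_left_of_commute hk (show Commute (a i j s) ⁅a i j s', a k l u⁆ from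
        (Subgroup.mem_center_iff.1 (central_of_commute hk (hcom s'))) _)]
  have key := hmul ((α - 1) * (t / (α - 1))) (t / (α - 1))
  rw [show (α - 1) * (t / (α - 1)) + t / (α - 1) = α * (t / (α - 1)) by ring, hinv, mul_div_cancel₀ _ hα1,
    left_eq_mul] at key
  exact commutatorElement_eq_one_iff_commute.1 key

/-- Disjoint pairs over three elements: a monomial element interchanges them. -/
theorem lifts_commute_three [Finite F] (hF : Nat.card F = 3) {i j k l : Fin n} (hij : i ≠ j) (hkl : k ≠ l)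
    (hil : i ≠ l) (hjk : j ≠ k) (hik : i ≠ k) (hjl : j ≠ l) (t u : F) : Commute (a i j t) (a k l u) := by
  classical
  let σ : Equiv.Perm (Fin n) := Equiv.swap i k * Equiv.swap j l
  let w : Matrix.SpecialLinearGroup (Fin n) F := ⟨σ.permMatrix F, by
    rw [Matrix.det_permutation]
    simp [σ, hik, hjl]⟩
  have hw : ∀ (v : Fin n → F) x, (w • v) x = v (σ x) := fun v x => by
    show (σ.permMatrix F).mulVec v x = _; simp [Matrix.permMatrix_mulVec]
  have σ1 : σ i = k := by simp [σ, Equiv.swap_apply_of_ne_of_ne hij hil]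
  have σ2 : σ j = l := by
    simp [σ, Equiv.swap_apply_of_ne_of_ne hil.symm hkl.symm]
  have σ3 : σ k = i := by simp [σ, Equiv.swap_apply_of_ne_of_ne hjk.symm hkl]
  have σ4 : σ l = j := by simp [σ, Equiv.swap_apply_of_ne_of_ne hij.symm hjk]
  have hconj : ∀ p q p' q', p ≠ q → p' ≠ q' → σ p' = p → σ q' = q → ∀ s,
      w * trv n F p q s * w⁻¹ = trv n F p' q' s := by
    intro p q p' q' hpq hpq' hp hq s
    rw [mul_inv_eq_iff_eq_mul]
    refine Cfsg.Agent.Lib.Linear.sl_ext_single fun x => ?_
    simp only [mul_smul, trv_smul hpq, trv_smul hpq']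
    funext y
    simp only [hw, Pi.add_apply, hq]
    congr 1
    rcases eq_or_ne y p' with rfl | hy
    · simp [hp]
    · rw [Pi.single_eq_of_ne hy, Pi.single_eq_of_ne]
      intro e; exact hy (σ.injective (e.trans hp.symm))
  obtain ⟨m, hm⟩ := hπ (ρ w)
  have hsym : ⁅a k l 1, a i j 1⁆ = ⁅a i j 1, a k l 1⁆ := by
    refine commutator_conj hk (n := m) (lift_image_commute hk ρ a ha hij hkl hil hjk 1 1) ?_ ?_
    · rw [hm, ha, ha, ← hconj i j k l hij hkl σ3 σ4, map_mul, map_mul, map_inv]
    · rw [hm, ha, ha, ← hconj k l i j hkl hij σ1 σ2, map_mul, map_mul, map_inv]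
  have h3 : (π (a k l 1)) ^ 3 = 1 := by
    rw [ha, ← map_pow, pow_three, ← (trv_rel n).add k l hkl, ← (trv_rel n).add k l hkl]
    haveI := Fintype.ofFinite F
    have : (1 : F) + (1 + 1) = ((3 : ℕ) : F) := by norm_num
    rw [this, show (3 : ℕ) = Fintype.card F by rw [← Nat.card_eq_fintype_card, hF],
      FiniteField.cast_card_eq_zero, x_zero (trv_rel n) hkl, map_one]
  have hc := lift_image_commute hk ρ a ha hij hkl hil hjk (1 : F) 1
  have h2 : ⁅a i j 1, a k l 1⁆ ^ 2 = 1 := by
    conv_lhs => rw [pow_two]; arg 1; rw [← commutatorElement_inv, hsym]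
    exact inv_mul_cancel _
  have h1 : Commute (a i j 1) (a k l 1) := by
    have h := commutator_pow_eq_one hk hc h3
    rw [pow_succ, h2, one_mul] at h
    exact commutatorElement_eq_one_iff_commute.1 h
  have cases' : ∀ p q, p ≠ q → ∀ s : F, π (a p q s) = π 1 ∨ π (a p q s) = π (a p q 1) ∨
      π (a p q s) = π (a p q 1)⁻¹ := by
    intro p q hpq s
    rcases eq_one_or_neg_one_of_card_three F hF s with rfl | rfl | rfl
    · left; rw [ha, x_zero (trv_rel n) hpq, map_one, map_one]
    · right; left; rfl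
    · right; right; rw [map_inv, ha, ha, x_neg (trv_rel n) hpq, map_inv]
  rcases cases' i j hij t with e | e | e <;> rcases cases' k l hkl u with e' | e' | e' <;>
    refine commute_congr hk e.symm e'.symm ?_ <;>
    first | exact Commute.one_left _ | exact Commute.one_right _ | exact h1 | exact h1.inv_left |
      exact h1.inv_right | exact h1.inv_left.inv_right

/-- Lifts of commuting transvections commute. -/
theorem lifts_commute [Finite F] (hn : 3 ≤ n) (hexc : (n, Nat.card F) ∉ ({(3, 2), (3, 4), (4, 2)} : Set (ℕ × ℕ)))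
    {i j k l : Fin n} (hij : i ≠ j) (hkl : k ≠ l) (hil : i ≠ l) (hjk : j ≠ k) (t u : F) :
    Commute (a i j t) (a k l u) := by
  classical
  by_cases hm : ∃ m : Fin n, m ≠ i ∧ m ≠ j ∧ m ≠ k ∧ m ≠ l
  · obtain ⟨m, hmi, hmj, hmk, hml⟩ := hm
    refine commute_of_commutator hk (a := a k m u) (b := a m l 1)
      (lift_image_commute hk ρ a ha hij hmk.symm hmi.symm hjk _ _)
      (lift_image_commute hk ρ a ha hij hml hil hmj.symm _ _) ?_
    rw [lift_chain hk ρ a ha hmk.symm hml hkl, mul_one]
  push Not at hm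
  simp only [Set.mem_insert_iff, Set.mem_singleton_iff, Prod.mk.injEq, not_or, not_and] at hexc
  have hq : 2 ≤ Nat.card F := Finite.one_lt_card
  have hle : n ≤ 4 := by
    have hsub : (Finset.univ : Finset (Fin n)) ⊆ {i, j, k, l} := fun x _ => by
      simp only [Finset.mem_insert, Finset.mem_singleton]
      by_contra hx
      push Not at hx
      exact hx.2.2.2 (hm x hx.1 hx.2.1 hx.2.2.1)
    simpa using (Finset.card_le_card hsub).trans Finset.card_le_four
  by_cases hdis : i ≠ k ∧ j ≠ l
  · obtain ⟨hik, hjl⟩ := hdis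
    have h4 : n = 4 := by
      refine le_antisymm hle ?_
      have := Finset.card_le_univ ({i, j, k, l} : Finset (Fin n))
      simpa [hij, hik, hil, hjk, hjl, hkl] using this
    have hF2 : Nat.card F ≠ 2 := hexc.2.2 h4
    by_cases hF3 : Nat.card F = 3
    · exact lifts_commute_three hk ρ a ha hπ hF3 hij hkl hil hjk hik hjl t u
    obtain ⟨c, hc0, hc⟩ := exists_scalar_of_card F (m := 2) (by norm_num) (by omega)
    refine lifts_commute_torus hk ρ a ha hπ hij hkl hil hjk
      ⟨Pi.mulSingle i c * Pi.mulSingle j c⁻¹, ?_, ?_, ?_⟩ t u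
    · simp [Finset.prod_mul_distrib, hc0]
    · simp [hik.symm, hil.symm, hjk.symm, hjl.symm]
    · simp only [Pi.mul_apply, Pi.mulSingle_eq_same, Pi.mulSingle_eq_of_ne hij, Pi.mulSingle_eq_of_ne hij.symm,
        mul_one, one_mul]
      intro e; apply hc; rw [pow_two]; nth_rewrite 1 [e]; exact inv_mul_cancel₀ hc0
  have h3 : n = 3 := by
    refine le_antisymm ?_ hn
    rw [not_and_or, not_not, not_not] at hdis
    have hsub : (Finset.univ : Finset (Fin n)) ⊆ ({i, j, l, k} : Finset (Fin n)) := fun x _ => by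
      simp only [Finset.mem_insert, Finset.mem_singleton]
      by_contra hx
      push Not at hx
      exact hx.2.2.1 (hm x hx.1 hx.2.1 hx.2.2.2)
    have hh := Finset.card_le_card hsub
    rcases hdis with rfl | rfl
    · exact le_trans (by simpa using hh) (by
        refine le_trans (Finset.card_le_card (t := {i, j, l}) ?_) Finset.card_le_three
        intro x; simp only [Finset.mem_insert, Finset.mem_singleton]; tauto)
    · exact le_trans (by simpa using hh) (by
        refine le_trans (Finset.card_le_card (t := {i, j, k}) ?_) Finset.card_le_three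
        intro x; simp only [Finset.mem_insert, Finset.mem_singleton]; tauto)
  have hq4 : Nat.card F ≠ 2 ∧ Nat.card F ≠ 4 := ⟨hexc.1 h3, hexc.2.1 h3⟩
  obtain ⟨c, hc0, hc⟩ : ∃ c : F, c ≠ 0 ∧ c ^ 3 ≠ 1 := by
    by_cases hF3 : Nat.card F = 3
    · refine ⟨-1, neg_ne_zero.2 one_ne_zero, fun e => ?_⟩
      rw [Odd.neg_one_pow (by decide)] at e
      haveI := Fintype.ofFinite F
      have h3 : ((3 : ℕ) : F) = 0 := by
        rw [show (3 : ℕ) = Fintype.card F by rw [← Nat.card_eq_fintype_card, hF3], FiniteField.cast_card_eq_zero]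
      exact one_ne_zero (α := F) (by push_cast at h3; linear_combination h3 + e)
    · exact exists_scalar_of_card F (by norm_num) (by omega)
  have hne : c⁻¹ ^ 2 ≠ c := fun e => hc (by
    have : c ^ 2 * c⁻¹ ^ 2 = 1 := by rw [← mul_pow, mul_inv_cancel₀ hc0, one_pow]
    rw [e] at this
    rw [pow_succ]; exact this)
  by_cases hik : i = k
  · subst hik
    refine lifts_commute_torus hk ρ a ha hπ hij hkl hil hjk
      ⟨fun x => if x = j then c⁻¹ ^ 2 else c, ?_, ?_, ?_⟩ t u
    · rw [Finset.prod_ite, Finset.prod_const, Finset.prod_const, Finset.filter_eq', Finset.filter_ne',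
        if_pos (Finset.mem_univ _), Finset.card_singleton, Finset.card_erase_of_mem (Finset.mem_univ _),
        Finset.card_univ, Fintype.card_fin, h3, pow_one, inv_pow]
      exact inv_mul_cancel₀ (pow_ne_zero 2 hc0)
    · by_cases hjl : j = l
      · exfalso
        subst hjl
        obtain ⟨x, hx1, hx2⟩ : ∃ x : Fin n, x ≠ i ∧ x ≠ j := by
          by_contra hx
          push Not at hx
          have : (Finset.univ : Finset (Fin n)) ⊆ {i, j} := fun x _ => by
            simp only [Finset.mem_insert, Finset.mem_singleton]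
            exact or_iff_not_imp_left.2 (hx x)
          have := (Finset.card_le_card this).trans Finset.card_le_two
          simp [h3] at this
        exact hx2 (hm x hx1 hx2 hx1)
      · simp [hij, Ne.symm hjl]
    · simpa [hij, inv_pow] using hne.symm
  · have hjl : j = l := by
      by_contra hjl
      exact hdis ⟨hik, hjl⟩
    subst hjl
    refine lifts_commute_torus hk ρ a ha hπ hij hkl hil hjk
      ⟨fun x => if x = i then c⁻¹ ^ 2 else c, ?_, ?_, ?_⟩ t u
    · rw [Finset.prod_ite, Finset.prod_const, Finset.prod_const, Finset.filter_eq', Finset.filter_ne',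
        if_pos (Finset.mem_univ _), Finset.card_singleton, Finset.card_erase_of_mem (Finset.mem_univ _),
        Finset.card_univ, Fintype.card_fin, h3, pow_one, inv_pow]
      exact inv_mul_cancel₀ (pow_ne_zero 2 hc0)
    · simp [Ne.symm hik, hij.symm]
    · simpa [hij.symm, inv_pow] using hne


section Main

variable [Finite F] (hn : 3 ≤ n) (hexc : n = 3 → Nat.card F ≠ 2 ∧ Nat.card F ≠ 4)
  (hcom : ∀ i j k l : Fin n, i ≠ j → k ≠ l → i ≠ l → j ≠ k → ∀ (t u : F) (A B : E),
    π A = ρ (trv n F i j t) → π B = ρ (trv n F k l u) → Commute A B)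

include hn hexc hcom

/-- Additivity of the commutator of lifts on the left. -/
theorem bracket_add_left {i k j : Fin n} (hik : i ≠ k) (hkj : k ≠ j) (hij : i ≠ j) (t t' u : F) :
    ⁅a i k (t + t'), a k j u⁆ = ⁅a i k t', a k j u⁆ * ⁅a i k t, a k j u⁆ := by
  rw [commutator_congr hk (lift_add hk ρ a ha hik t t') (rfl : π (a k j u) = π (a k j u))]
  refine commutator_mul_left_of_commute hk (commute_congr hk rfl (lift_chain hk ρ a ha hik hkj hij t' u).symm ?_)
  exact hcom _ _ _ _ hik hij hij hik.symm _ _ _ _ (ha _ _ _) (ha _ _ _) 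

/-- Additivity of the commutator of lifts on the right. -/
theorem bracket_add_right {i k j : Fin n} (hik : i ≠ k) (hkj : k ≠ j) (hij : i ≠ j) (t u u' : F) :
    ⁅a i k t, a k j (u + u')⁆ = ⁅a i k t, a k j u⁆ * ⁅a i k t, a k j u'⁆ := by
  rw [commutator_congr hk (rfl : π (a i k t) = π (a i k t)) (lift_add hk ρ a ha hkj u u')]
  refine commutator_mul_right_of_commute hk (commute_congr hk rfl (lift_chain hk ρ a ha hik hkj hij t u').symm ?_)
  exact hcom _ _ _ _ hkj hij hkj hij.symm _ _ _ _ (ha _ _ _) (ha _ _ _) 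

theorem bracket_neg_right {i k j : Fin n} (hik : i ≠ k) (hkj : k ≠ j) (hij : i ≠ j) (t u : F) :
    ⁅a i k t, a k j (-u)⁆ = ⁅a i k t, a k j u⁆⁻¹ := by
  rw [eq_inv_iff_mul_eq_one, ← bracket_add_right hk ρ a ha hπ hn hexc hcom hik hkj hij, neg_add_cancel,
    commutatorElement_eq_one_iff_commute]
  refine commute_congr hk rfl (show π 1 = π (a k j 0) by rw [ha, x_zero (trv_rel n) hkj, map_one, map_one]) ?_
  exact Commute.one_right _

/-- Two middle indices give the same commutator. -/
theorem bracket_shift {i k l j : Fin n} (hik : i ≠ k) (hkj : k ≠ j) (hij : i ≠ j) (hil : i ≠ l) (hlk : l ≠ k)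
    (hlj : l ≠ j) (t u v : F) :
    ⁅a i k t, a k j (u * v)⁆ = ⁅a i l (t * u), a l j v⁆ := by
  set A := a i k t with hA
  set B := a k l u with hB
  set c := a l j v with hc
  set L := ⁅A, B⁆ with hL
  have hLimg : π L = π (a i l (t * u)) := lift_chain hk ρ a ha hik hlk.symm hil t u
  rw [← commutator_congr hk hLimg (rfl : π c = π c), ← commutatorElement_inv c L]
  have h1 : c * A * c⁻¹ = A := mul_inv_eq_iff_eq_mul.2
    (hcom _ _ _ _ hlj hik hlk hij.symm _ _ _ _ (ha _ _ _) (ha _ _ _) )
  have h2 : π (c * B * c⁻¹) = π (a k j (-(u * v)) * B) := by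
    rw [map_mul, map_mul, map_inv, map_mul, hc, hB, ha, ha, ha, ← map_mul ρ, ← map_mul ρ, ← map_inv,
      ← map_mul ρ, chain_rev (trv_rel n) hlk.symm hlj hkj, mul_inv_cancel_right]
  have h3 : c * L * c⁻¹ = ⁅A, a k j (-(u * v))⁆ * L := by
    rw [hL, conjugate_commutatorElement, h1, commutator_congr hk (rfl : π A = π A) h2]
    refine commutator_mul_right_of_commute hk (commute_congr hk rfl hLimg.symm ?_)
    exact hcom _ _ _ _ hkj hil hlk.symm hij.symm _ _ _ _ (ha _ _ _) (ha _ _ _) 
  rw [commutatorElement_def c L, h3, mul_inv_cancel_right, bracket_neg_right hk ρ a ha hπ hn hexc hcom hik hkj hij,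
    inv_inv]

/-- The lifted root element given by any middle index and any factorisation. -/
theorem bracket_balance {i k j : Fin n} (hik : i ≠ k) (hkj : k ≠ j) (hij : i ≠ j) (t u : F) :
    ⁅a i k t, a k j u⁆ = ⁅a i k (t * u), a k j 1⁆ := by
  classical
  by_cases h4 : ∃ l : Fin n, l ≠ i ∧ l ≠ k ∧ l ≠ j
  · obtain ⟨l, hli, hlk, hlj⟩ := h4
    have e1 := bracket_shift hk ρ a ha hπ hn hexc hcom hik hkj hij hli.symm hlk hlj t u 1
    have e2 := bracket_shift hk ρ a ha hπ hn hexc hcom hik hkj hij hli.symm hlk hlj (t * u) 1 1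
    simp only [mul_one] at e1 e2
    rw [e1, e2]
  push Not at h4
  have h3 : n = 3 := by
    refine le_antisymm ?_ hn
    have hsub : (Finset.univ : Finset (Fin n)) ⊆ {i, k, j} := fun x _ => by
      simp only [Finset.mem_insert, Finset.mem_singleton]
      by_contra hx
      push Not at hx
      exact hx.2.2 (h4 x hx.1 hx.2.1)
    simpa using (Finset.card_le_card hsub).trans Finset.card_le_three
  obtain ⟨c, hc0, hc⟩ : ∃ c : F, c ≠ 0 ∧ c ^ 3 ≠ 1 := by
    by_cases hF3 : Nat.card F = 3
    · refine ⟨-1, neg_ne_zero.2 one_ne_zero, fun e => ?_⟩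
      rw [Odd.neg_one_pow (by decide)] at e
      haveI := Fintype.ofFinite F
      have h3 : ((3 : ℕ) : F) = 0 := by
        rw [show (3 : ℕ) = Fintype.card F by rw [← Nat.card_eq_fintype_card, hF3], FiniteField.cast_card_eq_zero]
      exact one_ne_zero (α := F) (by push_cast at h3; linear_combination h3 + e)
    · have := (hexc h3).1
      have := (hexc h3).2
      have : 2 ≤ Nat.card F := Finite.one_lt_card
      exact exists_scalar_of_card F (by norm_num) (by omega)
  let d : Fin n → F := fun x => if x = i then c⁻¹ ^ 2 else c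
  have hd1 : ∏ x, d x = 1 := by
    rw [Finset.prod_ite, Finset.prod_const, Finset.prod_const, Finset.filter_eq', Finset.filter_ne',
      if_pos (Finset.mem_univ _), Finset.card_singleton, Finset.card_erase_of_mem (Finset.mem_univ _),
      Finset.card_univ, Fintype.card_fin, h3, pow_one, inv_pow]
    exact inv_mul_cancel₀ (pow_ne_zero 2 hc0)
  let h : Matrix.SpecialLinearGroup (Fin n) F := ⟨Matrix.diagonal d, by rw [Matrix.det_diagonal, hd1]⟩
  have hd0 : ∀ x, d x ≠ 0 := fun x hx => by
    rw [Finset.prod_eq_zero (Finset.mem_univ x) hx] at hd1; exact one_ne_zero hd1.symm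
  have hconj : ∀ p q, p ≠ q → ∀ s, h * trv n F p q s * h⁻¹ = trv n F p q (d p / d q * s) := by
    intro p q hpq s
    rw [mul_inv_eq_iff_eq_mul]
    refine Cfsg.Agent.Lib.Linear.sl_ext_single fun x => ?_
    have hs : ∀ v : Fin n → F, h • v = d * v := fun v => by
      funext y; show (Matrix.diagonal d).mulVec v y = _; simp [Matrix.mulVec_diagonal]
    simp only [mul_smul, hs, trv_smul hpq]
    funext y
    rcases eq_or_ne y p with rfl | hy
    · simp only [Pi.mul_apply, Pi.add_apply, Pi.single_eq_same]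
      field_simp [hd0 q]
    · simp [hy]
  obtain ⟨m, hm⟩ := hπ (ρ h)
  set α := d i / d k with hα
  have hkj1 : d k / d j = 1 := by simp [d, hik.symm, hij.symm, hc0]
  have hα1 : α - 1 ≠ 0 := by
    rw [sub_ne_zero, hα, ne_eq, div_eq_one_iff_eq (hd0 k)]
    simp only [d, if_pos, if_neg hik.symm]
    intro e; apply hc
    have : c ^ 2 * c⁻¹ ^ 2 = 1 := by rw [← mul_pow, mul_inv_cancel₀ hc0, one_pow]
    rw [e] at this
    rw [pow_succ]; exact this
  -- the defect
  let D : F → E := fun s => ⁅a i k s, a k j u⁆ * ⁅a i k (s * u), a k j 1⁆⁻¹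
  have hDc : ∀ s, D s ∈ Subgroup.center E := fun s => hk (by
    rw [MonoidHom.mem_ker, map_mul, map_inv, lift_chain hk ρ a ha hik hkj hij,
      lift_chain hk ρ a ha hik hkj hij, mul_one, mul_inv_cancel])
  have hmove : ∀ s w, ⁅a i k (α * s), a k j w⁆ = m * ⁅a i k s, a k j w⁆ * m⁻¹ := by
    intro s w
    rw [conjugate_commutatorElement]
    refine commutator_congr hk ?_ ?_
    · rw [map_mul, map_mul, map_inv, hm, ha, ha, ← hconj i k hik, map_mul, map_mul, map_inv]
    · conv_lhs => rw [ha, ← one_mul w, ← hkj1, ← hconj k j hkj, map_mul, map_mul, map_inv, ← hm, ← ha]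
      rw [map_mul, map_mul, map_inv]
  have hinv : ∀ s, D (α * s) = D s := by
    intro s
    show ⁅_, _⁆ * ⁅_, _⁆⁻¹ = _
    rw [mul_assoc α, hmove, hmove]
    calc _ = m * D s * m⁻¹ := by simp [D, mul_assoc]
      _ = D s := by rw [Subgroup.mem_center_iff.1 (hDc s) m, mul_inv_cancel_right]
  have hmul : ∀ s s', D (s + s') = D s' * D s := by
    intro s s'
    show ⁅_, _⁆ * ⁅_, _⁆⁻¹ = _
    rw [add_mul, bracket_add_left hk ρ a ha hπ hn hexc hcom hik hkj hij,
      bracket_add_left hk ρ a ha hπ hn hexc hcom hik hkj hij, mul_inv_rev]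
    rw [show ⁅a i k s', a k j u⁆ * ⁅a i k s, a k j u⁆ * (⁅a i k (s * u), a k j 1⁆⁻¹ *
        ⁅a i k (s' * u), a k j 1⁆⁻¹) = ⁅a i k s', a k j u⁆ * (D s * ⁅a i k (s' * u), a k j 1⁆⁻¹) by
      simp [D, mul_assoc], ← Subgroup.mem_center_iff.1 (hDc s) (⁅a i k (s' * u), a k j 1⁆⁻¹), ← mul_assoc]
  have key := hmul ((α - 1) * (t / (α - 1))) (t / (α - 1))
  rw [show (α - 1) * (t / (α - 1)) + t / (α - 1) = α * (t / (α - 1)) by ring, hinv, mul_div_cancel₀ _ hα1,
    left_eq_mul] at key
  exact mul_inv_eq_one.1 key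

omit ha a in
/-- **Lifting** when the lifts of commuting transvections commute. -/
theorem exists_lift_of_commute : ∃ τ : Matrix.SpecialLinearGroup (Fin n) F →* E, π.comp τ = ρ := by
  classical
  obtain ⟨a, ha⟩ : ∃ a : Fin n → Fin n → F → E, ∀ i j t, π (a i j t) = ρ (trv n F i j t) :=
    ⟨fun i j t => Function.surjInv hπ (ρ (trv n F i j t)), fun i j t => Function.surjInv_eq hπ _⟩
  have hmid : ∀ i j : Fin n, ∃ k, k ≠ i ∧ k ≠ j := by
    intro i j
    by_contra h
    push Not at h
    have hsub : (Finset.univ : Finset (Fin n)) ⊆ {i, j} := fun x _ => by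
      simp only [Finset.mem_insert, Finset.mem_singleton]
      exact or_iff_not_imp_left.2 (h x)
    have := (Finset.card_le_card hsub).trans Finset.card_le_two
    rw [Finset.card_univ, Fintype.card_fin] at this
    omega
  choose mid hmi hmj using hmid
  let X : Fin n → Fin n → F → E := fun i j t => ⁅a i (mid i j) t, a (mid i j) j 1⁆
  have hX : ∀ i j, i ≠ j → ∀ t, π (X i j t) = π (a i j t) := fun i j hij t => by
    rw [lift_chain hk ρ a ha (hmi i j).symm (hmj i j) hij, mul_one]
  have hK : ∀ i k j, i ≠ k → k ≠ j → i ≠ j → ∀ t u, ⁅a i k t, a k j u⁆ = X i j (t * u) := by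
    intro i k j hik hkj hij t u
    rw [bracket_balance hk ρ a ha hπ hn hexc hcom hik hkj hij]
    rcases eq_or_ne (mid i j) k with e | e
    · show _ = ⁅_, _⁆
      rw [e]
    · have h := bracket_shift hk ρ a ha hπ hn hexc hcom hik hkj hij (hmi i j).symm e (hmj i j) (t * u) 1 1
      simpa using h
  have hcomm : ∀ i j k l, i ≠ j → k ≠ l → i ≠ l → j ≠ k → ∀ t u, Commute (X i j t) (X k l u) :=
    fun i j k l hij hkl hil hjk t u => commute_congr hk (hX i j hij t).symm (hX k l hkl u).symm
      (hcom _ _ _ _ hij hkl hil hjk _ _ _ _ (ha _ _ _) (ha _ _ _) )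
  have R : IsSLnRel X := by
    constructor
    · intro i j hij t u
      show ⁅_, _⁆ = _
      rw [bracket_add_left hk ρ a ha hπ hn hexc hcom (hmi i j).symm (hmj i j) hij]
      exact (hcomm i j i j hij hij hij hij.symm u t).eq
    · exact fun i j k l hij hkl hil hjk t u => (hcomm i j k l hij hkl hil hjk t u).eq
    · intro i j l hij hjl hil t u
      rw [← hK i j l hij hjl hil t u, ← commutator_congr hk (hX i j hij t) (hX j l hjl u)]
      simp [commutatorElement_def, mul_assoc]
  obtain ⟨e, he⟩ := SteinbergSLn.exists_presentation (F := F) n hn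
  refine ⟨(PresentedGroup.toGroup (rels_eval R)).comp e.symm.toMonoidHom, ?_⟩
  have htop : ((π.comp ((PresentedGroup.toGroup (rels_eval R)).comp e.symm.toMonoidHom)).eqLocus ρ) = ⊤ := by
    refine Cfsg.Agent.Lib.Linear.sl_eq_top_of_transvection_mem _ fun i j hij c => ?_
    show π _ = ρ _
    rw [MonoidHom.comp_apply, MulEquiv.coe_toMonoidHom, ← he ⟨(i, j), hij⟩ c, MulEquiv.symm_apply_apply,
      PresentedGroup.toGroup.of, hX i j hij, ha]
    simp [trv, hij, he]
  exact MonoidHom.ext fun g => (show g ∈ _ from htop ▸ (Subgroup.mem_top g))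

end Main

omit ha a in
/-- **Lifting**: homomorphisms out of `SL_n` lift through central extensions. -/
theorem exists_lift [Finite F] (hn : 3 ≤ n)
    (hexc : (n, Nat.card F) ∉ ({(3, 2), (3, 4), (4, 2)} : Set (ℕ × ℕ))) :
    ∃ τ : Matrix.SpecialLinearGroup (Fin n) F →* E, π.comp τ = ρ := by
  obtain ⟨a, ha⟩ : ∃ a : Fin n → Fin n → F → E, ∀ i j t, π (a i j t) = ρ (trv n F i j t) :=
    ⟨fun i j t => Function.surjInv hπ (ρ (trv n F i j t)), fun i j t => Function.surjInv_eq hπ _⟩
  refine exists_lift_of_commute hk ρ hπ hn (fun h3 => ?_) fun i j k l hij hkl hil hjk t u A B hA hB =>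
    commute_congr hk ((ha i j t).trans hA.symm) ((ha k l u).trans hB.symm)
      (lifts_commute hk ρ a ha hπ hn hexc hij hkl hil hjk t u)
  simp only [Set.mem_insert_iff, Set.mem_singleton_iff, Prod.mk.injEq, not_or, not_and] at hexc
  exact ⟨hexc.1 h3, hexc.2.1 h3⟩

end Cfsg.Agent.Lib.Schur.LiftSLn
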