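/-
Homomorphisms from SL₂ over a finite field with at least four elements lift through central extensions, except
for four and nine elements.
-/
import Mathlib
import Cfsg.Agent.Lib.Schur.Fusion
import Cfsg.Agent.Lib.Schur.SteinbergSL2
import Cfsg.Agent.Lib.Schur.LiftSLn

set_option autoImplicit false

namespace Cfsg.Agent.Lib.Schur.LiftSL2

open scoped commutatorElement
open Cfsg.Agent.Lib.Schur.Fusion
open Cfsg.Agent.Lib.Schur.SteinbergSL2 (trv trv_rel IsSL2Rel wElt)

/-- A finite field with other than four or nine elements is a prime field or contains a suitable square. -/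
theorem exists_good_square (F : Type*) [Field F] [Finite F] (h4 : Nat.card F ≠ 4) (h9 : Nat.card F ≠ 9) :
    (Nat.card F).Prime ∨ ∃ r s : F, r ≠ 0 ∧ s ≠ 0 ∧ r ^ 2 + 1 = s ^ 2 ∧ (r ^ 2) ^ 2 + r ^ 2 + 1 ≠ 0 := by
  classical
  haveI := Fintype.ofFinite F
  obtain ⟨p, hchar⟩ := CharP.exists F
  obtain ⟨k, hp, hcard⟩ := FiniteField.card F p
  rw [← Nat.card_eq_fintype_card] at hcard
  rcases eq_or_ne (k : ℕ) 1 with hk1 | hk1
  · left; rw [hcard, hk1, pow_one]; exact hp
  right
  have hk2 : 2 ≤ (k : ℕ) := by have := k.pos; omega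
  by_cases hp2 : p = 2
  · subst hp2
    have hq : 8 ≤ Nat.card F := by
      rw [hcard] at h4 ⊢
      have : (k : ℕ) ≠ 2 := fun e => h4 (by rw [e]; norm_num)
      calc 8 = 2 ^ 3 := by norm_num
        _ ≤ _ := Nat.pow_le_pow_right (by norm_num) (by omega)
    let bad : Finset F := {0, 1} ∪ (Polynomial.X ^ 2 + Polynomial.X + 1 : Polynomial F).roots.toFinset
    have hbad : bad.card < Nat.card F := by
      have h1 : (Polynomial.X ^ 2 + Polynomial.X + 1 : Polynomial F).roots.toFinset.card ≤ 2 :=
        (Multiset.toFinset_card_le _).trans ((Polynomial.card_roots' _).trans (by compute_degree!))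
      have h2 : ({0, 1} : Finset F).card ≤ 2 := Finset.card_le_two
      have h3 := Finset.card_union_le ({0, 1} : Finset F)
        (Polynomial.X ^ 2 + Polynomial.X + 1 : Polynomial F).roots.toFinset
      simp only [bad]
      omega
    obtain ⟨r, hr⟩ : ∃ r : F, r ∉ bad := by
      by_contra h
      push Not at h
      have := Finset.card_le_card (show (Finset.univ : Finset F) ⊆ bad from fun x _ => h x)
      rw [Finset.card_univ, ← Nat.card_eq_fintype_card] at this
      omega
    simp only [bad, Finset.mem_union, Finset.mem_insert, Finset.mem_singleton, Multiset.mem_toFinset,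
      not_or] at hr
    obtain ⟨⟨hr0, hr1⟩, hr2⟩ := hr
    have h2 : (2 : F) = 0 := by exact_mod_cast CharP.cast_eq_zero F 2
    have hpoly : r ^ 2 + r + 1 ≠ 0 := by
      intro e; apply hr2
      rw [Polynomial.mem_roots]
      · simpa using e
      · intro h0; have := congrArg (Polynomial.eval 0) h0; simp at this
    refine ⟨r, r + 1, hr0, fun e => hr1 ?_, by linear_combination -r * h2, fun e => hpoly ?_⟩
    · linear_combination e - h2
    · have : (r ^ 2 + r + 1) ^ 2 = 0 := by linear_combination e + (r ^ 3 + r ^ 2 + r) * h2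
      exact (pow_eq_zero_iff two_ne_zero).1 this
  · have hq : 14 ≤ Nat.card F := by
      rw [hcard] at h9 ⊢
      have hp3 : 3 ≤ p := by have := hp.two_le; omega
      by_cases hp3' : p = 3
      · subst hp3'
        have : (k : ℕ) ≠ 2 := fun e => h9 (by rw [e]; norm_num)
        calc 14 ≤ 3 ^ 3 := by norm_num
          _ ≤ _ := Nat.pow_le_pow_right (by norm_num) (by omega)
      · have hp5 : 5 ≤ p := by
          rcases Nat.lt_or_ge p 5 with h | h
          · interval_cases p <;> first | omega | exact absurd hp (by norm_num)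
          · exact h
        calc 14 ≤ 5 ^ 2 := by norm_num
          _ ≤ p ^ 2 := Nat.pow_le_pow_left hp5 2
          _ ≤ _ := Nat.pow_le_pow_right (by omega) hk2
    have h2 : (2 : F) ≠ 0 := Ring.two_ne_zero (by rw [ringChar.eq F p]; exact hp2)
    let f : Polynomial F := (Polynomial.X ^ 2 - 1) ^ 4 + Polynomial.C 4 * Polynomial.X ^ 2 *
      (Polynomial.X ^ 2 - 1) ^ 2 + Polynomial.C 16 * Polynomial.X ^ 4
    let g : Polynomial F := Polynomial.X ^ 5 - Polynomial.X
    let bad : Finset F := f.roots.toFinset ∪ g.roots.toFinset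
    have hbad : bad.card < Nat.card F := by
      have h1 : f.roots.toFinset.card ≤ 8 :=
        (Multiset.toFinset_card_le _).trans ((Polynomial.card_roots' _).trans (by simp only [f]; compute_degree!))
      have h3 : g.roots.toFinset.card ≤ 5 :=
        (Multiset.toFinset_card_le _).trans ((Polynomial.card_roots' _).trans (by simp only [g]; compute_degree!))
      have := Finset.card_union_le f.roots.toFinset g.roots.toFinset
      simp only [bad]
      omega
    obtain ⟨w, hw⟩ : ∃ w : F, w ∉ bad := by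
      by_contra h
      push Not at h
      have := Finset.card_le_card (show (Finset.univ : Finset F) ⊆ bad from fun x _ => h x)
      rw [Finset.card_univ, ← Nat.card_eq_fintype_card] at this
      omega
    simp only [bad, Finset.mem_union, Multiset.mem_toFinset, not_or] at hw
    have hf0 : f ≠ 0 := fun h0 => by have := congrArg (Polynomial.eval 0) h0; simp [f] at this
    have hg0 : g ≠ 0 := fun h0 => by
      have := congrArg (fun P => Polynomial.coeff P 1) h0
      simp [g, Polynomial.coeff_X_pow] at this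
    rw [Polynomial.mem_roots hf0, Polynomial.mem_roots hg0] at hw
    have hgw : w ^ 5 - w ≠ 0 := fun e => hw.2 (by simpa [g] using e)
    have hfw : (w ^ 2 - 1) ^ 4 + 4 * w ^ 2 * (w ^ 2 - 1) ^ 2 + 16 * w ^ 4 ≠ 0 := fun e => hw.1 (by simpa [f] using e)
    have hw0 : w ≠ 0 := fun e => hgw (by rw [e]; ring)
    have h2w : 2 * w ≠ 0 := mul_ne_zero h2 hw0
    refine ⟨(w ^ 2 - 1) / (2 * w), (w ^ 2 + 1) / (2 * w), div_ne_zero (fun e => hgw ?_) h2w,
      div_ne_zero (fun e => hgw ?_) h2w, by field_simp; ring, fun e => hfw ?_⟩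
    · linear_combination (w * (w ^ 2 + 1)) * e
    · linear_combination (w * (w ^ 2 - 1)) * e
    · field_simp at e; linear_combination e

variable {E Q : Type*} [Group E] [Group Q] {π : E →* Q} (hk : π.ker ≤ Subgroup.center E)
  (hπ : Function.Surjective π) {F : Type*} [Field F] [Finite F]
  (ρ : Matrix.SpecialLinearGroup (Fin 2) F →* Q)

/-- The torus element. -/
def torus (c : F) (hc : c ≠ 0) : Matrix.SpecialLinearGroup (Fin 2) F :=
  ⟨!![c, 0; 0, c⁻¹], by simp [Matrix.det_fin_two, hc]⟩

/-- The scaling of a root by the torus. -/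
def scale (c : F) (b : Bool) : F := if b then c ^ 2 else (c ^ 2)⁻¹

omit [Finite F] in
theorem torus_conj (c : F) (hc : c ≠ 0) (b : Bool) (s : F) :
    torus c hc * trv F b s * (torus c hc)⁻¹ = trv F b (scale c b * s) := by
  have ht : (torus c hc : Matrix (Fin 2) (Fin 2) F) = !![c, 0; 0, c⁻¹] := rfl
  have hx : ∀ u : F, (trv F true u : Matrix (Fin 2) (Fin 2) F) = !![1, u; 0, 1] := fun u => rfl
  have hy : ∀ u : F, (trv F false u : Matrix (Fin 2) (Fin 2) F) = !![1, 0; u, 1] := fun u => rfl
  rw [mul_inv_eq_iff_eq_mul]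
  cases b <;> apply Matrix.SpecialLinearGroup.ext <;> intro i j <;>
    simp only [Matrix.SpecialLinearGroup.coe_mul, ht, hx, hy] <;>
    fin_cases i <;> fin_cases j <;> simp [scale, Matrix.mul_apply, Fin.sum_univ_two] <;> field_simp

omit [Finite F] in
theorem trv_comm (b : Bool) (s t : F) : Commute (trv F b s) (trv F b t) := by
  show _ * _ = _ * _
  rw [← (trv_rel F).add, ← (trv_rel F).add, add_comm]

omit [Finite F] in
theorem weyl_conj_torus (c : F) (hc : c ≠ 0) (b : Bool) {t : F} (ht : t ≠ 0) :
    wElt (trv F) b t * torus c hc * (wElt (trv F) b t)⁻¹ = (torus c hc)⁻¹ := by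
  have hT : (torus c hc : Matrix (Fin 2) (Fin 2) F) = !![c, 0; 0, c⁻¹] := rfl
  have hx : ∀ u : F, (trv F true u : Matrix (Fin 2) (Fin 2) F) = !![1, u; 0, 1] := fun u => rfl
  have hy : ∀ u : F, (trv F false u : Matrix (Fin 2) (Fin 2) F) = !![1, 0; u, 1] := fun u => rfl
  rw [mul_inv_eq_iff_eq_mul, eq_inv_mul_iff_mul_eq]
  cases b <;> apply Matrix.SpecialLinearGroup.ext <;> intro i j <;>
    simp only [wElt, Bool.not_true, Bool.not_false, Matrix.SpecialLinearGroup.coe_mul, hT, hx, hy] <;>
    fin_cases i <;> fin_cases j <;>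
      simp [Matrix.mul_apply, Fin.sum_univ_two] <;> field_simp <;> first | ring1 | simp | (ring_nf; simp)

include hk hπ

theorem lifts_commute (h4 : Nat.card F ≠ 4) (h9 : Nat.card F ≠ 9) (b : Bool) (s t : F) (A B : E)
    (hA : π A = ρ (trv F b s)) (hB : π B = ρ (trv F b t)) : Commute A B := by
  classical
  choose L hL using fun u : F => hπ (ρ (trv F b u))
  suffices h : Commute (L s) (L t) from LiftSLn.commute_congr hk ((hL s).trans hA.symm) ((hL t).trans hB.symm) h
  have hcom : ∀ u v, Commute (π (L u)) (π (L v)) := fun u v => by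
    rw [hL, hL]; exact (trv_comm b u v).map ρ
  have hadd : ∀ u v, π (L (u + v)) = π (L u * L v) := fun u v => by
    rw [map_mul, hL, hL, hL, ← map_mul, (trv_rel F).add]
  have haddr : ∀ u v w, ⁅L u, L (v + w)⁆ = ⁅L u, L v⁆ * ⁅L u, L w⁆ := fun u v w => by
    rw [commutator_congr hk (rfl : π (L u) = π (L u)) (hadd v w)]
    exact commutator_mul_right hk (hcom u w)
  have haddl : ∀ u v w, ⁅L (u + v), L w⁆ = ⁅L v, L w⁆ * ⁅L u, L w⁆ := fun u v w => by
    rw [commutator_congr hk (hadd u v) (rfl : π (L w) = π (L w)), LiftSLn.commutator_mul_left_of_commute hk]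
    exact Subgroup.mem_center_iff.1 (central_of_commute hk (hcom v w)) _
  have hinv : ∀ c : F, c ≠ 0 → ∀ u v, ⁅L (c ^ 2 * u), L (c ^ 2 * v)⁆ = ⁅L u, L v⁆ := by
    intro c hc u v
    by_cases hb : b = true
    · subst hb
      obtain ⟨m, hm⟩ := hπ (ρ (torus c hc))
      refine commutator_conj hk (n := m) (hcom u v) ?_ ?_ <;>
        rw [hm, hL, hL, ← map_inv, ← map_mul, ← map_mul, torus_conj] <;> rfl
    · obtain rfl : b = false := by simpa using hb
      obtain ⟨m, hm⟩ := hπ (ρ (torus c⁻¹ (inv_ne_zero hc)))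
      refine commutator_conj hk (n := m) (hcom u v) ?_ ?_ <;>
        rw [hm, hL, hL, ← map_inv, ← map_mul, ← map_mul, torus_conj] <;> simp [scale]
  rcases exists_good_square F h4 h9 with hp | ⟨r, s', hr, hs', hrs, hbad⟩
  · -- prime field: all lifts are powers of one lift up to the centre
    haveI := Fintype.ofFinite F
    obtain ⟨p, hchar⟩ := CharP.exists F
    obtain ⟨k, hpp, hcard⟩ := FiniteField.card F p
    rw [← Nat.card_eq_fintype_card] at hcard
    have hk1 : (k : ℕ) = 1 := (Nat.Prime.eq_one_of_pow (n := (k : ℕ)) (hcard ▸ hp))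
    haveI := Fact.mk hpp
    have hsurj : Function.Surjective (ZMod.castHom (dvd_refl p) F) := by
      refine ((Fintype.bijective_iff_injective_and_card _).2 ⟨RingHom.injective _, ?_⟩).2
      rw [ZMod.card, ← Nat.card_eq_fintype_card, hcard, hk1, pow_one]
    have hpow : ∀ u : F, ∃ n : ℕ, π (L u) = π (L 1 ^ n) := by
      intro u
      obtain ⟨x, rfl⟩ := hsurj u
      haveI : NeZero p := ⟨hpp.ne_zero⟩
      refine ⟨x.val, ?_⟩
      conv_lhs => rw [← ZMod.natCast_zmod_val x, map_natCast]
      induction x.val with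
      | zero =>
        rw [Nat.cast_zero, pow_zero, map_one, hL, SteinbergSL2.x_zero (trv_rel F), map_one]
      | succ n ih => rw [Nat.cast_succ, hadd, map_mul, ih, ← map_mul, pow_succ]
    obtain ⟨n, hn⟩ := hpow s
    obtain ⟨n', hn'⟩ := hpow t
    exact LiftSLn.commute_congr hk hn.symm hn'.symm (Commute.pow_pow_self _ n n')
  have hu1 : r ^ 2 + 1 ≠ 0 := by rw [hrs]; exact pow_ne_zero 2 hs'
  have hr2 : r ^ 2 ≠ 0 := pow_ne_zero 2 hr
  have hone : ∀ u v, ⁅L u, L ((r ^ 2)⁻¹ * v + r ^ 2 * v + v)⁆ = 1 := by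
    intro u v
    have h := hinv s' hs' u v
    rw [← hrs, add_mul, add_mul, one_mul, one_mul, haddl, haddr, haddr, hinv r hr] at h
    have e1 : ⁅L (r ^ 2 * u), L v⁆ = ⁅L u, L ((r ^ 2)⁻¹ * v)⁆ := by
      conv_rhs => rw [← hinv r hr u ((r ^ 2)⁻¹ * v)]
      rw [mul_inv_cancel_left₀ hr2]
    rw [e1] at h
    have c1 : ∀ x y, ⁅L x, L y⁆ ∈ Subgroup.center E := fun x y => central_of_commute hk (hcom x y)
    have cm : ∀ x y g, Commute g ⁅L x, L y⁆ := fun x y g => Subgroup.mem_center_iff.1 (c1 x y) g
    rw [haddr, haddr]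
    set P := ⁅L u, L ((r ^ 2)⁻¹ * v)⁆
    set R := ⁅L u, L (r ^ 2 * v)⁆
    set D := ⁅L u, L v⁆
    have h' : R * D * (D * P) = D := h
    have h'' : R * D * P = 1 := by
      refine mul_right_cancel (b := D) ?_
      rw [one_mul, mul_assoc _ P, ← (cm u v P).symm.eq]; exact h'
    calc P * R * D = P * (R * D) := mul_assoc _ _ _
      _ = R * D * P := ((cm _ _ (R * D)).eq).symm
      _ = 1 := h''
  have hne : (r ^ 2)⁻¹ + r ^ 2 + 1 ≠ 0 := by
    intro e; apply hbad
    field_simp at e
    linear_combination e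
  have h := hone s (t / ((r ^ 2)⁻¹ + r ^ 2 + 1))
  rw [← add_mul, ← add_one_mul, mul_div_cancel₀ _ hne] at h
  exact commutatorElement_eq_one_iff_commute.1 h

/-- Lifting when the lifts of each root subgroup commute. -/
theorem exists_lift_of_commute (hq : 4 ≤ Nat.card F)
    (hcomm : ∀ (b : Bool) (s t : F) (A B : E), π A = ρ (trv F b s) → π B = ρ (trv F b t) → Commute A B) :
    ∃ τ : Matrix.SpecialLinearGroup (Fin 2) F →* E, π.comp τ = ρ := by
  classical
  obtain ⟨c, hc0, hc⟩ := LiftSLn.exists_scalar_of_card F (m := 2) two_pos (by omega)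
  have hsc : ∀ b, scale c b - 1 ≠ 0 := fun b => by
    rw [sub_ne_zero]; cases b <;> simpa [scale] using hc
  obtain ⟨T, hT⟩ := hπ (ρ (torus c hc0))
  choose A hA using fun (b : Bool) (u : F) => hπ (ρ (trv F b u))
  let X : Bool → F → E := fun b u => ⁅T, A b (u / (scale c b - 1))⁆
  have hX : ∀ b u, π (X b u) = ρ (trv F b u) := by
    intro b u
    rw [map_commutatorElement, hT, hA, ← map_commutatorElement]
    congr 1
    rw [commutatorElement_def, torus_conj, mul_inv_eq_iff_eq_mul, ← (trv_rel F).add]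
    congr 1
    field_simp [hsc b]
    ring
  have hbadd : ∀ b u v, ⁅T, A b (u + v)⁆ = ⁅T, A b u⁆ * ⁅T, A b v⁆ := by
    intro b u v
    have e : π (A b (u + v)) = π (A b u * A b v) := by rw [map_mul, hA, hA, hA, ← map_mul, (trv_rel F).add]
    rw [commutator_congr hk (rfl : π T = π T) e]
    refine LiftSLn.commutator_mul_right_of_commute hk (hcomm b u (scale c b * v + -v) _ _ (hA b u) ?_)
    rw [map_commutatorElement, hT, hA, ← map_commutatorElement, commutatorElement_def, torus_conj,
      (trv_rel F).add, SteinbergSL2.x_neg (trv_rel F)]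
  have hneg : ∀ b u, ⁅T, A b (-u)⁆ = ⁅T, A b u⁆⁻¹ := by
    intro b u
    rw [eq_inv_iff_mul_eq_one, ← hbadd, neg_add_cancel, commutatorElement_eq_one_iff_commute]
    refine LiftSLn.commute_congr hk rfl (show π 1 = π (A b 0) by
      rw [hA, SteinbergSL2.x_zero (trv_rel F), map_one, map_one]) (Commute.one_right _)
  have R : IsSL2Rel X := by
    constructor
    · intro b u v
      show ⁅_, _⁆ = _
      rw [add_div, hbadd]
    · intro b t u ht
      set W := wElt X b t with hW
      have hWimg : π W = ρ (wElt (trv F) b t) := by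
        rw [hW, wElt, wElt, map_mul, map_mul, map_mul, map_mul, hX, hX]
      set v := -(t⁻¹ ^ 2 * (u / (scale c b - 1))) with hv
      show W * ⁅T, A b _⁆ * W⁻¹ = ⁅T, A (!b) _⁆
      rw [conjugate_commutatorElement]
      have e1 : π (W * T * W⁻¹) = π T⁻¹ := by
        rw [map_mul, map_mul, map_inv, hWimg, hT, ← map_inv, ← map_mul, ← map_mul, weyl_conj_torus c hc0 b ht,
          map_inv, map_inv, hT]
      have e2 : π (W * A b (u / (scale c b - 1)) * W⁻¹) = π (A (!b) v) := by
        rw [map_mul, map_mul, map_inv, hWimg, hA, hA, ← map_inv, ← map_mul, ← map_mul, (trv_rel F).conj b t _ ht]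
      rw [commutator_congr hk e1 e2]
      have e3 : ⁅T⁻¹, A (!b) v⁆ = ⁅T, T⁻¹ * A (!b) v * T⁻¹⁻¹⁆⁻¹ := by
        simp [commutatorElement_def, mul_assoc]
      have hs : scale c (!b) * (scale c b * v) = v := by
        cases b <;> simp [scale, hc0]
      have e4 : π (T⁻¹ * A (!b) v * T⁻¹⁻¹) = π (A (!b) (scale c b * v)) := by
        rw [inv_inv, map_mul, map_mul, map_inv, hT, hA, hA, ← map_inv, ← map_mul, ← map_mul]
        congr 1
        conv_lhs => rw [← hs, ← torus_conj c hc0]
        group
      rw [e3, commutator_congr hk (rfl : π T = π T) e4, ← hneg]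
      congr 2
      have hsn := hsc b
      have hsn' := hsc (!b)
      have hinv : scale c (!b) = (scale c b)⁻¹ := by cases b <;> simp [scale]
      rw [hinv] at hsn' ⊢
      have hs0 : scale c b ≠ 0 := by cases b <;> simp [scale, hc0]
      have hsn2 : 1 - scale c b ≠ 0 := fun e => hsn (by linear_combination -e)
      have hsn3 : (scale c b)⁻¹ - 1 = (1 - scale c b) / scale c b := by rw [sub_div, div_self hs0, one_div]
      rw [hv, hsn3, ← neg_sub (1 : F) (scale c b)]
      field_simp
  obtain ⟨e, he⟩ := SteinbergSL2.exists_presentation F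
  refine ⟨(PresentedGroup.toGroup (SteinbergSL2.rels_eval R)).comp e.symm.toMonoidHom, ?_⟩
  have htop : ((π.comp ((PresentedGroup.toGroup (SteinbergSL2.rels_eval R)).comp e.symm.toMonoidHom)).eqLocus ρ)
      = ⊤ := by
    refine Cfsg.Agent.Lib.Linear.sl_eq_top_of_transvection_mem _ fun i j hij x => ?_
    have hgen : ∀ b, π ((PresentedGroup.toGroup (SteinbergSL2.rels_eval R)) (e.symm (trv F b x))) =
        ρ (trv F b x) := fun b => by
      rw [← he b x, MulEquiv.symm_apply_apply, PresentedGroup.toGroup.of, hX, he]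
    show π _ = ρ _
    rw [MonoidHom.comp_apply, MulEquiv.coe_toMonoidHom]
    fin_cases i <;> fin_cases j
    · exact absurd rfl hij
    · have ht : Matrix.SpecialLinearGroup.transvection hij x = trv F true x := by
        apply Matrix.SpecialLinearGroup.ext; intro a b
        fin_cases a <;> fin_cases b <;> simp [trv, Matrix.SpecialLinearGroup.transvection_coe]
      rw [ht]; exact hgen true
    · have ht : Matrix.SpecialLinearGroup.transvection hij x = trv F false x := by
        apply Matrix.SpecialLinearGroup.ext; intro a b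
        fin_cases a <;> fin_cases b <;> simp [trv, Matrix.SpecialLinearGroup.transvection_coe]
      rw [ht]; exact hgen false
    · exact absurd rfl hij
  exact MonoidHom.ext fun g => (show g ∈ _ from htop ▸ (Subgroup.mem_top g))

/-- **Lifting**: homomorphisms out of `SL₂` lift through central extensions. -/
theorem exists_lift (hq : 4 < Nat.card F) (h9 : Nat.card F ≠ 9) :
    ∃ τ : Matrix.SpecialLinearGroup (Fin 2) F →* E, π.comp τ = ρ :=
  exists_lift_of_commute hk hπ ρ hq.le (lifts_commute hk hπ ρ (by omega) h9)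

end Cfsg.Agent.Lib.Schur.LiftSL2
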