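/-
Schur multipliers of SL_n(q) and PSL_n(q) from the lifting theorem.
-/
import Mathlib
import Cfsg.Agent.Lib.Multiplier.Basic
import Cfsg.Agent.Lib.Linear.Order
import Cfsg.Agent.Lib.Linear.Transvection
import Cfsg.Agent.Lib.Schur.LiftSLn
import Cfsg.Agent.Lib.Schur.LiftSL2

set_option autoImplicit false

namespace Cfsg.Agent.Lib.Schur.MultiplierSL

open scoped commutatorElement

/-- Lifting for all the nonexceptional parameters. -/
theorem exists_lift {F : Type*} [Field F] [Finite F] {n : ℕ} (hn : 2 ≤ n) (h2 : n = 2 → 4 ≤ Nat.card F)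
    (hexc : (n, Nat.card F) ∉ ({(2, 4), (2, 9), (3, 2), (3, 4), (4, 2)} : Set (ℕ × ℕ)))
    {E Q : Type*} [Group E] [Group Q] (π : E →* Q) (hk : π.ker ≤ Subgroup.center E)
    (hπ : Function.Surjective π) (ρ : Matrix.SpecialLinearGroup (Fin n) F →* Q) :
    ∃ τ : Matrix.SpecialLinearGroup (Fin n) F →* E, π.comp τ = ρ := by
  simp only [Set.mem_insert_iff, Set.mem_singleton_iff, Prod.mk.injEq, not_or, not_and] at hexc
  rcases eq_or_lt_of_le hn with rfl | hn3
  · have := h2 rfl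
    have := hexc.1 rfl
    exact LiftSL2.exists_lift hk hπ ρ (by omega) (hexc.2.1 rfl)
  · refine LiftSLn.exists_lift hk ρ hπ (by omega) ?_
    simp only [Set.mem_insert_iff, Set.mem_singleton_iff, Prod.mk.injEq, not_or, not_and]
    exact hexc.2.2

theorem finite_sl (F : Type*) [Field F] [Finite F] (n : ℕ) :
    Finite (Matrix.SpecialLinearGroup (Fin n) F) := inferInstance

/-- `SL_n(q)` has trivial multiplier. -/
theorem sl_trivial {F : Type*} [Field F] [Finite F] {n : ℕ} (hn : 2 ≤ n) (h2 : n = 2 → 4 ≤ Nat.card F)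
    (hexc : (n, Nat.card F) ∉ ({(2, 4), (2, 9), (3, 2), (3, 4), (4, 2)} : Set (ℕ × ℕ))) :
    Cfsg.HasCyclicSchurMultiplier (Matrix.SpecialLinearGroup (Fin n) F) 1 := by
  rw [Cfsg.Agent.Lib.Multiplier.hasCyclicSchurMultiplier_one_iff]
  intro Δ _ _ σ hσ
  obtain ⟨τ, hτ⟩ := exists_lift hn h2 hexc σ hσ.2.1 hσ.1 (MonoidHom.id _)
  have hdec : ∀ d : Δ, d * (τ (σ d))⁻¹ ∈ Subgroup.center Δ := fun d => hσ.2.1 (by
    rw [MonoidHom.mem_ker, map_mul, map_inv, ← MonoidHom.comp_apply σ τ, hτ, MonoidHom.id_apply, mul_inv_cancel])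
  have hcomm : commutator Δ ≤ τ.range := by
    rw [commutator_def, Subgroup.commutator_le]
    intro x _ y _
    refine ⟨⁅σ x, σ y⁆, ?_⟩
    rw [map_commutatorElement]
    exact Fusion.commutator_congr hσ.2.1 (by rw [← MonoidHom.comp_apply σ τ, hτ, MonoidHom.id_apply])
      (by rw [← MonoidHom.comp_apply σ τ, hτ, MonoidHom.id_apply])
  rw [eq_bot_iff]
  intro z hz
  obtain ⟨g, rfl⟩ := hcomm (hσ.2.2 hz)
  have : g = 1 := by
    rw [← MonoidHom.id_apply _ g, ← hτ]; exact MonoidHom.mem_ker.1 hz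
  rw [this, map_one]; exact one_mem _

/-- `PSL_n(q)` has cyclic multiplier of order `gcd(n, q-1)`. -/
theorem psl_cyclic {F : Type*} [Field F] [Finite F] {n : ℕ} (hn : 2 ≤ n) (h2 : n = 2 → 4 ≤ Nat.card F)
    (hexc : (n, Nat.card F) ∉ ({(2, 4), (2, 9), (3, 2), (3, 4), (4, 2)} : Set (ℕ × ℕ))) :
    Cfsg.HasCyclicSchurMultiplier (Matrix.ProjectiveSpecialLinearGroup (Fin n) F) (Nat.gcd n (Nat.card F - 1)) := by
  classical
  haveI : Nonempty (Fin n) := ⟨⟨0, by omega⟩⟩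
  let σ : Matrix.SpecialLinearGroup (Fin n) F →* Matrix.ProjectiveSpecialLinearGroup (Fin n) F :=
    QuotientGroup.mk' _
  have hker : σ.ker = Subgroup.center (Matrix.SpecialLinearGroup (Fin n) F) := QuotientGroup.ker_mk' _
  have hperf := Cfsg.Agent.Lib.Linear.commutator_SL_eq_top (F := F) hn h2
  have hstem : Cfsg.IsStemExtension σ :=
    ⟨QuotientGroup.mk'_surjective _, hker.le, by rw [hperf]; exact le_top⟩
  haveI : Finite (Matrix.ProjectiveSpecialLinearGroup (Fin n) F) := Finite.of_surjective σ hstem.1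
  have hcard : Nat.card σ.ker = Nat.gcd n (Nat.card F - 1) := by
    rw [hker, Cfsg.Agent.Lib.Linear.card_center_SL, Fintype.card_fin, Nat.gcd_comm]
  haveI : IsCyclic σ.ker := by
    rw [hker]
    exact isCyclic_of_surjective
      (Matrix.SpecialLinearGroup.center_equiv_rootsOfUnity' ⟨0, by omega⟩).symm.toMonoidHom
      (MulEquiv.surjective _)
  refine Cfsg.Agent.Lib.Multiplier.hasSchurMultiplier_of_cover σ hstem
    (mulEquivOfCyclicCardEq (by rw [hcard, Nat.card_congr Multiplicative.toAdd, Nat.card_zmod])) ?_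
  intro Δ _ _ δ hδ
  rw [Nat.card_congr Multiplicative.toAdd, Nat.card_zmod, ← hcard]
  obtain ⟨τ, hτ⟩ := exists_lift hn h2 hexc δ hδ.2.1 hδ.1 σ
  have hτ' : ∀ g, δ (τ g) = σ g := fun g => by rw [← MonoidHom.comp_apply, hτ]
  have hrange : τ.range = ⊤ := by
    have hle : commutator Δ ≤ τ.range := by
      rw [commutator_def, Subgroup.commutator_le]
      intro x _ y _
      obtain ⟨gx, hgx⟩ := hstem.1 (δ x)
      obtain ⟨gy, hgy⟩ := hstem.1 (δ y)
      refine ⟨⁅gx, gy⁆, ?_⟩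
      rw [map_commutatorElement]
      exact Fusion.commutator_congr hδ.2.1 (by rw [hτ', hgx]) (by rw [hτ', hgy])
    rw [eq_top_iff]
    intro d _
    obtain ⟨g, hg⟩ := hstem.1 (δ d)
    have hk : (τ g)⁻¹ * d ∈ δ.ker := by rw [MonoidHom.mem_ker, map_mul, map_inv, hτ', hg, inv_mul_cancel]
    have := mul_mem (MonoidHom.mem_range.2 ⟨g, rfl⟩ : τ g ∈ τ.range) (hle (hδ.2.2 hk))
    rwa [mul_inv_cancel_left] at this
  have hsurj : Function.Surjective (fun z : σ.ker => (⟨τ z.1, by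
      rw [MonoidHom.mem_ker, hτ']; exact z.2⟩ : δ.ker)) := by
    rintro ⟨d, hd⟩
    obtain ⟨g, rfl⟩ : d ∈ τ.range := hrange ▸ Subgroup.mem_top d
    exact ⟨⟨g, by rw [MonoidHom.mem_ker, ← hτ']; exact hd⟩, rfl⟩
  exact Nat.card_le_card_of_surjective _ hsurj

end Cfsg.Agent.Lib.Schur.MultiplierSL
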