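import Mathlib
import Cfsg.Prelude.Def_KGroupFacts

/-!
# Schur multipliers of isomorphic groups in different universes
-/

set_option autoImplicit false

namespace Cfsg.Agent.Lib.Schur.Universe

universe u v

theorem isStemExtension_comp {Γ Δ G H : Type*} [Group Γ] [Group Δ] [Group G] [Group H] (f : Δ ≃* Γ)
    (e : G ≃* H) (σ : Γ →* G) (hσ : Cfsg.IsStemExtension σ) :
    Cfsg.IsStemExtension (e.toMonoidHom.comp (σ.comp f.toMonoidHom)) := by
  have hmem : ∀ x, x ∈ (e.toMonoidHom.comp (σ.comp f.toMonoidHom)).ker ↔ f x ∈ σ.ker := fun x => by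
    exact MulEquiv.map_eq_one_iff e
  refine ⟨e.surjective.comp (hσ.1.comp f.surjective), fun x hx => ?_, fun x hx => ?_⟩
  · rw [Subgroup.mem_center_iff]
    intro g
    apply f.injective
    rw [map_mul, map_mul]
    exact Subgroup.mem_center_iff.1 (hσ.2.1 ((hmem x).1 hx)) (f g)
  · have h := Subgroup.mem_map_of_mem f.symm.toMonoidHom (hσ.2.2 ((hmem x).1 hx))
    rw [commutator_def, Subgroup.map_commutator, Subgroup.map_top_of_surjective _ f.symm.surjective,
      ← commutator_def] at h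
    simpa using h

/-- The kernel of the transported extension. -/
def kerEquiv {Γ Δ G H : Type*} [Group Γ] [Group Δ] [Group G] [Group H] (f : Δ ≃* Γ) (e : G ≃* H)
    (σ : Γ →* G) : (e.toMonoidHom.comp (σ.comp f.toMonoidHom)).ker ≃* σ.ker where
  toFun x := ⟨f x.1, (MulEquiv.map_eq_one_iff e).1 x.2⟩
  invFun x := ⟨f.symm x.1, (MulEquiv.map_eq_one_iff e).2 (show σ (f (f.symm x.1)) = 1 by rw [f.apply_symm_apply]; exact x.2)⟩
  left_inv x := Subtype.ext (f.symm_apply_apply x.1)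
  right_inv x := Subtype.ext (f.apply_symm_apply x.1)
  map_mul' x y := Subtype.ext (map_mul f x.1 y.1)

theorem hasSchurMultiplier_lift {G : Type} [Group G] {H : Type u} [Group H] (e : G ≃* H) {A : Type v}
    [CommGroup A] (h : Cfsg.HasSchurMultiplier G A) : Cfsg.HasSchurMultiplier H A := by
  obtain ⟨⟨Γ, _, _, σ, hσ, ⟨eA⟩⟩, hq⟩ := h
  refine ⟨⟨ULift.{u} Γ, inferInstance, inferInstance, e.toMonoidHom.comp (σ.comp MulEquiv.ulift.toMonoidHom),
    isStemExtension_comp _ e σ hσ, ⟨(kerEquiv _ e σ).trans eA⟩⟩, fun Δ _ _ τ hτ => ?_⟩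
  have : Small.{0} Δ := inferInstance
  let f : Shrink.{0} Δ ≃* Δ := Shrink.mulEquiv
  have : Finite (Shrink.{0} Δ) := Finite.of_equiv Δ (equivShrink Δ)
  obtain ⟨π, hπ⟩ := hq (Shrink.{0} Δ) _ (isStemExtension_comp f e.symm τ hτ)
  exact ⟨(kerEquiv f e.symm τ).toMonoidHom.comp π, (kerEquiv f e.symm τ).surjective.comp hπ⟩

end Cfsg.Agent.Lib.Schur.Universe
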