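import Cfsg.Agent.Lib.Schur.GolayMult
import Cfsg.Agent.Lib.Multiplier.Central

/-!
# Multipliers of certified permutation groups

A group of permutations of `Fin n` given by a stabiliser chain; membership is proved by sifting.  For each
prime a certificate kills that part of the multiplier.
-/

set_option autoImplicit false

namespace Cfsg.Agent.Lib.Schur.PermMult

open Cfsg
open Cfsg.Agent.Lib.Computation
open Cfsg.Agent.Lib.Schur.PcTails (Data Equat)

/-- The code of the identity. -/
def pone (n w : ℕ) : ℕ := packW w (fun x => x) n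

/-- The code of a power. -/
def ppow (n w c k : ℕ) : ℕ := Nat.rec (pone n w) (fun _ acc => mulP n w c acc) k

/-- A code is not the code of the identity. -/
def pNotOne (n w c : ℕ) : Bool := (List.range n).any fun i => !Nat.beq (getW w c i) i

/-- The code of a word. -/
def pword (n w : ℕ) (gs : List ℕ) (l : List ℕ) : ℕ :=
  l.foldr (fun i a => mulP n w (gs.getD i (pone n w)) a) (pone n w)

/-- The images of all indices. -/
def pkey (n w c : ℕ) : ℕ := packW w (getW w c) n

/-- The certificate at the prime two. -/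
structure TwoCert where
  data : Data
  gens : List ℕ
  eqs : List Equat
  combos : List (List ℕ)
  ord : ℕ
  pos : ℕ

variable {n w : ℕ} [NeZero n] (hw : n ≤ 2 ^ w) (ch : List (Computation.Level ℕ))

/-- Membership by sifting. -/
noncomputable def memC (c : ℕ) : Bool := okPerm n w c && (permRep n w hw).sift ch c

/-- The code of a normal form. -/
def TwoCert.scode (T : TwoCert) (n w q : ℕ) : ℕ := pword n w T.gens (T.data.bits q)

/-- The conjugation of an equation is right. -/
noncomputable def conjOk (T : TwoCert) : Equat → Bool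
  | .overlap _ _ _ => true
  | .conj x us vs _ => memC hw ch x && (List.range us.length).all fun k =>
      Nat.beq (mulP n w x (T.scode n w (us.getD k 0))) (mulP n w (T.scode n w (vs.getD k 0)) x)

/-- All checks at two. -/
noncomputable def twoOk (T : TwoCert) : Bool :=
  T.gens.all (memC hw ch) && T.data.tableOk && T.data.cobOk T.eqs T.combos &&
  T.eqs.all (conjOk hw ch T) &&
  ((List.range T.data.n).all fun i => (List.range (i + 1)).all fun j =>
    Nat.beq (mulP n w (T.gens.getD i (pone n w)) (T.gens.getD j (pone n w)))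
      (if i = j then pword n w T.gens (T.data.word i j)
        else mulP n w (T.gens.getD j (pone n w)) (pword n w T.gens (T.data.word i j)))) &&
  ((List.range (2 ^ T.data.n)).all fun q =>
    Nat.blt (getW T.data.n T.pos q) (2 ^ T.data.n) &&
      Nat.beq (getW T.data.n T.ord (getW T.data.n T.pos q)) q) &&
  (List.range (2 ^ T.data.n - 1)).all fun k =>
    Nat.blt (pkey n w (T.scode n w (getW T.data.n T.ord k)))
      (pkey n w (T.scode n w (getW T.data.n T.ord (k + 1))))

/-- A member with a given code. -/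
def Has (a : (permRep n w hw).grp ch) (c : ℕ) : Prop :=
  okPerm n w c = true ∧ (a : Equiv.Perm (Fin n)) = decodeP n w c

variable {hw} {ch}

theorem Has.mul {a b : (permRep n w hw).grp ch} {c d : ℕ} (ha : Has hw ch a c) (hb : Has hw ch b d) :
    Has hw ch (a * b) (mulP n w c d) :=
  ⟨okPerm_mulP ha.1 hb.1, by rw [Subgroup.coe_mul, ha.2, hb.2]; exact (decodeP_mulP ha.1 hb.1).symm⟩

theorem hasOne : Has hw ch 1 (pone n w) :=
  ⟨(permRep n w hw).ok_one, ((permRep n w hw).val_one).symm⟩

omit [NeZero n] in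
theorem ppow_succ (c k : ℕ) : ppow n w c (k + 1) = mulP n w c (ppow n w c k) := rfl

theorem Has.pow {a : (permRep n w hw).grp ch} {c : ℕ} (ha : Has hw ch a c) :
    ∀ k : ℕ, Has hw ch (a ^ k) (ppow n w c k)
  | 0 => by rw [pow_zero]; exact hasOne
  | k + 1 => by rw [pow_succ', ppow_succ]; exact ha.mul (Has.pow ha k)

theorem Has.eq {a b : (permRep n w hw).grp ch} {c d : ℕ} (ha : Has hw ch a c) (hb : Has hw ch b d)
    (h : Nat.beq c d = true) : a = b :=
  Subtype.ext (by rw [ha.2, hb.2, Nat.eq_of_beq_eq_true h])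

theorem Has.ne_one {a : (permRep n w hw).grp ch} {c : ℕ} (ha : Has hw ch a c)
    (h : pNotOne n w c = true) : a ≠ 1 := by
  intro he
  obtain ⟨i, hi, hne⟩ := List.any_eq_true.1 h
  have h1 := decodeP_apply ha.1 ⟨i, List.mem_range.1 hi⟩
  rw [← ha.2, he, OneMemClass.coe_one, Equiv.Perm.one_apply] at h1
  rw [← show i = getW w c i from h1, Nat.beq_refl] at hne
  exact Bool.false_ne_true hne

/-- A member from a checked code. -/
noncomputable def el (hc : (permRep n w hw).checkChain ch = true) {c : ℕ}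
    (h : memC hw ch c = true) : (permRep n w hw).grp ch :=
  ⟨decodeP n w c, (permRep n w hw).mem_grp_of_sift hc (Bool.and_eq_true_iff.1 h).1
    (Bool.and_eq_true_iff.1 h).2⟩

theorem el_has (hc : (permRep n w hw).checkChain ch = true) {c : ℕ} (h : memC hw ch c = true) :
    Has hw ch (el hc h) c :=
  ⟨(Bool.and_eq_true_iff.1 h).1, rfl⟩

omit [NeZero n] in
theorem pword_cons (gs : List ℕ) (i : ℕ) (l : List ℕ) :
    pword n w gs (i :: l) = mulP n w (gs.getD i (pone n w)) (pword n w gs l) := List.foldr_cons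

omit [NeZero n] in
theorem pword_nil (gs : List ℕ) : pword n w gs [] = pone n w := List.foldr_nil

theorem has_word {g : ℕ → (permRep n w hw).grp ch} {gs : List ℕ}
    (hg : ∀ i, Has hw ch (g i) (gs.getD i (pone n w))) :
    ∀ l : List ℕ, Has hw ch ((l.map g).prod) (pword n w gs l) := by
  intro l
  induction l with
  | nil => rw [List.map_nil, List.prod_nil, pword_nil]; exact hasOne
  | cons i l ih => rw [List.map_cons, List.prod_cons, pword_cons]; exact (hg i).mul ih

omit [NeZero n] in
theorem packW_congr {f f' : ℕ → ℕ} : ∀ {k : ℕ}, (∀ x < k, f x = f' x) → packW w f k = packW w f' k := by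
  intro k
  induction k with
  | zero => intro _; rfl
  | succ k ih =>
    intro h
    rw [packW_succ, packW_succ, h k (Nat.lt_succ_self k), ih fun x hx => h x (Nat.lt_succ_of_lt hx)]

theorem pkey_eq {a : (permRep n w hw).grp ch} {c d : ℕ} (hc : Has hw ch a c) (hd : Has hw ch a d) :
    pkey n w c = pkey n w d :=
  packW_congr fun x hx => by
    rw [← decodeP_apply hc.1 ⟨x, hx⟩, ← decodeP_apply hd.1 ⟨x, hx⟩, ← hc.2, ← hd.2]

theorem exists_two (hc : (permRep n w hw).checkChain ch = true) {T : TwoCert}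
    (hok : twoOk hw ch T = true)
    (hidx : ¬ 2 ^ (T.data.n + 1) ∣ Nat.card ((permRep n w hw).grp ch)) :
    ∃ P : Subgroup ((permRep n w hw).grp ch), ¬ 2 ∣ P.index ∧ Fusion.KillsPart 2 P := by
  simp only [twoOk, Bool.and_eq_true, List.all_eq_true, List.mem_range, Nat.beq_eq, Nat.blt_eq] at hok
  obtain ⟨⟨⟨⟨⟨⟨hgens, htab⟩, hcob⟩, hconj⟩, hrel⟩, hord⟩, hmono⟩ := hok
  classical
  let g : ℕ → (permRep n w hw).grp ch := fun i =>
    if h : i < T.gens.length then el hc (hgens _ (List.getElem_mem h)) else 1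
  have hg : ∀ i, Has hw ch (g i) (T.gens.getD i (pone n w)) := fun i => by
    by_cases h : i < T.gens.length
    · simp only [g, dif_pos h]
      rw [List.getD_eq_getElem _ _ h]
      exact el_has hc _
    · simp only [g, dif_neg h]
      rw [List.getD_eq_default _ _ (not_lt.1 h)]
      exact hasOne
  have hs : ∀ q, Has hw ch (T.data.s g q) (T.scode n w q) := fun q => by
    rw [← Data.prod_bits, TwoCert.scode]; exact has_word hg _
  refine ⟨⊤, by simp, PcTails.killsPart_of_cert ⊤ T.data g htab hcob (fun i hi j hj => ?_)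
    (fun p hp q hq he => ?_) (fun x us vs w' he => ?_) hidx⟩
  · have h := hrel i hi j (Nat.lt_succ_of_le hj)
    split_ifs with hij
    · rw [if_pos hij] at h
      subst hij
      rw [one_mul]
      exact ((hg i).mul (hg i)).eq (has_word hg _) (by rw [h]; exact Nat.beq_refl _)
    · rw [if_neg hij] at h
      exact ((hg i).mul (hg j)).eq ((hg j).mul (has_word hg _)) (by rw [h]; exact Nat.beq_refl _)
  · obtain ⟨hp1, hp2⟩ := hord p hp
    obtain ⟨hq1, hq2⟩ := hord q hq
    have this : getW T.data.n T.pos p = getW T.data.n T.pos q := by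
      refine GolayMult.eq_of_strictMono
        (fun k => pkey n w (T.scode n w (getW T.data.n T.ord k))) hmono hp1 hq1 ?_
      show pkey n w (T.scode n w (getW T.data.n T.ord (getW T.data.n T.pos p))) =
        pkey n w (T.scode n w (getW T.data.n T.ord (getW T.data.n T.pos q)))
      rw [hp2, hq2]
      exact pkey_eq (hs p) (by rw [he]; exact hs q)
    rw [← hp2, this, hq2]
  · have h := hconj _ he
    simp only [conjOk, Bool.and_eq_true, List.all_eq_true, List.mem_range] at h
    refine ⟨el hc h.1, fun k hk => mul_inv_eq_iff_eq_mul.2 ?_⟩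
    exact ((el_has hc h.1).mul (hs _)).eq ((hs _).mul (el_has hc h.1)) (h.2 k hk)

theorem exists_cyclic (hc : (permRep n w hw).checkChain ch = true) {q c : ℕ} (hq : q.Prime)
    (hok : (memC hw ch c && Nat.beq (ppow n w c q) (pone n w) && pNotOne n w c) = true)
    (hidx : ¬ q ^ 2 ∣ Nat.card ((permRep n w hw).grp ch)) :
    ∃ P : Subgroup ((permRep n w hw).grp ch), ¬ q ∣ P.index ∧ Fusion.KillsPart q P := by
  simp only [Bool.and_eq_true] at hok
  have hx := el_has hc hok.1.1
  refine ⟨Subgroup.zpowers (el hc hok.1.1), fun hd => hidx ?_, Fusion.killsPart_zpowers q _⟩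
  have : Fact q.Prime := ⟨hq⟩
  rw [← (Subgroup.zpowers (el hc hok.1.1)).card_mul_index, Nat.card_zpowers,
    orderOf_eq_prime ((hx.pow q).eq hasOne hok.1.2) (hx.ne_one hok.2), pow_two]
  exact Nat.mul_dvd_mul_left q hd

theorem card_closure_eq (hc : (permRep n w hw).checkChain ch = true) {a b : ℕ}
    (ha : memC hw ch a = true) (hb : memC hw ch b = true) {gens : List ℕ} (hgens : gens = [a, b])
    {steps : List (Computation.Step ℕ)} {sub : List (Computation.Level ℕ)}
    (hs : (permRep n w hw).checkClosure gens steps sub = true) :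
    Nat.card (Subgroup.closure {el hc ha, el hc hb}) = (permRep n w hw).order sub := by
  rw [← Subgroup.card_map_of_injective ((permRep n w hw).grp ch).subtype_injective,
    MonoidHom.map_closure, Set.image_pair, ← (permRep n w hw).card_closure hs, hgens]
  have h : ({decodeP n w a, decodeP n w b} : Set (Equiv.Perm (Fin n))) =
      decodeP n w '' {s | s ∈ [a, b]} := by
    ext σ
    simp [eq_comm]
  show Nat.card (Subgroup.closure ({decodeP n w a, decodeP n w b} : Set (Equiv.Perm (Fin n)))) = _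
  rw [h]

theorem exists_three_extraspecial (hch : (permRep n w hw).checkChain ch = true)
    {a b c m₁ m₂ a₁ b₁ i₁ a₂ b₂ i₂ : ℕ}
    (hok : (memC hw ch a && memC hw ch b && memC hw ch c && memC hw ch m₁ && memC hw ch m₂ &&
      Nat.beq (ppow n w a 3) (pone n w) && Nat.beq (ppow n w b 3) (pone n w) &&
      Nat.beq (ppow n w c 3) (pone n w) && pNotOne n w c &&
      Nat.beq (mulP n w a b) (mulP n w (mulP n w c b) a) && Nat.beq (mulP n w c a) (mulP n w a c) &&
      Nat.beq (mulP n w c b) (mulP n w b c) && Nat.beq (a₁ * b₁ % 3) 2 && Nat.beq (a₂ * b₂ % 3) 2 &&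
      Nat.beq (mulP n w m₁ c) (mulP n w (ppow n w c a₁) m₁) &&
      Nat.beq (mulP n w m₁ a) (mulP n w (mulP n w (ppow n w a b₁) (ppow n w c i₁)) m₁) &&
      Nat.beq (mulP n w m₂ c) (mulP n w (ppow n w c a₂) m₂) &&
      Nat.beq (mulP n w m₂ b) (mulP n w (mulP n w (ppow n w b b₂) (ppow n w c i₂)) m₂)) = true)
    {gens : List ℕ} (hgens : gens = [a, b]) {steps : List (Computation.Step ℕ)}
    {sub : List (Computation.Level ℕ)}
    (hs : (permRep n w hw).checkClosure gens steps sub = true)
    (h27 : (permRep n w hw).order sub = 27) (hidx : ¬ 81 ∣ Nat.card ((permRep n w hw).grp ch)) :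
    ∃ P : Subgroup ((permRep n w hw).grp ch), ¬ 3 ∣ P.index ∧ Fusion.KillsPart 3 P := by
  simp only [Bool.and_eq_true] at hok
  obtain ⟨⟨⟨⟨⟨⟨⟨⟨⟨⟨⟨⟨⟨⟨⟨⟨⟨ha, hb⟩, hcm⟩, hm1⟩, hm2⟩, ha3⟩, hb3⟩, hc3⟩, hc1⟩, hab⟩, hca⟩, hcb⟩,
    e1⟩, e2⟩, f1⟩, f2⟩, f3⟩, f4⟩ := hok
  have ia := el_has hch ha
  have ib := el_has hch hb
  have ic := el_has hch hcm
  have j1 := el_has hch hm1
  have j2 := el_has hch hm2
  refine ⟨Subgroup.closure {el hch ha, el hch hb}, fun hd => hidx ?_,
    GolayMult.killsPart_extraspecial _ _ (el hch hcm) (el hch hm1) (el hch hm2)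
      ((ia.pow 3).eq hasOne ha3) ((ib.pow 3).eq hasOne hb3) ((ic.pow 3).eq hasOne hc3) (ic.ne_one hc1) ?_
      ((ic.mul ia).eq (ia.mul ic) hca) ((ic.mul ib).eq (ib.mul ic) hcb) (Nat.eq_of_beq_eq_true e1)
      (Nat.eq_of_beq_eq_true e2) (mul_inv_eq_iff_eq_mul.2 ((j1.mul ic).eq ((ic.pow _).mul j1) f1))
      (mul_inv_eq_iff_eq_mul.2 ((j1.mul ia).eq (((ia.pow _).mul (ic.pow _)).mul j1) f2))
      (mul_inv_eq_iff_eq_mul.2 ((j2.mul ic).eq ((ic.pow _).mul j2) f3))
      (mul_inv_eq_iff_eq_mul.2 ((j2.mul ib).eq (((ib.pow _).mul (ic.pow _)).mul j2) f4))⟩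
  · rw [← (Subgroup.closure {el hch ha, el hch hb}).card_mul_index,
      card_closure_eq hch ha hb hgens hs, h27]
    exact Nat.mul_dvd_mul_left 27 hd
  · rw [commutatorElement_def, mul_inv_eq_iff_eq_mul, mul_inv_eq_iff_eq_mul]
    exact (ia.mul ib).eq ((ic.mul ib).mul ia) hab

/-! ### covers -/

universe u

/-- A stem extension by a group with trivial multiplier is a cover. -/
theorem hasSchurMultiplier_of_cover {Q : Type u} [Group Q] {Γ : Type u} [Group Γ] [Finite Γ]
    (σ : Γ →* Q) (hσ : IsStemExtension σ) (hΓ : HasCyclicSchurMultiplier Γ 1) {A : Type*}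
    [CommGroup A] (e : σ.ker ≃* A) : HasSchurMultiplier Q A := by
  refine ⟨⟨Γ, inferInstance, inferInstance, σ, hσ, ⟨e⟩⟩, fun Δ _ _ τ hτ => ?_⟩
  obtain ⟨π, hπ⟩ := Multiplier.exists_surjective_ker_of_trivial σ hσ hΓ τ hτ
  exact ⟨π.comp e.symm.toMonoidHom, hπ.comp e.symm.surjective⟩

end Cfsg.Agent.Lib.Schur.PermMult
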