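import Cfsg.Agent.Lib.Schur.J2Cover

/-!
# The multiplier of the Hall-Janko group on one hundred points is cyclic of order two
-/

set_option autoImplicit false

namespace Cfsg.Agent.Lib.Schur.J2Mult

open Cfsg Cfsg.Agent.Lib Cfsg.Agent.Lib.Schur
open Cfsg.Agent.Lib.Computation (permRep decodeP)
open scoped commutatorElement

/-- The cover. -/
noncomputable abbrev R := permRep 300 9 (by decide)

/-- The cover as a group of permutations. -/
noncomputable abbrev K : Subgroup (Equiv.Perm (Fin 300)) := R.grp J2Cover.g_chain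

theorem check : R.checkChain J2Cover.g_chain = true :=
  R.checkChain_of_checkClosure J2Cover.g_check

theorem card_K : Nat.card K = 1209600 := (R.card_grp check).trans J2Cover.g_order

theorem trivial_K : HasCyclicSchurMultiplier K 1 := by
  have : Finite K := Nat.finite_of_card_ne_zero (by rw [card_K]; norm_num)
  refine Fusion.hasTrivialMultiplier fun p hp hd => ?_
  rw [card_K] at hd
  have hp' : p ∣ 2 ^ 8 * 3 ^ 3 * 5 ^ 2 * 7 * 1 := by norm_num; exact hd
  rw [mul_one] at hp'
  simp only [Nat.Prime.dvd_mul hp] at hp'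
  rcases hp' with ((h | h) | h) | h
  · obtain rfl := (Nat.prime_dvd_prime_iff_eq hp Nat.prime_two).1 (hp.dvd_of_dvd_pow h)
    exact PermMult.exists_two check J2Cover.two_ok (by rw [card_K]; decide +kernel)
  · obtain rfl := (Nat.prime_dvd_prime_iff_eq hp Nat.prime_three).1 (hp.dvd_of_dvd_pow h)
    exact PermMult.exists_three_extraspecial check J2Cover.three_ok J2Cover.three_gens_eq
      J2Cover.three_check J2Cover.three_order (by rw [card_K]; decide +kernel)
  · obtain rfl := (Nat.prime_dvd_prime_iff_eq hp (by norm_num)).1 (hp.dvd_of_dvd_pow h)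
    exact SwapPart.exists_swap check (by decide) J2Cover.five_ok J2Cover.five_gens_eq J2Cover.five_check
      J2Cover.five_order (by rw [card_K]; decide +kernel)
  · obtain rfl := (Nat.prime_dvd_prime_iff_eq hp (by norm_num)).1 h
    exact PermMult.exists_cyclic check hp J2Cover.el7_ok (by rw [card_K]; decide +kernel)

/-- The image on one hundred points. -/
noncomputable abbrev Img : Subgroup (Equiv.Perm (Fin 100)) :=
  Subgroup.closure (decodeP 100 7 '' {s | s ∈ J2Cover.img_gens})

theorem card_Img : Nat.card Img = 604800 :=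
  ((permRep 100 7 (by decide)).card_closure J2Cover.img_check).trans J2Cover.img_order

theorem exists_proj : ∃ σ : K →* Img, Function.Surjective σ ∧
    ∀ (g : K) (c a : ℕ), SplitBlock.blockOk 200 100 9 8 7 c a (PermMult.pone 100 7) = true →
      (g : Equiv.Perm (Fin 300)) = decodeP 300 9 c → σ g = 1 := by
  classical
  let S : Set (Equiv.Perm (Fin 300)) := decodeP 300 9 '' {s | s ∈ J2Cover.g_gens}
  have hK : K = Subgroup.closure S := (R.closure_eq_grp J2Cover.g_check).symm
  have hgens : ∀ c ∈ J2Cover.g_gens, ∃ t ∈ J2Cover.blocks, t.1 = c := by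
    intro c hc
    rw [← J2Cover.blocks_gens.1] at hc
    exact List.mem_map.1 hc
  have hblk : ∀ t ∈ J2Cover.blocks, SplitBlock.blockOk 200 100 9 8 7 t.1 t.2.1 t.2.2 = true :=
    fun t ht => List.all_eq_true.1 J2Cover.blocks_ok t ht
  have hle : K ≤ (SplitBlock.blockEmb 200 100).range := by
    rw [hK, Subgroup.closure_le]
    rintro _ ⟨c, hc, rfl⟩
    obtain ⟨t, ht, rfl⟩ := hgens c hc
    exact ⟨_, (SplitBlock.decodeP_block (hblk t ht)).symm⟩
  let π : K →* Equiv.Perm (Fin 100) := (SplitBlock.proj 200 100).comp (Subgroup.inclusion hle)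
  have hrange : π.range = Img := by
    have htop : Subgroup.closure (K.subtype ⁻¹' S) = ⊤ := by
      apply Subgroup.map_injective K.subtype_injective
      rw [MonoidHom.map_closure, ← MonoidHom.range_eq_map, Subgroup.range_subtype]
      conv_rhs => rw [hK]
      congr 1
      refine Set.image_preimage_eq_of_subset ?_
      rw [Subgroup.coe_subtype, Subtype.range_coe]
      intro x hx
      rw [hK]
      exact Subgroup.subset_closure hx
    rw [MonoidHom.range_eq_map, ← htop, MonoidHom.map_closure]
    congr 1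
    ext y
    constructor
    · rintro ⟨g, ⟨c, hc, hg⟩, rfl⟩
      obtain ⟨t, ht, rfl⟩ := hgens c hc
      exact ⟨t.2.2, J2Cover.blocks_gens.2 ▸ List.mem_map.2 ⟨t, ht, rfl⟩,
        (SplitBlock.proj_of_block (hblk t ht) _ hg.symm).symm⟩
    · rintro ⟨b, hb, rfl⟩
      rw [Set.mem_ofPred_eq, ← J2Cover.blocks_gens.2] at hb
      obtain ⟨t, ht, rfl⟩ := List.mem_map.1 hb
      have hc : t.1 ∈ J2Cover.g_gens := J2Cover.blocks_gens.1 ▸ List.mem_map.2 ⟨t, ht, rfl⟩
      refine ⟨⟨decodeP 300 9 t.1, hK ▸ Subgroup.subset_closure ⟨_, hc, rfl⟩⟩, ⟨_, hc, rfl⟩, ?_⟩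
      exact SplitBlock.proj_of_block (hblk t ht) _ rfl
  have hmem : ∀ g, π g ∈ Img := fun g => hrange ▸ ⟨g, rfl⟩
  refine ⟨π.codRestrict Img hmem, fun y => ?_, ?_⟩
  · obtain ⟨g, hg⟩ : (y : Equiv.Perm (Fin 100)) ∈ π.range := by rw [hrange]; exact y.2
    exact ⟨g, Subtype.ext hg⟩
  · intro g c a h hg
    refine Subtype.ext ?_
    show π g = 1
    rw [show π g = decodeP 100 7 (PermMult.pone 100 7) from SplitBlock.proj_of_block h _ hg]
    exact (permRep 100 7 (by decide)).val_one

theorem hasCyclicSchurMultiplier_img : HasCyclicSchurMultiplier Img 2 := by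
  have : Finite K := Nat.finite_of_card_ne_zero (by rw [card_K]; norm_num)
  obtain ⟨σ, hσ, hσb⟩ := exists_proj
  have h := J2Cover.z_ok
  simp only [Bool.and_eq_true, List.all_eq_true] at h
  obtain ⟨⟨⟨⟨⟨⟨⟨hz, hx⟩, hy⟩, hz1⟩, hblock⟩, hcomm⟩, hxy⟩, hzz⟩ := h
  have iz := PermMult.el_has check hz
  have ix := PermMult.el_has check hx
  have iy := PermMult.el_has check hy
  set z := PermMult.el check hz with hzdef
  have hzσ : σ z = 1 := hσb z _ _ hblock iz.2
  have hcard : Nat.card σ.ker = 2 := by
    have h1 := σ.ker.card_mul_index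
    rw [Subgroup.index_ker, MonoidHom.range_eq_top.2 hσ, Subgroup.card_top, card_Img, card_K] at h1
    omega
  have hz2 : z ^ 2 = 1 := by rw [pow_two]; exact (iz.mul iz).eq PermMult.hasOne hzz
  have : Fact (Nat.Prime 2) := ⟨Nat.prime_two⟩
  have hker : σ.ker = Subgroup.zpowers z := (Subgroup.eq_of_le_of_card_ge
    (Subgroup.zpowers_le.2 hzσ) (by
      rw [hcard, Nat.card_zpowers, orderOf_eq_prime hz2 (iz.ne_one hz1)])).symm
  have hcen : z ∈ Subgroup.center K := by
    rw [Subgroup.mem_center_iff]
    intro g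
    have hle : K ≤ Subgroup.centralizer {(z : Equiv.Perm (Fin 300))} := by
      rw [show K = Subgroup.closure (decodeP 300 9 '' {s | s ∈ J2Cover.g_gens}) from
        (R.closure_eq_grp J2Cover.g_check).symm, Subgroup.closure_le]
      rintro _ ⟨c, hc, rfl⟩
      rw [SetLike.mem_coe, Subgroup.mem_centralizer_singleton_iff, iz.2]
      have hok : Computation.okPerm 300 9 c = true := by
        have h := J2Cover.g_check
        simp only [Computation.Rep.checkClosure, Bool.and_eq_true, List.all_eq_true] at h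
        exact (h.1.2 c hc).1
      rw [← Computation.decodeP_mulP hok iz.1, ← Computation.decodeP_mulP iz.1 hok,
        Nat.eq_of_beq_eq_true (hcomm c hc)]
    exact Subtype.ext (Subgroup.mem_centralizer_singleton_iff.1 (hle g.2))
  have hstem : IsStemExtension σ := by
    refine ⟨hσ, hker ▸ Subgroup.zpowers_le.2 hcen, hker ▸ Subgroup.zpowers_le.2 ?_⟩
    have he : ⁅PermMult.el check hx, PermMult.el check hy⁆ = z := by
      rw [commutatorElement_def, mul_inv_eq_iff_eq_mul, mul_inv_eq_iff_eq_mul]
      exact (ix.mul iy).eq ((iz.mul iy).mul ix) hxy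
    rw [← he]
    exact Subgroup.commutator_mem_commutator (Subgroup.mem_top _) (Subgroup.mem_top _)
  have : IsCyclic σ.ker := isCyclic_of_prime_card hcard
  exact PermMult.hasSchurMultiplier_of_cover σ hstem trivial_K
    (mulEquivOfCyclicCardEq (by rw [hcard, Nat.card_congr Multiplicative.toAdd, Nat.card_zmod]))

end Cfsg.Agent.Lib.Schur.J2Mult
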