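import Cfsg.Agent.Lib.Schur.Fusion

/-!
# Killing the p-part of a multiplier by collection in a polycyclic presentation

Lifts of polycyclic generators of a Sylow subgroup to an extension with kernel of order `p` satisfy the relations
up to unknown tails.  Rewriting of words by the relations, at ambiguities and along conjugations inside the
group, gives linear equations on the tails; a certificate expresses by them that the tails are a coboundary.
No multiplication table of the subgroup is needed: rewriting is sound for every word and every bound on steps.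
-/

set_option autoImplicit false

namespace Cfsg.Agent.Lib.Schur.PcCollect

/-- The index of a pair `j ≤ i`. -/
def pidx (i j : ℕ) : ℕ := i * (i + 1) / 2 + j

theorem pidx_lt_of_lt {i i' j : ℕ} (hj : j ≤ i) (h : i < i') (j' : ℕ) : pidx i j < pidx i' j' := by
  have h1 : i * (i + 1) / 2 + (i + 1) = (i + 1) * (i + 2) / 2 := by
    rw [show (i + 1) * (i + 2) = i * (i + 1) + 2 * (i + 1) by ring,
      Nat.add_mul_div_left _ _ (by norm_num : 0 < 2)]
  have h2 : (i + 1) * (i + 2) / 2 ≤ i' * (i' + 1) / 2 :=
    Nat.div_le_div_right (Nat.mul_le_mul (by omega) (by omega))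
  rw [pidx, pidx]
  omega

theorem pidx_inj {i j i' j' : ℕ} (hj : j ≤ i) (hj' : j' ≤ i') (h : pidx i j = pidx i' j') :
    i = i' ∧ j = j' := by
  rcases lt_trichotomy i i' with hl | rfl | hl
  · exact absurd h (pidx_lt_of_lt hj hl j').ne
  · exact ⟨rfl, by simp only [pidx] at h; omega⟩
  · exact absurd h.symm (pidx_lt_of_lt hj' hl j).ne

/-- A representation of linear forms on the tails. -/
structure Vec (p : ℕ) (α : Type) where
  zero : α
  add : α → α → α
  unit : ℕ → α
  isZero : α → Bool
  dot : (ℕ → ZMod p) → α → ZMod p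
  dot_zero : ∀ tv, dot tv zero = 0
  dot_add : ∀ tv a b, dot tv (add a b) = dot tv a + dot tv b
  dot_unit : ∀ tv k, dot tv (unit k) = tv k
  dot_isZero : ∀ tv a, isZero a = true → dot tv a = 0

namespace Vec

variable {p : ℕ} {α : Type} (V : Vec p α)

/-- The form of a list of indices. -/
def ofList (l : List ℕ) : α := l.foldr (fun k a => V.add (V.unit k) a) V.zero

theorem dot_ofList (tv : ℕ → ZMod p) : ∀ l : List ℕ, V.dot tv (V.ofList l) = (l.map tv).sum
  | [] => V.dot_zero tv
  | k :: l => by
    show V.dot tv (V.add (V.unit k) (V.ofList l)) = _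
    rw [V.dot_add, V.dot_unit, dot_ofList tv l, List.map_cons, List.sum_cons]

end Vec

/-- The value of a binary mask. -/
def maskDot (tv : ℕ → ZMod 2) (a : ℕ) : ZMod 2 := ∑ k ∈ Finset.range a, if a.testBit k then tv k else 0

theorem maskDot_eq (tv : ℕ → ZMod 2) {a N : ℕ} (h : a ≤ N) :
    maskDot tv a = ∑ k ∈ Finset.range N, if a.testBit k then tv k else 0 := by
  refine Finset.sum_subset (Finset.range_subset_range.2 h) fun k _ hk => ?_
  rw [Finset.mem_range, not_lt] at hk
  rw [Nat.testBit_lt_two_pow (lt_of_le_of_lt hk Nat.lt_two_pow_self)]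
  rfl

/-- Binary masks under exclusive or. -/
def maskVec : Vec 2 ℕ where
  zero := 0
  add := fun a b => a ^^^ b
  unit := fun k => 2 ^ k
  isZero := fun a => Nat.beq a 0
  dot := maskDot
  dot_zero := fun _ => by simp [maskDot]
  dot_add := fun tv a b => by
    rw [maskDot_eq tv (Nat.le_add_right a (b + (a ^^^ b))),
      maskDot_eq tv (N := a + (b + (a ^^^ b))) (a := b) (by omega),
      maskDot_eq tv (N := a + (b + (a ^^^ b))) (a := a ^^^ b) (by omega), ← Finset.sum_add_distrib]
    refine Finset.sum_congr rfl fun k _ => ?_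
    rw [Nat.testBit_xor]
    cases a.testBit k <;> cases b.testBit k <;> simp [CharTwo.add_self_eq_zero]
  dot_unit := fun tv k => by
    rw [maskDot, Finset.sum_eq_single k]
    · simp
    · intro b _ hb
      simp [Ne.symm hb]
    · intro h
      exact absurd (Finset.mem_range.2 Nat.lt_two_pow_self) h
  dot_isZero := fun tv a h => by
    rw [Nat.beq_eq] at h
    simp [h, maskDot]

/-- Sum of coefficient lists modulo `p`. -/
def addList (p : ℕ) : List ℕ → List ℕ → List ℕ
  | [], b => b
  | a :: as, [] => a :: as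
  | a :: as, b :: bs => (a + b) % p :: addList p as bs

/-- The value of a coefficient list. -/
def listDot (p : ℕ) : (ℕ → ZMod p) → List ℕ → ZMod p
  | _, [] => 0
  | tv, a :: as => (a : ZMod p) * tv 0 + listDot p (fun k => tv (k + 1)) as

/-- Coefficient lists modulo `p`. -/
def listVec (p : ℕ) : Vec p (List ℕ) where
  zero := []
  add := addList p
  unit := fun k => List.replicate k 0 ++ [1]
  isZero := fun a => a.all fun c => Nat.beq (c % p) 0
  dot := listDot p
  dot_zero := fun _ => rfl
  dot_add := fun tv a b => by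
    induction a generalizing tv b with
    | nil => simp [addList, listDot]
    | cons a as ih =>
      cases b with
      | nil => simp [addList, listDot]
      | cons b bs =>
        simp only [addList, listDot, ih, ZMod.natCast_mod, Nat.cast_add]
        ring
  dot_unit := fun tv k => by
    induction k generalizing tv with
    | zero => simp [listDot]
    | succ k ih => simp [List.replicate_succ, listDot, ih]
  dot_isZero := fun tv a h => by
    induction a generalizing tv with
    | nil => rfl
    | cons c as ih =>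
      rw [List.all_cons, Bool.and_eq_true, Nat.beq_eq] at h
      rw [listDot, ih _ h.2, ← ZMod.natCast_mod, h.1, Nat.cast_zero, zero_mul, zero_add]

/-- An equation: a rewriting of one occurrence of a relation, or relations carried by a conjugation. -/
inductive Equat where
  | overlap (pre : List ℕ) (i j : ℕ) (post : List ℕ)
  | conj (c : ℕ) (sel : List (List ℕ × List ℕ))

/-- A presentation: `p`-th powers and commutation rules, each given by a word in later generators. -/
structure Data where
  p : ℕ
  n : ℕ
  fuel : ℕ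
  W : List (List ℕ)
  phi : List (List ℕ)
  conjs : List (List (List ℕ) × List (List ℕ))

namespace Data

variable (D : Data)

/-- The word of a relation. -/
def word (i j : ℕ) : List ℕ := D.W.getD (pidx i j) []

/-- The left side of a relation. -/
def lhs (i j : ℕ) : List ℕ := if i = j then List.replicate D.p i else [i, j]

/-- The right side of a relation. -/
def rhs (i j : ℕ) : List ℕ := if i = j then D.word i j else j :: D.word i j

/-- Rewriting: the reversed pending word, the collected word, and the tails used so far. -/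
def run : ℕ → List ℕ → List ℕ → List ℕ → List ℕ × List ℕ
  | 0, rev, q, acc => (rev.reverse ++ q, acc)
  | _ + 1, [], q, acc => (q, acc)
  | f + 1, i :: rev, q, acc =>
    match q with
    | [] => run f rev [i] acc
    | j :: q' =>
      if Nat.blt j i && Nat.blt i D.n then
        run f ((D.word i j).reverse ++ j :: rev) q' (pidx i j :: acc)
      else if Nat.beq i j && Nat.blt i D.n && ((j :: q').take (D.p - 1) == List.replicate (D.p - 1) i) then
        run f ((D.word i i).reverse ++ rev) ((j :: q').drop (D.p - 1)) (pidx i i :: acc)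
      else run f rev (i :: j :: q') acc

/-- Collection of a word. -/
def collect (w : List ℕ) : List ℕ × List ℕ := D.run D.fuel w.reverse [] []

/-- A word in the named elements of a conjugation. -/
def subst (us : List (List ℕ)) (w : List ℕ) : List ℕ := w.flatMap fun k => us.getD k []

/-- The negated list of indices. -/
def neg (l : List ℕ) : List ℕ := l.flatMap fun k => List.replicate (D.p - 1) k

/-- The two sides of an equation. -/
def sides : Equat → List ℕ × List ℕ
  | .overlap pre i j post =>
    ((D.collect (pre ++ D.lhs i j ++ post)).2,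
      pidx i j :: (D.collect (pre ++ D.rhs i j ++ post)).2)
  | .conj c sel =>
    let uv := D.conjs.getD c ([], [])
    (sel.flatMap fun lr => (D.collect (subst uv.2 lr.1)).2 ++ (D.collect (subst uv.1 lr.2)).2,
      sel.flatMap fun lr => (D.collect (subst uv.1 lr.1)).2 ++ (D.collect (subst uv.2 lr.2)).2)

/-- The side conditions of an equation. -/
def eqOk : Equat → Bool
  | .overlap pre i j post =>
    Nat.blt i D.n && Nat.ble j i &&
      ((D.collect (pre ++ D.lhs i j ++ post)).1 == (D.collect (pre ++ D.rhs i j ++ post)).1)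
  | .conj c sel =>
    let uv := D.conjs.getD c ([], [])
    Nat.blt c D.conjs.length &&
      (sel.all fun lr =>
        (lr.1.all fun k => Nat.blt k uv.1.length) && (lr.2.all fun k => Nat.blt k uv.1.length) &&
          ((D.collect (subst uv.1 lr.1)).1 == (D.collect (subst uv.1 lr.2)).1) &&
          ((D.collect (subst uv.2 lr.1)).1 == (D.collect (subst uv.2 lr.2)).1)) &&
      (List.range uv.1.length).all fun k =>
        Nat.beq ((sel.flatMap Prod.fst).count k % D.p) ((sel.flatMap Prod.snd).count k % D.p)

/-- The correction terms of a relation. -/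
def delta (i j : ℕ) : List ℕ :=
  (if i = j then [] else D.phi.getD i []) ++ D.neg ((D.word i j).flatMap fun l => D.phi.getD l [])

/-- The check of one equation with its form. -/
def entryOk {α : Type} [BEq α] (V : Vec D.p α) (e : Equat × α) : Bool :=
  D.eqOk e.1 && (V.ofList ((D.sides e.1).1 ++ D.neg (D.sides e.1).2) == e.2)

/-- The check of the equations and of their combinations. -/
def certOk {α : Type} [BEq α] (V : Vec D.p α) (eqs : List (Equat × α)) (combos : List (List ℕ)) : Bool :=
  ((List.range D.n).all fun i => (List.range (i + 1)).all fun j =>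
      (D.word i j).all fun l => Nat.blt j l && Nat.blt l D.n) &&
    eqs.all (D.entryOk V) &&
      (List.range D.n).all fun i => (List.range (i + 1)).all fun j =>
        ((combos.getD (pidx i j) []).all fun e => Nat.blt e eqs.length) &&
        V.isZero (V.add (V.ofList (pidx i j :: D.delta i j))
          ((combos.getD (pidx i j) []).foldr
            (fun e a => V.add ((eqs.map Prod.snd).getD e V.zero) a) V.zero))

section Soundness

variable {Γ : Type*} [Group Γ] (G : ℕ → Γ) (Z : ZMod D.p → Γ) (tv : ℕ → ZMod D.p)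

/-- The element of a word. -/
def el (w : List ℕ) : Γ := (w.map G).prod

theorem el_append (a b : List ℕ) : el G (a ++ b) = el G a * el G b := by
  simp [el, List.prod_append]

theorem el_cons (a : ℕ) (b : List ℕ) : el G (a :: b) = G a * el G b := by simp [el]

variable (hp : 0 < D.p) (hZ : ∀ a b, Z (a + b) = Z a * Z b) (hZc : ∀ a (g : Γ), g * Z a = Z a * g)
  (hrel : ∀ i < D.n, ∀ j ≤ i, el G (D.lhs i j) = Z (tv (pidx i j)) * el G (D.rhs i j))

include hZ in
theorem Z_zero : Z 0 = 1 := by
  have h := hZ 0 0
  rw [add_zero, left_eq_mul] at h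
  exact h

include hZ hZc hrel hp in
theorem run_spec : ∀ (f : ℕ) (rev q acc : List ℕ),
    Z (acc.map tv).sum * el G (rev.reverse ++ q) =
      Z ((D.run f rev q acc).2.map tv).sum * el G (D.run f rev q acc).1
  | 0, rev, q, acc => rfl
  | _ + 1, [], q, acc => rfl
  | f + 1, i :: rev, [], acc => by
    rw [run]
    rw [← run_spec f rev [i] acc]
    simp
  | f + 1, i :: rev, j :: q', acc => by
    have hmove : ∀ a (g x : Γ), g * (Z a * x) = Z a * (g * x) := fun a g x => by
      rw [← mul_assoc, hZc, mul_assoc]
    have hswap : ∀ a b (x : Γ), Z a * (Z b * x) = Z b * (Z a * x) := fun a b x => hmove b (Z a) x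
    rw [run]
    split_ifs with h1 h2
    · rw [Bool.and_eq_true, Nat.blt_eq, Nat.blt_eq] at h1
      have hr := hrel i h1.2 j h1.1.le
      rw [lhs, rhs, if_neg (by omega), if_neg (by omega), el_cons, el_cons, el_cons,
        show el G [] = 1 from rfl, mul_one] at hr
      rw [← run_spec f _ _ _, List.map_cons, List.sum_cons, hZ]
      simp only [List.reverse_cons, List.reverse_append, List.reverse_reverse, el_append, el_cons,
        show el G [] = 1 from rfl, mul_one, mul_assoc]
      rw [← mul_assoc (G i) (G j), hr]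
      simp only [← mul_assoc]
      congr 1
      simp only [mul_assoc]
      rw [hmove _ (el G rev.reverse)]
      exact hswap _ _ _
    · simp only [Bool.and_eq_true, Nat.beq_eq, Nat.blt_eq, beq_iff_eq] at h2
      obtain ⟨⟨hij, hi⟩, hq⟩ := h2
      subst hij
      have hp' : List.replicate D.p i = i :: List.replicate (D.p - 1) i := by
        rw [← List.replicate_succ, Nat.sub_add_cancel hp]
      have hr := hrel i hi i le_rfl
      rw [lhs, rhs, if_pos rfl, if_pos rfl] at hr
      rw [← run_spec f _ _ _, List.map_cons, List.sum_cons, hZ]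
      simp only [List.reverse_cons, List.reverse_append, List.reverse_reverse, el_append, el_cons,
        show el G [] = 1 from rfl, mul_one, mul_assoc]
      rw [hp', el_cons] at hr
      conv_lhs => rw [← el_cons G i q', ← List.take_append_drop (D.p - 1) (i :: q'), hq, el_append,
        ← mul_assoc (G i), hr]
      simp only [← mul_assoc]
      congr 1
      simp only [mul_assoc]
      rw [hmove _ (el G rev.reverse)]
      exact hswap _ _ _
    · rw [← run_spec f rev (i :: j :: q') acc]
      simp

include hZ hZc hrel hp in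
theorem collect_spec (w : List ℕ) :
    el G w = Z ((D.collect w).2.map tv).sum * el G (D.collect w).1 := by
  have h := run_spec D G Z tv hp hZ hZc hrel D.fuel w.reverse [] []
  rw [List.map_nil, List.sum_nil, Z_zero D Z hZ, one_mul, List.reverse_reverse, List.append_nil] at h
  exact h

theorem sum_map_neg (l : List ℕ) (hp : 0 < D.p) : ((D.neg l).map tv).sum = -(l.map tv).sum := by
  induction l with
  | nil => simp [neg]
  | cons a l ih =>
    rw [neg, List.flatMap_cons, List.map_append, List.sum_append, List.map_replicate, List.sum_replicate,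
      ← neg, ih, List.map_cons, List.sum_cons, nsmul_eq_mul, Nat.cast_sub hp, ZMod.natCast_self]
    simp [neg_add_rev, add_comm]

theorem sum_map_count {M : Type*} [AddCommMonoid M] (c : ℕ → M) (N : ℕ) : ∀ l : List ℕ, (∀ k ∈ l, k < N) →
    (l.map c).sum = ∑ k ∈ Finset.range N, l.count k • c k
  | [], _ => by simp
  | a :: l, h => by
    rw [List.map_cons, List.sum_cons, sum_map_count c N l fun k hk => h k (List.mem_cons_of_mem _ hk)]
    simp only [List.count_cons, add_nsmul, Finset.sum_add_distrib, beq_iff_eq, ite_smul, one_nsmul,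
      zero_nsmul, Finset.sum_ite_eq, Finset.mem_range, h a List.mem_cons_self, if_true]
    exact add_comm _ _

/-- A conjugation holds in the extension up to the kernel. -/
def ConjOk (uv : List (List ℕ) × List (List ℕ)) : Prop :=
  ∃ X : Γ, ∀ k < uv.1.length, ∃ c : ZMod D.p,
    X * el G (uv.1.getD k []) * X⁻¹ = Z c * el G (uv.2.getD k [])

theorem sum_map_flatMap {β : Type*} (f : β → List ℕ) : ∀ l : List β,
    ((l.flatMap f).map tv).sum = (l.map fun b => ((f b).map tv).sum).sum
  | [] => rfl
  | b :: l => by
    rw [List.flatMap_cons, List.map_append, List.sum_append, List.map_cons, List.sum_cons,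
      sum_map_flatMap f l]

theorem el_subst (us : List (List ℕ)) : ∀ w : List ℕ,
    el G (subst us w) = (w.map fun k => el G (us.getD k [])).prod
  | [] => rfl
  | k :: w => by
    rw [subst, List.flatMap_cons, el_append, ← subst, el_subst us w, List.map_cons, List.prod_cons]

include hZ hZc hrel hp in
theorem eq_spec (hinj : Function.Injective Z) : ∀ e : Equat, D.eqOk e = true →
    (∀ uv ∈ D.conjs, D.ConjOk G Z uv) → ((D.sides e).1.map tv).sum = ((D.sides e).2.map tv).sum
  | .overlap pre i j post, he, _ => by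
    simp only [eqOk, Bool.and_eq_true, Nat.blt_eq, Nat.ble_eq, beq_iff_eq] at he
    obtain ⟨⟨hi, hj⟩, hw⟩ := he
    have h1 := collect_spec D G Z tv hp hZ hZc hrel (pre ++ D.lhs i j ++ post)
    have h2 := collect_spec D G Z tv hp hZ hZc hrel (pre ++ D.rhs i j ++ post)
    rw [el_append, el_append, hrel i hi j hj, ← mul_assoc (el G pre), hZc, mul_assoc, mul_assoc,
      ← mul_assoc (el G pre), ← el_append, ← el_append, h2, hw, ← mul_assoc, ← hZ] at h1
    simp only [sides, List.map_cons, List.sum_cons]
    exact (hinj (mul_right_cancel h1)).symm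
  | .conj c sel, he, hX => by
    simp only [eqOk, Bool.and_eq_true, Nat.blt_eq, List.all_eq_true, beq_iff_eq, Nat.beq_eq,
      List.mem_range] at he
    obtain ⟨⟨hc, hsel⟩, hcount⟩ := he
    have hm : D.conjs.getD c ([], []) ∈ D.conjs := by
      rw [List.getD_eq_getElem _ _ hc]; exact List.getElem_mem hc
    obtain ⟨X, hX⟩ := hX _ hm
    simp only [sides]
    generalize D.conjs.getD c ([], []) = uv at hsel hcount hX ⊢
    choose! d hd using hX
    have key : ∀ l : List ℕ, (∀ k ∈ l, k < uv.1.length) →
        X * el G (subst uv.1 l) * X⁻¹ = Z (l.map d).sum * el G (subst uv.2 l) := by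
      intro l hl
      induction l with
      | nil => simp [subst, el, Z_zero D Z hZ]
      | cons k l ih =>
        rw [el_subst, el_subst, List.map_cons, List.prod_cons, List.map_cons, List.sum_cons, List.map_cons,
          List.prod_cons, hZ, ← el_subst, ← el_subst, ← conj_mul, hd k (hl k List.mem_cons_self),
          ih fun a ha => hl a (List.mem_cons_of_mem _ ha)]
        rw [mul_assoc (Z (d k)), ← mul_assoc (el G (uv.2.getD k [])), hZc]
        simp only [mul_assoc]
    let S : List ℕ → ZMod D.p := fun l => (l.map tv).sum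
    have hone : ∀ lr ∈ sel, S ((D.collect (subst uv.2 lr.1)).2) + S ((D.collect (subst uv.1 lr.2)).2) +
        ((lr.1.map d).sum - (lr.2.map d).sum) =
          S ((D.collect (subst uv.1 lr.1)).2) + S ((D.collect (subst uv.2 lr.2)).2) := by
      intro lr hlr
      obtain ⟨⟨⟨hl, hr⟩, hu⟩, hv⟩ := hsel lr hlr
      have h1 := key lr.1 hl
      have h2 := key lr.2 hr
      rw [collect_spec D G Z tv hp hZ hZc hrel (subst uv.1 lr.1),
        collect_spec D G Z tv hp hZ hZc hrel (subst uv.2 lr.1), hu, hv, ← mul_assoc, hZc, mul_assoc,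
        ← mul_assoc (Z _) (Z _), ← hZ] at h1
      rw [collect_spec D G Z tv hp hZ hZc hrel (subst uv.1 lr.2),
        collect_spec D G Z tv hp hZ hZc hrel (subst uv.2 lr.2), ← mul_assoc, hZc, mul_assoc,
        ← mul_assoc (Z _) (Z _), ← hZ] at h2
      simp only [mul_assoc] at h1 h2
      rw [← eq_inv_mul_iff_mul_eq] at h1 h2
      rw [h1, ← mul_assoc, ← mul_assoc] at h2
      have h3 := mul_right_cancel h2
      have hneg : ∀ a, (Z a)⁻¹ = Z (-a) := fun a => inv_eq_of_mul_eq_one_right (by
        rw [← hZ, add_neg_cancel, Z_zero D Z hZ])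
      rw [hneg, hneg, ← hZ, ← hZ] at h3
      have h4 := hinj h3
      simp only [S]
      linear_combination h4
    have hsum : (sel.map fun lr => (lr.1.map d).sum - (lr.2.map d).sum).sum = 0 := by
      have hA : ∀ f : List ℕ × List ℕ → List ℕ, (∀ lr ∈ sel, ∀ k ∈ f lr, k < uv.1.length) →
          (sel.map fun lr => ((f lr).map d).sum).sum =
            ∑ k ∈ Finset.range uv.1.length, (sel.flatMap f).count k • d k := by
        intro f hf
        rw [← sum_map_count d _ _ fun k hk => ?_, sum_map_flatMap D d f sel]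
        obtain ⟨lr, hlr, hk⟩ := List.mem_flatMap.1 hk
        exact hf lr hlr k hk
      have hsub : ∀ (a b : List ℕ × List ℕ → ZMod D.p) (l : List (List ℕ × List ℕ)),
          (l.map fun x => a x - b x).sum = (l.map a).sum - (l.map b).sum := by
        intro a b l
        induction l with
        | nil => simp
        | cons x l ih => simp only [List.map_cons, List.sum_cons, ih]; ring
      rw [hsub, hA Prod.fst fun lr h => (hsel lr h).1.1.1, hA Prod.snd fun lr h => (hsel lr h).1.1.2,
        sub_eq_zero]
      refine Finset.sum_congr rfl fun k hk => ?_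
      rw [nsmul_eq_mul, nsmul_eq_mul, ← ZMod.natCast_mod (List.count k _),
        hcount k (Finset.mem_range.1 hk), ZMod.natCast_mod]
    rw [sum_map_flatMap, sum_map_flatMap]
    simp only [List.map_append, List.sum_append]
    have hall := congrArg List.sum (List.map_congr_left hone)
    rw [List.sum_map_add, hsum, add_zero] at hall
    exact hall

/-- The correction of a generator. -/
def corr (i : ℕ) : ZMod D.p := ((D.phi.getD i []).map tv).sum

theorem el_corr (hZ : ∀ a b, Z (a + b) = Z a * Z b) (hZc : ∀ a (g : Γ), g * Z a = Z a * g) : ∀ l : List ℕ,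
    el (fun a => Z (D.corr tv a) * G a) l = Z (l.map (D.corr tv)).sum * el G l
  | [] => by simp [el, Z_zero D Z hZ]
  | a :: l => by
    rw [el_cons, el_corr hZ hZc l, el_cons, List.map_cons, List.sum_cons, hZ, mul_assoc,
      ← mul_assoc (G a), hZc]
    simp only [mul_assoc]

variable {α : Type} [BEq α] [LawfulBEq α] (V : Vec D.p α)

include hZ hZc hrel hp in
theorem exists_corrected (hinj : Function.Injective Z) {eqs : List (Equat × α)} {combos : List (List ℕ)}
    (hcert : D.certOk V eqs combos = true) (hconj : ∀ uv ∈ D.conjs, D.ConjOk G Z uv) :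
    ∀ i < D.n, ∀ j ≤ i, el (fun a => Z (D.corr tv a) * G a) (D.lhs i j) =
      el (fun a => Z (D.corr tv a) * G a) (D.rhs i j) := by
  intro i hi j hj
  simp only [certOk, Bool.and_eq_true, List.all_eq_true, List.mem_range, Nat.blt_eq] at hcert
  obtain ⟨⟨-, heq⟩, hc⟩ := hcert
  obtain ⟨hlt, hz⟩ := hc i hi j (by omega)
  have h := V.dot_isZero tv _ hz
  rw [V.dot_add, V.dot_ofList] at h
  have h0 : V.dot tv ((combos.getD (pidx i j) []).foldr
      (fun e a => V.add ((eqs.map Prod.snd).getD e V.zero) a) V.zero) = 0 := by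
    generalize combos.getD (pidx i j) [] = l at hlt
    induction l with
    | nil => exact V.dot_zero tv
    | cons e l ih =>
      rw [List.foldr_cons, V.dot_add, ih fun a ha => hlt a (List.mem_cons_of_mem _ ha), add_zero]
      have he := hlt e List.mem_cons_self
      rw [List.getD_eq_getElem _ _ (by rwa [List.length_map]), List.getElem_map]
      have hok := heq _ (List.getElem_mem he)
      rw [entryOk, Bool.and_eq_true, beq_iff_eq] at hok
      rw [← hok.2, V.dot_ofList, List.map_append, List.sum_append, sum_map_neg D tv _ hp,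
        ← sub_eq_add_neg, sub_eq_zero]
      exact eq_spec D G Z tv hp hZ hZc hrel hinj _ hok.1 hconj
  have hflat : (((D.word i j).flatMap fun l => D.phi.getD l []).map tv).sum =
      ((D.word i j).map (D.corr tv)).sum := sum_map_flatMap D tv _ _
  rw [h0, add_zero, List.map_cons, List.sum_cons, delta, List.map_append, List.sum_append,
    sum_map_neg D tv _ hp, hflat] at h
  rw [el_corr D G Z tv hZ hZc, el_corr D G Z tv hZ hZc, hrel i hi j hj, ← mul_assoc, ← hZ]
  congr 2
  rw [lhs, rhs]
  split_ifs with hij
  · rw [if_pos hij, List.map_nil, List.sum_nil, zero_add] at h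
    rw [List.map_replicate, List.sum_replicate, nsmul_eq_mul, ZMod.natCast_self, zero_mul]
    linear_combination h
  · rw [if_neg hij] at h
    simp only [List.map_cons, List.sum_cons, List.map_nil, List.sum_nil, add_zero]
    change tv (pidx i j) + (D.corr tv i + _) = 0 at h
    linear_combination h

end Soundness

end Data

/-! ### The order of a group with exact relations -/

universe u

open Subgroup

/-- An element whose `p`-th power and a smaller power lie in a subgroup lies in it, if the power is prime to `p`. -/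
theorem mem_of_pow_mem {Γ : Type*} [Group Γ] (K : Subgroup Γ) {a : Γ} {p e : ℕ} (he : Nat.Coprime e p)
    (h1 : a ^ e ∈ K) (h2 : a ^ p ∈ K) : a ∈ K := by
  have h := Nat.gcd_eq_gcd_ab e p
  rw [he.gcd_eq_one] at h
  have h3 : a = (a ^ e) ^ Nat.gcdA e p * (a ^ p) ^ Nat.gcdB e p := by
    rw [← zpow_natCast, ← zpow_natCast, ← zpow_mul, ← zpow_mul, ← zpow_add, ← h]
    simp
  rw [h3]
  exact mul_mem (zpow_mem h1 _) (zpow_mem h2 _)

/-- Adjoining `a` to a subgroup that it normalises and that contains `a ^ p`. -/
theorem card_closure_insert {Γ : Type*} [Group Γ] [Finite Γ] {p : ℕ} (hp : p.Prime) (a : Γ) (S : Set Γ)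
    (hconj : ∀ x ∈ S, a⁻¹ * x * a ∈ closure S) (hpow : a ^ p ∈ closure S) (hne : a ∉ closure S) :
    Nat.card (closure (insert a S)) = p * Nat.card (closure S) := by
  set K := closure S with hK
  have hconj' : ∀ x ∈ K, a⁻¹ * x * a ∈ K := by
    intro x hx
    induction hx using closure_induction with
    | mem x hx => exact hconj x hx
    | one => simp
    | mul x y _ _ hx hy =>
      rw [show a⁻¹ * (x * y) * a = (a⁻¹ * x * a) * (a⁻¹ * y * a) by group]
      exact mul_mem hx hy
    | inv x _ hx =>
      rw [show a⁻¹ * x⁻¹ * a = (a⁻¹ * x * a)⁻¹ by group]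
      exact inv_mem hx
  have haM : a ∈ closure (insert a S) := subset_closure (Set.mem_insert a S)
  have hKM : K ≤ closure (insert a S) := closure_mono (Set.subset_insert a S)
  let f : Fin p × K → closure (insert a S) := fun x =>
    ⟨a ^ (x.1 : ℕ) * x.2, mul_mem (pow_mem haM _) (hKM x.2.2)⟩
  have hinj : Function.Injective f := by
    have key : ∀ (m m' : Fin p) (c c' : K), (m : ℕ) ≤ m' → a ^ (m : ℕ) * (c : Γ) = a ^ (m' : ℕ) * c' →
        m = m' ∧ c = c' := by
      intro m m' c c' hle he
      by_cases hm : m = m'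
      · subst hm
        exact ⟨rfl, Subtype.ext (mul_left_cancel he)⟩
      · exfalso
        have hd : (m : ℕ) < m' := lt_of_le_of_ne hle fun h => hm (Fin.ext h)
        rw [← Nat.add_sub_cancel' hle, pow_add, mul_assoc] at he
        have he' := mul_left_cancel he
        have hmem : a ^ ((m' : ℕ) - m) ∈ K := by
          rw [show a ^ ((m' : ℕ) - m) = (c : Γ) * (c' : Γ)⁻¹ by rw [he', mul_inv_cancel_right]]
          exact mul_mem c.2 (inv_mem c'.2)
        refine hne (mem_of_pow_mem K ?_ hmem hpow)
        refine (hp.coprime_iff_not_dvd.2 fun hdvd => ?_).symm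
        have := Nat.le_of_dvd (by omega) hdvd
        have := m'.2
        omega
    rintro ⟨m, c⟩ ⟨m', c'⟩ h
    have h' : a ^ (m : ℕ) * (c : Γ) = a ^ (m' : ℕ) * (c' : Γ) := congrArg Subtype.val h
    rcases le_total (m : ℕ) m' with hl | hl
    · obtain ⟨h1, h2⟩ := key m m' c c' hl h'
      rw [h1, h2]
    · obtain ⟨h1, h2⟩ := key m' m c' c hl h'.symm
      rw [h1, h2]
  have hsurj : Function.Surjective f := by
    let T : Set Γ := {x | ∃ m < p, ∃ c ∈ K, x = a ^ m * c}
    let M : Submonoid Γ :=
      { carrier := {x | ∀ t ∈ T, t * x ∈ T}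
        one_mem' := fun t ht => by rwa [mul_one]
        mul_mem' := fun hx hy t ht => by rw [← mul_assoc]; exact hy _ (hx t ht) }
    have hsub : insert a S ⊆ M := by
      rintro x (rfl | hx) t ⟨m, hm, c, hc, rfl⟩
      · have he : x ^ m * c * x = x ^ (m + 1) * (x⁻¹ * c * x) := by rw [pow_succ]; group
        by_cases hm' : m + 1 < p
        · exact ⟨m + 1, hm', _, hconj' c hc, he⟩
        · refine ⟨0, hp.pos, _, mul_mem hpow (hconj' c hc), ?_⟩
          rw [he, show m + 1 = p by omega, pow_zero, one_mul]
      · exact ⟨m, hm, c * x, mul_mem hc (subset_closure hx), mul_assoc _ _ _⟩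
    rintro ⟨x, hx⟩
    have hx' : x ∈ Submonoid.closure (insert a S) := by
      rw [← Subgroup.closure_toSubmonoid_of_finite]
      exact hx
    have h1 : (1 : Γ) * x ∈ T :=
      (Submonoid.closure_le.2 hsub hx') 1 ⟨0, hp.pos, 1, one_mem K, by simp⟩
    obtain ⟨m, hm, c, hc, he⟩ := h1
    rw [one_mul] at he
    exact ⟨⟨⟨m, hm⟩, ⟨c, hc⟩⟩, Subtype.ext he.symm⟩
  rw [← Nat.card_eq_of_bijective f ⟨hinj, hsurj⟩, Nat.card_prod, Nat.card_fin]

/-- Generators with exact relations, each outside the group of the later ones, generate a group of order `p ^ n`. -/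
theorem card_series {Γ : Type*} [Group Γ] [Finite Γ] (D : Data) (hp : D.p.Prime) (g : ℕ → Γ)
    (hW : ∀ i < D.n, ∀ j ≤ i, ∀ l ∈ D.word i j, j < l ∧ l < D.n)
    (hrel : ∀ i < D.n, ∀ j ≤ i, Data.el g (D.lhs i j) = Data.el g (D.rhs i j))
    (hstrict : ∀ j < D.n, g j ∉ closure (g '' {l | j < l ∧ l < D.n})) :
    Nat.card (closure (g '' {l | l < D.n})) = D.p ^ D.n := by
  have key : ∀ d j, j + d = D.n → Nat.card (closure (g '' {l | j ≤ l ∧ l < D.n})) = D.p ^ d := by
    intro d
    induction d with
    | zero =>
      intro j hj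
      rw [show {l | j ≤ l ∧ l < D.n} = (∅ : Set ℕ) from Set.eq_empty_of_forall_notMem fun l hl => by
        simp only [Set.mem_setOf_eq] at hl
        omega]
      simp
    | succ d ih =>
      intro j hj
      have hj' : j < D.n := by omega
      have hset : g '' {l | j ≤ l ∧ l < D.n} = insert (g j) (g '' {l | j < l ∧ l < D.n}) := by
        rw [← Set.image_insert_eq]
        congr 1
        ext l
        simp only [Set.mem_setOf_eq, Set.mem_insert_iff]
        omega
      have hwmem : ∀ i < D.n, j ≤ i → Data.el g (D.word i j) ∈ closure (g '' {l | j < l ∧ l < D.n}) := by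
        intro i hi hji
        refine list_prod_mem fun x hx => ?_
        obtain ⟨l, hl, rfl⟩ := List.mem_map.1 hx
        exact subset_closure ⟨l, hW i hi j hji l hl, rfl⟩
      rw [hset, card_closure_insert hp _ _ ?_ ?_ (hstrict j hj'), pow_succ, mul_comm (D.p ^ d)]
      · congr 1
        have hnext := ih (j + 1) (by omega)
        rwa [show {l | j + 1 ≤ l ∧ l < D.n} = {l | j < l ∧ l < D.n} by ext; simp [Nat.add_one_le_iff]] at hnext
      · rintro _ ⟨l, ⟨hjl, hl⟩, rfl⟩
        have h := hrel l hl j hjl.le
        rw [Data.lhs, Data.rhs, if_neg (by omega), if_neg (by omega), Data.el_cons, Data.el_cons,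
          Data.el_cons, show Data.el g [] = 1 from rfl, mul_one] at h
        rw [mul_assoc, h, inv_mul_cancel_left]
        exact hwmem l hl hjl.le
      · have h := hrel j hj' j le_rfl
        rw [Data.lhs, Data.rhs, if_pos rfl, if_pos rfl] at h
        rw [show g j ^ D.p = Data.el g (List.replicate D.p j) by simp [Data.el], h]
        exact hwmem j hj' le_rfl
  have := key D.n 0 (by omega)
  simpa using this

/-! ### Stem extensions with kernel of prime order -/

open scoped commutatorElement

/-- A stem extension with kernel of order divisible by `p` has a quotient with kernel of order `p`. -/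
theorem killsPart_prime {G : Type u} [Group G] {p : ℕ} (hp : p.Prime) (P : Subgroup G)
    (h : ∀ (Γ : Type u) [Group Γ] [Finite Γ] (σ : Γ →* G), Cfsg.IsStemExtension σ →
      Nat.card σ.ker = p → False) : Fusion.KillsPart p P := by
  intro Γ _ _ σ hσ z hz hzp _
  by_contra hne
  letI : CommGroup σ.ker :=
    { (inferInstance : Group σ.ker) with
      mul_comm := fun a b => Subtype.ext (mem_center_iff.1 (hσ.2.1 b.2) a) }
  let pw : σ.ker →* σ.ker := powMonoidHom p
  have hR : pw.range ≠ ⊤ := fun he => by
    have hi := Finite.injective_iff_surjective.2 (MonoidHom.range_eq_top.1 he)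
    have h1 : (⟨z, hz⟩ : σ.ker) = 1 := hi (by
      rw [map_one]
      exact Subtype.ext (by simpa [pw] using hzp))
    exact hne (congrArg Subtype.val h1)
  obtain ⟨M, hM, hRM⟩ := (eq_top_or_exists_le_coatom pw.range).resolve_left hR
  obtain ⟨a, ha⟩ : ∃ a, a ∉ M := by
    by_contra hh
    exact hM.1 (eq_top_iff.2 fun x _ => not_not.1 fun hx => hh ⟨x, hx⟩)
  have hgen : M ⊔ zpowers a = ⊤ := hM.2 _ (lt_of_le_of_ne le_sup_left fun he =>
    ha (he.ge (mem_sup_right (mem_zpowers a))))
  have hpM : M.index = p := by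
    haveI : M.Normal := ⟨fun c hc g => by rwa [mul_comm g c, mul_inv_cancel_right]⟩
    have hord : orderOf (QuotientGroup.mk' M a) = p := by
      haveI := Fact.mk hp
      refine orderOf_eq_prime ?_ fun h1 => ha ((QuotientGroup.eq_one_iff a).1 h1)
      rw [← map_pow]
      exact (QuotientGroup.eq_one_iff _).2 (hRM ⟨a, rfl⟩)
    have htop : zpowers (QuotientGroup.mk' M a) = ⊤ := by
      rw [← MonoidHom.map_zpowers, ← Subgroup.map_top_of_surjective _ (QuotientGroup.mk'_surjective M),
        ← hgen, Subgroup.map_sup, QuotientGroup.map_mk'_self, bot_sup_eq]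
    rw [index_eq_card, ← Nat.card_congr (Subgroup.topEquiv (G := σ.ker ⧸ M)).toEquiv, ← htop,
      Nat.card_zpowers, hord]
  let K0 : Subgroup Γ := M.map σ.ker.subtype
  have hK0 : K0 ≤ σ.ker := by rintro _ ⟨c, -, rfl⟩; exact c.2
  haveI : K0.Normal := ⟨fun c hc g => by
    rwa [mem_center_iff.1 (hσ.2.1 (hK0 hc)) g, mul_inv_cancel_right]⟩
  let τ : Γ ⧸ K0 →* G := QuotientGroup.lift K0 σ hK0
  have hker : τ.ker = σ.ker.map (QuotientGroup.mk' K0) := QuotientGroup.ker_lift _ _ _
  refine h (Γ ⧸ K0) τ ⟨?_, ?_, ?_⟩ ?_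
  · intro g
    obtain ⟨x, rfl⟩ := hσ.1 g
    exact ⟨x, rfl⟩
  · rw [hker]
    rintro _ ⟨c, hc, rfl⟩
    rw [mem_center_iff]
    intro g
    obtain ⟨g, rfl⟩ := QuotientGroup.mk_surjective g
    exact congrArg (QuotientGroup.mk' K0) (mem_center_iff.1 (hσ.2.1 hc) g)
  · rw [hker]
    refine (Subgroup.map_mono hσ.2.2).trans ?_
    rw [commutator_def, Subgroup.map_commutator, commutator_def]
    exact Subgroup.commutator_mono le_top le_top
  · have hrange : σ.ker.map (QuotientGroup.mk' K0) =
        ((QuotientGroup.mk' K0).comp σ.ker.subtype).range := by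
      rw [MonoidHom.range_eq_map, ← Subgroup.map_map, ← MonoidHom.range_eq_map, Subgroup.range_subtype]
    rw [hker, hrange, ← Subgroup.index_ker, ← hpM]
    congr 1
    ext c
    rw [MonoidHom.mem_ker, MonoidHom.comp_apply, ← MonoidHom.mem_ker, QuotientGroup.ker_mk']
    exact ⟨fun ⟨d, hd, hdc⟩ => (Subtype.ext hdc : d = c) ▸ hd, fun hc => ⟨c, hc, rfl⟩⟩

/-- The certificate kills the `p`-part of the multiplier. -/
theorem killsPart_of_cert {G : Type u} [Group G] [Finite G] (P : Subgroup G) (D : Data) (hp : D.p.Prime)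
    {α : Type} [BEq α] [LawfulBEq α] (V : Vec D.p α) (g : ℕ → G) {eqs : List (Equat × α)}
    {combos : List (List ℕ)} (hcert : D.certOk V eqs combos = true)
    (hrel : ∀ i < D.n, ∀ j ≤ i, Data.el g (D.lhs i j) = Data.el g (D.rhs i j))
    (hstrict : ∀ j < D.n, g j ∉ closure (g '' {l | j < l ∧ l < D.n}))
    (hconj : ∀ uv ∈ D.conjs, ∃ y : G,
      ∀ k < uv.1.length, y * Data.el g (uv.1.getD k []) * y⁻¹ = Data.el g (uv.2.getD k []))
    (hidx : ¬ D.p ^ (D.n + 1) ∣ Nat.card G) : Fusion.KillsPart D.p P := by
  refine killsPart_prime hp P fun Γ _ _ σ hσ hcard => ?_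
  haveI : Fact D.p.Prime := ⟨hp⟩
  haveI : NeZero D.p := ⟨hp.ne_zero⟩
  obtain ⟨z, hz1⟩ : ∃ z : σ.ker, z ≠ 1 := by
    haveI : Finite σ.ker := inferInstance
    exact @exists_ne _ (Finite.one_lt_card_iff_nontrivial.1 (by rw [hcard]; exact hp.one_lt)) 1
  have hzne : (z : Γ) ≠ 1 := fun h => hz1 (Subtype.ext h)
  have hzp : z ^ D.p = 1 := by rw [← hcard]; exact pow_card_eq_one'
  have hord : orderOf z = D.p := orderOf_eq_prime hzp hz1
  let Z : ZMod D.p → Γ := fun t => (z : Γ) ^ t.val
  have hzord : orderOf (z : Γ) = D.p := by rw [Subgroup.orderOf_coe, hord]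
  have hZ : ∀ s t, Z (s + t) = Z s * Z t := by
    intro s t
    simp only [Z]
    have h := pow_mod_orderOf (z : Γ) (s.val + t.val)
    rw [hzord] at h
    rw [← pow_add, ZMod.val_add, h]
  have hZc : ∀ t (x : Γ), x * Z t = Z t * x := fun t x =>
    mem_center_iff.1 (pow_mem (hσ.2.1 z.2) _) x
  have hZinj : Function.Injective Z := fun s t hst => ZMod.val_injective _
    (pow_injOn_Iio_orderOf (by rw [hzord]; exact ZMod.val_lt s) (by rw [hzord]; exact ZMod.val_lt t) hst)
  have hZk : ∀ t, σ (Z t) = 1 := fun t => by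
    rw [map_pow, show σ (z : Γ) = 1 from z.2, one_pow]
  have hexZ : ∀ x : Γ, σ x = 1 → ∃ t, x = Z t := by
    intro x hx
    have htop : zpowers z = ⊤ :=
      Subgroup.eq_top_of_card_eq _ (by rw [Nat.card_zpowers, hord, hcard])
    obtain ⟨k, hk⟩ := (mem_powers_iff_mem_zpowers (x := z) (y := (⟨x, hx⟩ : σ.ker))).2
      (htop.ge (mem_top _))
    refine ⟨(k : ZMod D.p), ?_⟩
    have hk' : (z : Γ) ^ k = x := congrArg Subtype.val hk
    simp only [Z]
    have h := pow_mod_orderOf (z : Γ) k
    rw [hzord] at h
    rw [ZMod.val_natCast, h, hk']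
  choose L hL using hσ.1
  let G₀ : ℕ → Γ := fun i => L (g i)
  have hσel : ∀ (f : ℕ → Γ), (∀ i, σ (f i) = g i) → ∀ l, σ (Data.el f l) = Data.el g l := fun f hf l => by
    rw [Data.el, Data.el, map_list_prod, List.map_map]
    exact congrArg List.prod (List.map_congr_left fun i _ => hf i)
  have htv : ∀ k, ∃ t, ∀ i < D.n, ∀ j ≤ i, pidx i j = k →
      Data.el G₀ (D.lhs i j) = Z t * Data.el G₀ (D.rhs i j) := by
    intro k
    by_cases hk : ∃ i < D.n, ∃ j ≤ i, pidx i j = k
    · obtain ⟨i, hi, j, hj, rfl⟩ := hk
      obtain ⟨t, ht⟩ := hexZ (Data.el G₀ (D.lhs i j) * (Data.el G₀ (D.rhs i j))⁻¹) (by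
        rw [map_mul, map_inv, hσel G₀ (fun a => hL _), hσel G₀ (fun a => hL _), hrel i hi j hj,
          mul_inv_cancel])
      refine ⟨t, fun i' _ j' hj' he => ?_⟩
      obtain ⟨rfl, rfl⟩ := pidx_inj hj' hj he
      exact mul_inv_eq_iff_eq_mul.1 ht
    · exact ⟨0, fun i hi j hj he => absurd ⟨i, hi, j, hj, he⟩ hk⟩
  choose tv htv using htv
  have hrel₀ : ∀ i < D.n, ∀ j ≤ i,
      Data.el G₀ (D.lhs i j) = Z (tv (pidx i j)) * Data.el G₀ (D.rhs i j) :=
    fun i hi j hj => htv _ i hi j hj rfl
  have hconj₀ : ∀ uv ∈ D.conjs, D.ConjOk G₀ Z uv := by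
    intro uv huv
    obtain ⟨y, hy⟩ := hconj uv huv
    refine ⟨L y, fun k hk => ?_⟩
    obtain ⟨t, ht⟩ := hexZ (L y * Data.el G₀ (uv.1.getD k []) * (L y)⁻¹ * (Data.el G₀ (uv.2.getD k []))⁻¹) (by
      rw [map_mul, map_mul, map_mul, map_inv, map_inv, hσel G₀ (fun a => hL _), hσel G₀ (fun a => hL _),
        hL, hy k hk, mul_inv_cancel])
    exact ⟨t, mul_inv_eq_iff_eq_mul.1 ht⟩
  let G₁ : ℕ → Γ := fun a => Z (D.corr tv a) * G₀ a
  have hσ₁ : ∀ i, σ (G₁ i) = g i := fun i => by rw [map_mul, hZk, one_mul]; exact hL _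
  have hW : ∀ i < D.n, ∀ j ≤ i, ∀ l ∈ D.word i j, j < l ∧ l < D.n := by
    intro i hi j hj l hl
    have h := hcert
    simp only [Data.certOk, Bool.and_eq_true, List.all_eq_true, List.mem_range, Nat.blt_eq] at h
    exact h.1.1 i hi j (by omega) l hl
  have hrel₁ : ∀ i < D.n, ∀ j ≤ i, Data.el G₁ (D.lhs i j) = Data.el G₁ (D.rhs i j) :=
    Data.exists_corrected D G₀ Z tv hp.pos hZ hZc hrel₀ V hZinj hcert hconj₀
  have himg : ∀ s : Set ℕ, (closure (G₁ '' s)).map σ = closure (g '' s) := fun s => by
    rw [MonoidHom.map_closure, Set.image_image]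
    simp only [hσ₁]
  have hstrict₁ : ∀ j < D.n, G₁ j ∉ closure (G₁ '' {l | j < l ∧ l < D.n}) := fun j hj hmem =>
    hstrict j hj (by rw [← himg, ← hσ₁ j]; exact mem_map_of_mem σ hmem)
  set C := closure (G₁ '' {l | l < D.n}) with hC
  have hCcard : Nat.card C = D.p ^ D.n := card_series D hp G₁ hW hrel₁ hstrict₁
  have hPcard : Nat.card (C.map σ) = D.p ^ D.n := by
    rw [hC, himg]
    exact card_series D hp g hW hrel hstrict
  have hbij : Function.Bijective (fun x : C => (⟨σ x, mem_map_of_mem σ x.2⟩ : C.map σ)) :=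
    (Nat.bijective_iff_surjective_and_card _).2 ⟨fun ⟨_, x, hx, hxy⟩ => ⟨⟨x, hx⟩, Subtype.ext hxy⟩,
      hCcard.trans hPcard.symm⟩
  have hCker : ∀ x ∈ C, σ x = 1 → x = 1 := fun x hx h1 =>
    congrArg Subtype.val (hbij.1 (a₁ := ⟨x, hx⟩) (a₂ := 1) (Subtype.ext (by simp [h1])))
  have hnd : ¬ D.p ∣ (C.map σ).index := fun hd => hidx (by
    rw [← (C.map σ).card_mul_index, hPcard, pow_succ]
    exact Nat.mul_dvd_mul_left _ hd)
  have hmem := Fusion.mem_commutator_comap hσ z.2 hp
    (by rw [← coe_pow, hzp, coe_one]) (C.map σ) hnd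
  have hle : ⁅(C.map σ).comap σ, (C.map σ).comap σ⁆ ≤ C := by
    rw [commutator_le]
    intro x hx y hy
    obtain ⟨c, hc, hcx⟩ := hx
    obtain ⟨d, hd, hdy⟩ := hy
    rw [Fusion.commutator_congr hσ.2.1 hcx.symm hdy.symm, commutatorElement_def]
    exact C.mul_mem (C.mul_mem (C.mul_mem hc hd) (C.inv_mem hc)) (C.inv_mem hd)
  exact hzne (hCker _ (hle hmem) z.2)

end Cfsg.Agent.Lib.Schur.PcCollect
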