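import Cfsg.Agent.Lib.Symplectic.Std
import Cfsg.Agent.Lib.Computation.PermCode

/-!
# The symplectic group in dimension six over the field with two elements as permutations of 64 indices
-/

set_option autoImplicit false

namespace Cfsg.Agent.Lib.Schur.Sp62

open Matrix

/-- Column vectors. -/
abbrev V : Type := Fin 3 ⊕ Fin 3 → ZMod 2

/-- The binary position of a coordinate. -/
def posOf : Fin 3 ⊕ Fin 3 → ℕ
  | .inl i => i.val
  | .inr i => 3 + i.val

/-- The vector with a given index. -/
def vecOf (x : Fin 64) : V := fun c => if x.val.testBit (posOf c) then 1 else 0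

theorem vecOf_injective : Function.Injective vecOf := by
  intro x y h
  apply Fin.ext
  apply Nat.eq_of_testBit_eq
  intro i
  by_cases hi : i < 6
  · have hc : ∃ c, posOf c = i := by
      by_cases h3 : i < 3
      · exact ⟨.inl ⟨i, h3⟩, rfl⟩
      · exact ⟨.inr ⟨i - 3, by omega⟩, by simp only [posOf]; omega⟩
    obtain ⟨c, rfl⟩ := hc
    have h1 := congrFun h c
    simp only [vecOf] at h1
    cases hx : x.val.testBit (posOf c) <;> cases hy : y.val.testBit (posOf c) <;> simp_all
  · have h2 : 2 ^ 6 ≤ 2 ^ i := Nat.pow_le_pow_right (by norm_num) (not_lt.mp hi)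
    rw [Nat.testBit_lt_two_pow (by omega), Nat.testBit_lt_two_pow (by omega)]

/-- Indices and vectors. -/
noncomputable def vecEquiv : Fin 64 ≃ V :=
  Equiv.ofBijective vecOf ((Fintype.bijective_iff_injective_and_card vecOf).2
    ⟨vecOf_injective, by simp⟩)

/-- The permutation of the vectors. -/
noncomputable def permV (A : symplecticGroup (Fin 3) (ZMod 2)) : Equiv.Perm V where
  toFun v := (A : Matrix _ _ (ZMod 2)) *ᵥ v
  invFun v := ((A⁻¹ : symplecticGroup (Fin 3) (ZMod 2)) : Matrix _ _ (ZMod 2)) *ᵥ v
  left_inv v := by simp only []; rw [mulVec_mulVec, ← Submonoid.coe_mul, inv_mul_cancel, Submonoid.coe_one, one_mulVec]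
  right_inv v := by simp only []; rw [mulVec_mulVec, ← Submonoid.coe_mul, mul_inv_cancel, Submonoid.coe_one, one_mulVec]

/-- The action on indices. -/
noncomputable def phi : symplecticGroup (Fin 3) (ZMod 2) →* Equiv.Perm (Fin 64) where
  toFun A := vecEquiv.symm.permCongr (permV A)
  map_one' := by
    refine Equiv.ext fun x => ?_
    simp [Equiv.permCongr_apply, permV]
  map_mul' A B := by
    refine Equiv.ext fun x => ?_
    simp [Equiv.permCongr_apply, permV, mulVec_mulVec]

theorem phi_injective : Function.Injective phi := by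
  intro A B h
  refine Subtype.ext ?_
  refine Matrix.ext_of_mulVec_single fun c => ?_
  have h1 := congrArg (fun σ : Equiv.Perm (Fin 64) => vecEquiv (σ (vecEquiv.symm (Pi.single c 1)))) h
  simpa [phi, Equiv.permCongr_apply, permV] using h1

/-- A matrix agrees with a code on every vector. -/
def matOk (M : Matrix (Fin 3 ⊕ Fin 3) (Fin 3 ⊕ Fin 3) (ZMod 2)) (c : ℕ) : Bool :=
  Computation.okPerm 64 6 c &&
    decide (∀ x : Fin 64, M *ᵥ vecOf x = vecOf (Fin.ofNat 64 (Computation.getW 6 c x.val)))

theorem phi_eq {A : symplecticGroup (Fin 3) (ZMod 2)} {c : ℕ}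
    (h : matOk (A : Matrix _ _ (ZMod 2)) c = true) : phi A = Computation.decodeP 64 6 c := by
  simp only [matOk, Bool.and_eq_true, decide_eq_true_eq] at h
  refine Equiv.ext fun x => Fin.ext ?_
  rw [Computation.decodeP_apply h.1]
  show ((vecEquiv.symm.permCongr (permV A)) x : ℕ) = _
  rw [Equiv.permCongr_apply, Equiv.symm_symm]
  have h1 : permV A (vecEquiv x) = vecEquiv (Fin.ofNat 64 (Computation.getW 6 c x.val)) := h.2 x
  rw [h1, Equiv.symm_apply_apply, Fin.val_ofNat, Nat.mod_eq_of_lt (Computation.okPerm_lt h.1 x.isLt)]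

theorem card_sp62 : Nat.card (symplecticGroup (Fin 3) (ZMod 2)) = 1451520 := by
  rw [Symplectic.card_sp (q := 2) (by simp) 3]
  decide +kernel

end Cfsg.Agent.Lib.Schur.Sp62
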