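import Cfsg.Agent.Lib.Schur.Fusion

/-!
# Parts of the multiplier killed by an abelian subgroup that an involution inverts

Two criteria: an extraspecial group of order `p ^ 3` and exponent `p`; a group `V ⋊ ⟨a, b⟩` where an
involution centralising `a, b` inverts the abelian `3`-group `V`.
-/

set_option autoImplicit false

namespace Cfsg.Agent.Lib.Schur.InvertedAbelian

open Cfsg
open scoped commutatorElement

section
variable {Γ G : Type*} [Group Γ] [Group G] {σ : Γ →* G} (hk : σ.ker ≤ Subgroup.center Γ)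

include hk

theorem pow_left {a b : Γ} (h : Commute (σ a) (σ b)) (n : ℕ) : ⁅a ^ n, b⁆ = ⁅a, b⁆ ^ n := by
  rw [← commutatorElement_inv b (a ^ n), Fusion.commutator_pow_right hk h.symm, ← inv_pow,
    commutatorElement_inv]

theorem eq_one_of_sq {c : Γ} {r : ℕ} (hr : Odd r) (h2 : c ^ 2 = 1) (h : c ^ r = 1) : c = 1 := by
  obtain ⟨k, rfl⟩ := hr
  rwa [pow_succ, pow_mul, h2, one_pow, one_mul] at h

/-- An element carries `(v, w)` to a pair of another determinant, hence the pairing vanishes. -/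
theorem pair_eq_one (hsurj : Function.Surjective σ) {V W : Γ} (hcomm : Commute (σ V) (σ W))
    {r : ℕ} (hr : r.Prime) (hW : σ W ^ r = 1) {i j p q : ℕ} (hdet : i * q % r ≠ (j * p + 1) % r) {m : G}
    (hV' : m * σ V * m⁻¹ = σ V ^ i * σ W ^ j) (hW' : m * σ W * m⁻¹ = σ V ^ p * σ W ^ q) :
    ⁅V, W⁆ = 1 := by
  obtain ⟨M, rfl⟩ := hsurj m
  have h := Fusion.commutator_conj hk (a := V) (b := W) (a' := V ^ i * W ^ j) (b' := V ^ p * W ^ q)
    (n := M) hcomm (by rw [map_mul, map_pow, map_pow, hV']) (by rw [map_mul, map_pow, map_pow, hW'])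
  set X := V ^ i * W ^ j with hX
  have cXV : Commute (σ X) (σ V) := by
    rw [hX, map_mul, map_pow, map_pow]
    exact ((Commute.refl _).pow_left i).mul_left (hcomm.symm.pow_left j)
  have cXW : Commute (σ X) (σ W) := by
    rw [hX, map_mul, map_pow, map_pow]
    exact (hcomm.pow_left i).mul_left ((Commute.refl _).pow_left j)
  have eXV : ⁅X, V⁆ = (⁅V, W⁆ ^ j)⁻¹ := by
    rw [← commutatorElement_inv V X, hX,
      Fusion.commutator_mul_right hk (by rw [map_pow]; exact hcomm.pow_right j),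
      Fusion.commutator_pow_right hk hcomm,
      Fusion.commutator_pow_right hk (Commute.refl _), commutatorElement_self, one_pow, one_mul]
  have eXW : ⁅X, W⁆ = ⁅V, W⁆ ^ i := by
    rw [← commutatorElement_inv W X, hX,
      Fusion.commutator_mul_right hk (by rw [map_pow]; exact (Commute.refl _).pow_right j),
      Fusion.commutator_pow_right hk hcomm.symm,
      Fusion.commutator_pow_right hk (Commute.refl _), commutatorElement_self, one_pow, mul_one,
      ← inv_pow, commutatorElement_inv]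
  rw [Fusion.commutator_mul_right hk (by rw [map_pow]; exact cXW.pow_right q),
    Fusion.commutator_pow_right hk cXV, Fusion.commutator_pow_right hk cXW, eXV, eXW, inv_pow,
    ← pow_mul, ← pow_mul, inv_mul_eq_iff_eq_mul, ← pow_succ] at h
  by_contra hne
  have : Fact r.Prime := ⟨hr⟩
  have ho : orderOf ⁅V, W⁆ = r :=
    orderOf_eq_prime (Fusion.commutator_pow_eq_one hk hcomm hW) hne
  exact hdet (ho ▸ pow_eq_pow_iff_modEq.1 h)

end

/-- An extraspecial group of order `p ^ 3` and exponent `p`, with twisting elements. -/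
theorem killsPart_extraspecial {G : Type*} [Group G] {r : ℕ} (hr : r.Prime) (x y c m₁ m₂ : G)
    {a₁ b₁ i₁ a₂ b₂ i₂ : ℕ} (hx : x ^ r = 1) (hy : y ^ r = 1) (hcr : c ^ r = 1) (hc1 : c ≠ 1)
    (hc : ⁅x, y⁆ = c) (hcx : Commute c x) (hcy : Commute c y)
    (hab₁ : a₁ * b₁ % r ≠ 1 % r) (hab₂ : a₂ * b₂ % r ≠ 1 % r)
    (h₁c : m₁ * c * m₁⁻¹ = c ^ a₁) (h₁x : m₁ * x * m₁⁻¹ = x ^ b₁ * c ^ i₁)
    (h₂c : m₂ * c * m₂⁻¹ = c ^ a₂) (h₂y : m₂ * y * m₂⁻¹ = y ^ b₂ * c ^ i₂) :
    Fusion.KillsPart r (Subgroup.closure {x, y}) := by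
  intro Γ _ _ σ hσ z hz _ hzc
  have hk := hσ.2.1
  obtain ⟨A, rfl⟩ := hσ.1 x
  obtain ⟨B, rfl⟩ := hσ.1 y
  set C : Γ := ⁅A, B⁆ with hC
  have hσC : σ C = c := by rw [hC, map_commutatorElement, hc]
  subst hσC
  have hCA := commutatorElement_eq_one_iff_mul_comm.1
    (pair_eq_one hk hσ.1 (V := C) (W := A) hcx hr hx (i := a₁) (j := 0) (p := i₁) (q := b₁)
      (by rwa [zero_mul, zero_add]) (by rw [pow_zero, mul_one, h₁c])
      (by rw [h₁x]; exact (hcx.pow_pow i₁ b₁).eq.symm))
  have hCB := commutatorElement_eq_one_iff_mul_comm.1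
    (pair_eq_one hk hσ.1 (V := C) (W := B) hcy hr hy (i := a₂) (j := 0) (p := i₂) (q := b₂)
      (by rwa [zero_mul, zero_add]) (by rw [pow_zero, mul_one, h₂c])
      (by rw [h₂y]; exact (hcy.pow_pow i₂ b₂).eq.symm))
  have hAB : A * B * A⁻¹ = C * B := by simp [hC, commutatorElement_def]
  have hCr : C ^ r = 1 := by
    have hAc : A ^ r ∈ Subgroup.center Γ := hk (by rw [MonoidHom.mem_ker, map_pow, hx])
    have hcommA : Commute A C := hCA.symm
    have key : ∀ n : ℕ, A ^ n * B * (A ^ n)⁻¹ = C ^ n * B := by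
      intro n
      induction n with
      | zero => simp
      | succ n ih =>
        calc A ^ (n + 1) * B * (A ^ (n + 1))⁻¹ = A * (A ^ n * B * (A ^ n)⁻¹) * A⁻¹ := by
              rw [pow_succ']; group
          _ = A * (C ^ n * B) * A⁻¹ := by rw [ih]
          _ = C ^ n * (A * B * A⁻¹) := by
            rw [← mul_assoc, (hcommA.pow_right n).eq]; simp only [mul_assoc]
          _ = C ^ (n + 1) * B := by rw [hAB, ← mul_assoc, ← pow_succ]
    have h := key r
    rw [← Subgroup.mem_center_iff.1 hAc B, mul_inv_cancel_right, right_eq_mul] at h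
    exact h
  have hle : (Subgroup.closure {σ A, σ B}).comap σ ≤ Subgroup.closure ({A, B} ∪ (σ.ker : Set Γ)) := by
    rw [Subgroup.closure_union, Subgroup.closure_eq]
    intro g hg
    have h1 : σ g ∈ (Subgroup.closure ({A, B} : Set Γ)).map σ := by
      rw [MonoidHom.map_closure, Set.image_pair]; exact hg
    rwa [← Subgroup.mem_comap, Subgroup.comap_map_eq] at h1
  have hK : ⁅Subgroup.closure ({A, B} ∪ (σ.ker : Set Γ)), Subgroup.closure ({A, B} ∪ (σ.ker : Set Γ))⁆ ≤
      Subgroup.zpowers C := by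
    have hker : ∀ s ∈ σ.ker, ∀ t : Γ, Commute s t := fun s hs t =>
      ((Subgroup.mem_center_iff.1 (hk hs)) t).symm
    refine Fusion.commutator_closure_le _ _ ?_ ?_
    · rintro t ht k hk'
      obtain ⟨i, rfl⟩ := Subgroup.mem_zpowers_iff.1 hk'
      have : Commute t C := by
        rcases ht with (rfl | rfl) | ht
        · exact hCA.symm
        · exact hCB.symm
        · exact hker t ht C
      rw [(this.zpow_right i).eq, mul_inv_cancel_right]
      exact Subgroup.zpow_mem _ (Subgroup.mem_zpowers C) i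
    · intro s hs t ht
      rcases hs with hs | hs
      · rcases ht with ht | ht
        · rcases hs with rfl | rfl <;> rcases ht with rfl | rfl
          · simp
          · exact Subgroup.mem_zpowers C
          · rw [← commutatorElement_inv, ← hC]; exact inv_mem (Subgroup.mem_zpowers C)
          · simp
        · rw [commutatorElement_eq_one_iff_mul_comm.2 (hker t ht s).symm.eq]; exact one_mem _
      · rw [commutatorElement_eq_one_iff_mul_comm.2 (hker s hs t).eq]; exact one_mem _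
  obtain ⟨i, rfl⟩ := Subgroup.mem_zpowers_iff.1 (hK (Subgroup.commutator_mono hle hle hzc))
  have h1 : σ C ^ i = 1 := by rw [← map_zpow]; exact hz
  have : Fact r.Prime := ⟨hr⟩
  obtain ⟨j, rfl⟩ : (r : ℤ) ∣ i := by
    have := orderOf_dvd_iff_zpow_eq_one.2 h1
    rwa [orderOf_eq_prime hcr hc1] at this
  rw [zpow_mul, zpow_natCast, hCr, one_zpow]

/-- `V ⋊ ⟨a, b⟩` with an involution that inverts `V` and centralises `a` and `b`. -/
theorem killsPart_inverted {G : Type*} [Group G] {k : ℕ} (v : Fin k → G) (a b t n : G)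
    (hv : ∀ i, v i ^ 3 = 1) (hvc : ∀ i j, Commute (v i) (v j))
    (hpair : ∀ i j, i < j → ∃ (m : G) (i' j' p q : ℕ), i' * q % 3 ≠ (j' * p + 1) % 3 ∧
      m * v i * m⁻¹ = v i ^ i' * v j ^ j' ∧ m * v j * m⁻¹ = v i ^ p * v j ^ q)
    (ht : t * t = 1) (htv : ∀ i, t * v i * t⁻¹ = (v i)⁻¹) (hta : Commute t a) (htb : Commute t b)
    (ha : a ^ 3 = 1) (hb : b ^ 3 = 1) (hab : Commute a b) (hna : n * a * n⁻¹ = b) (hnb : n * b * n⁻¹ = a)
    (hva : ∀ i, a * v i * a⁻¹ ∈ Subgroup.closure (Set.range v))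
    (hvb : ∀ i, b * v i * b⁻¹ ∈ Subgroup.closure (Set.range v)) :
    Fusion.KillsPart 3 (Subgroup.closure (Set.range v ∪ {a, b})) := by
  intro Γ _ _ σ hσ z hz hz3 hzc
  have hk := hσ.2.1
  have hker : ∀ s ∈ σ.ker, ∀ x : Γ, Commute s x := fun s hs x =>
    ((Subgroup.mem_center_iff.1 (hk hs)) x).symm
  choose L hL using fun i => hσ.1 (v i)
  obtain ⟨A, rfl⟩ := hσ.1 a
  obtain ⟨B, rfl⟩ := hσ.1 b
  obtain ⟨T, rfl⟩ := hσ.1 t
  obtain ⟨N, rfl⟩ := hσ.1 n
  -- the preimage of `V` is abelian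
  have hpairs : ∀ i j, ⁅L i, L j⁆ = 1 := by
    have hlt : ∀ i j, i < j → ⁅L i, L j⁆ = 1 := by
      intro i j hij
      obtain ⟨m, i', j', p, q, hdet, h1, h2⟩ := hpair i j hij
      refine pair_eq_one hk hσ.1 (by rw [hL, hL]; exact hvc i j) Nat.prime_three (by rw [hL, hv])
        hdet (m := m) ?_ ?_
      · rw [hL, hL, h1]
      · rw [hL, hL, h2]
    intro i j
    rcases lt_trichotomy i j with h | rfl | h
    · exact hlt i j h
    · exact commutatorElement_self _
    · rw [← commutatorElement_inv, hlt j i h, inv_one]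
  have hVc := Fusion.comap_comm_of_pairwise hk (P := Subgroup.closure (Set.range v))
    (T := Set.range L) (by rw [← Set.range_comp]; exact (Subgroup.closure_mono (by
      rintro _ ⟨i, rfl⟩; exact ⟨i, hL i⟩)))
    (by rintro _ ⟨i, rfl⟩ _ ⟨j, rfl⟩; exact commutatorElement_eq_one_iff_mul_comm.1 (hpairs i j))
  have hT2 : ∀ x : Γ, T * (T * x * T⁻¹) * T⁻¹ = x := fun x => by
    have h := hker (T * T) (by rw [MonoidHom.mem_ker, map_mul, ht]) x
    calc T * (T * x * T⁻¹) * T⁻¹ = (T * T) * x * (T * T)⁻¹ := by group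
      _ = x := by rw [h.eq, mul_inv_cancel_right]
  -- the inverted part
  let K : Subgroup Γ :=
    { carrier := {x | σ x ∈ Subgroup.closure (Set.range v) ∧ T * x * T⁻¹ = x⁻¹}
      one_mem' := ⟨by rw [map_one]; exact one_mem _, by group⟩
      mul_mem' := fun {x y} hx hy => ⟨by rw [map_mul]; exact mul_mem hx.1 hy.1, by
        rw [show T * (x * y) * T⁻¹ = (T * x * T⁻¹) * (T * y * T⁻¹) by group, hx.2, hy.2,
          ← mul_inv_rev, hVc x hx.1 y hy.1]⟩
      inv_mem' := fun {x} hx => ⟨by rw [map_inv]; exact inv_mem hx.1, by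
        rw [show T * x⁻¹ * T⁻¹ = (T * x * T⁻¹)⁻¹ by group, hx.2]⟩ }
  let u : Fin k → Γ := fun i => T * L i * T⁻¹ * (L i)⁻¹
  have hu : ∀ i, σ (u i) = v i := fun i => by
    simp only [u, map_mul, map_inv, hL, htv]
    rw [← mul_inv_rev, inv_eq_iff_mul_eq_one, mul_assoc, ← pow_two, ← pow_succ']
    exact hv i
  have huK : ∀ i, u i ∈ K := fun i => by
    refine ⟨by rw [hu]; exact Subgroup.subset_closure ⟨i, rfl⟩, ?_⟩
    show T * (T * L i * T⁻¹ * (L i)⁻¹) * T⁻¹ = (T * L i * T⁻¹ * (L i)⁻¹)⁻¹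
    rw [show T * (T * L i * T⁻¹ * (L i)⁻¹) * T⁻¹ =
      (T * (T * L i * T⁻¹) * T⁻¹) * (T * L i * T⁻¹)⁻¹ by group, hT2]
    group
  -- lifts of the complement
  have hTX : ∀ X, σ X ^ 3 = 1 → Commute (σ T) (σ X) → ⁅T, X⁆ = 1 := fun X hX hc => by
    refine eq_one_of_sq hk (r := 3) (by decide) ?_ (Fusion.commutator_pow_eq_one hk hc hX)
    have h := Fusion.commutator_pow_eq_one hk hc.symm (b := T) (n := 2) (by rw [pow_two, ht])
    rwa [← commutatorElement_inv T X, inv_pow, inv_eq_one] at h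
  have hTA := commutatorElement_eq_one_iff_mul_comm.1 (hTX A ha hta)
  have hTB := commutatorElement_eq_one_iff_mul_comm.1 (hTX B hb htb)
  have hAB : ⁅A, B⁆ = 1 := by
    have h1 : ⁅B, A⁆ = ⁅A, B⁆ := Fusion.commutator_conj hk (n := N) hab hna.symm hnb.symm
    refine eq_one_of_sq hk (r := 3) (by decide) ?_ (Fusion.commutator_pow_eq_one hk hab hb)
    rw [pow_two]
    nth_rewrite 1 [← commutatorElement_inv, h1]
    exact inv_mul_cancel _
  have hconj : ∀ X, (∀ i, σ X * v i * (σ X)⁻¹ ∈ Subgroup.closure (Set.range v)) → T * X = X * T →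
      ∀ x ∈ K, X * x * X⁻¹ ∈ K := by
    intro X hX hc x hx
    refine ⟨?_, ?_⟩
    · have hle : Subgroup.closure (Set.range v) ≤
          (Subgroup.closure (Set.range v)).comap (MulAut.conj (σ X)).toMonoidHom := by
        rw [Subgroup.closure_le]; rintro _ ⟨i, rfl⟩; exact hX i
      simpa only [map_mul, map_inv, Subgroup.mem_comap, MulEquiv.coe_toMonoidHom,
        MulAut.conj_apply] using hle hx.1
    · have hc' : X⁻¹ * T⁻¹ = T⁻¹ * X⁻¹ := by rw [← mul_inv_rev, hc, mul_inv_rev]
      calc T * (X * x * X⁻¹) * T⁻¹ = (T * X) * x * (X⁻¹ * T⁻¹) := by group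
        _ = X * (T * x * T⁻¹) * X⁻¹ := by rw [hc, hc']; group
        _ = (X * x * X⁻¹)⁻¹ := by rw [hx.2]; group
  set S : Set Γ := Set.range u ∪ {A, B} ∪ (σ.ker : Set Γ) with hS
  have hle : (Subgroup.closure (Set.range v ∪ {σ A, σ B})).comap σ ≤ Subgroup.closure S := by
    intro g hg
    rw [hS, Subgroup.closure_union, Subgroup.closure_eq]
    have h1 : σ g ∈ (Subgroup.closure (Set.range u ∪ {A, B})).map σ := by
      rw [MonoidHom.map_closure, Set.image_union, Set.image_pair, ← Set.range_comp,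
        show σ ∘ u = v from funext hu]
      exact hg
    rwa [← Subgroup.mem_comap, Subgroup.comap_map_eq] at h1
  have hcommK : ∀ x ∈ K, ∀ y ∈ K, x * y = y * x := fun x hx y hy => hVc x hx.1 y hy.1
  have hmix : ∀ i, ∀ X, (∀ x ∈ K, X * x * X⁻¹ ∈ K) → ⁅X, u i⁆ ∈ K := fun i X hX => by
    rw [commutatorElement_def]; exact mul_mem (hX _ (huK i)) (inv_mem (huK i))
  have hstabA := hconj A hva hTA
  have hstabB := hconj B hvb hTB
  have hK : ⁅Subgroup.closure S, Subgroup.closure S⁆ ≤ K := by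
    refine Fusion.commutator_closure_le _ _ ?_ ?_
    · intro s hs x hx
      rcases hs with (⟨i, rfl⟩ | rfl | rfl) | hs
      · rw [hcommK _ (huK i) _ hx, mul_inv_cancel_right]; exact hx
      · exact hstabA x hx
      · exact hstabB x hx
      · rw [(hker s hs x).eq, mul_inv_cancel_right]; exact hx
    · intro s hs s' hs'
      rcases hs with hs | hs
      · rcases hs' with hs' | hs'
        · rcases hs with ⟨i, rfl⟩ | rfl | rfl <;> rcases hs' with ⟨j, rfl⟩ | rfl | rfl
          · rw [commutatorElement_eq_one_iff_mul_comm.2 (hcommK _ (huK i) _ (huK j))]; exact one_mem _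
          · rw [← commutatorElement_inv]; exact inv_mem (hmix i _ hstabA)
          · rw [← commutatorElement_inv]; exact inv_mem (hmix i _ hstabB)
          · exact hmix j _ hstabA
          · rw [commutatorElement_self]; exact one_mem _
          · rw [hAB]; exact one_mem _
          · exact hmix j _ hstabB
          · rw [← commutatorElement_inv, hAB, inv_one]; exact one_mem _
          · rw [commutatorElement_self]; exact one_mem _
        · rw [commutatorElement_eq_one_iff_mul_comm.2 (hker s' hs' s).symm.eq]; exact one_mem _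
      · rw [commutatorElement_eq_one_iff_mul_comm.2 (hker s hs s').eq]; exact one_mem _
  have hzK := (hK (Subgroup.commutator_mono hle hle hzc)).2
  rw [← (hker z hz T).eq, mul_inv_cancel_right] at hzK
  exact eq_one_of_sq hk (r := 3) (by decide) (by rw [pow_two]; exact eq_inv_iff_mul_eq_one.1 hzK) hz3

end Cfsg.Agent.Lib.Schur.InvertedAbelian
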