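import Cfsg.Agent.Lib.Schur.PermMult

/-!
# The certificate at two with a short key

As `PermMult.exists_two`, with the distinctness of the normal forms read on a few points only, and with
the checks as separate hypotheses.
-/

set_option autoImplicit false

namespace Cfsg.Agent.Lib.Schur.PermMultKey

open Cfsg
open Cfsg.Agent.Lib.Computation
open Cfsg.Agent.Lib.Schur.PcTails (Data Equat)
open Cfsg.Agent.Lib.Schur.PermMult

variable {n w : ℕ} [NeZero n] (hw : n ≤ 2 ^ w) (ch : List (Computation.Level ℕ))

/-- The image of a point under a word in the generators. -/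
def evalL (n w : ℕ) (gs l : List ℕ) (x : ℕ) : ℕ :=
  l.foldr (fun i a => getW w (gs.getD i (pone n w)) a) x

/-- The images of the given points under a normal form. -/
def key (n w : ℕ) (T : TwoCert) (bs : List ℕ) (q : ℕ) : ℕ :=
  packW w (fun t => evalL n w T.gens (T.data.bits q) (bs.getD t 0)) bs.length

/-- The generators are members. -/
noncomputable def gensOk (T : TwoCert) : Bool := T.gens.all (memC hw ch)

/-- The tables and the linear algebra. -/
def tailsOk (T : TwoCert) : Bool := T.data.tableOk && T.data.cobOk T.eqs T.combos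

/-- The conjugations are right. -/
noncomputable def fusionOk (T : TwoCert) : Bool := T.eqs.all (conjOk hw ch T)

/-- The presentation holds in the group. -/
def relOk (n w : ℕ) (T : TwoCert) : Bool :=
  (List.range T.data.n).all fun i => (List.range (i + 1)).all fun j =>
    Nat.beq (mulP n w (T.gens.getD i (pone n w)) (T.gens.getD j (pone n w)))
      (if i = j then pword n w T.gens (T.data.word i j)
        else mulP n w (T.gens.getD j (pone n w)) (pword n w T.gens (T.data.word i j)))

/-- The normal forms differ on the given points. -/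
def injOk (n w : ℕ) (T : TwoCert) (bs : List ℕ) : Bool :=
  (bs.all fun x => Nat.blt x n) &&
  ((List.range (2 ^ T.data.n)).all fun q =>
    Nat.blt (getW T.data.n T.pos q) (2 ^ T.data.n) &&
      Nat.beq (getW T.data.n T.ord (getW T.data.n T.pos q)) q) &&
  (List.range (2 ^ T.data.n - 1)).all fun k =>
    Nat.blt (key n w T bs (getW T.data.n T.ord k)) (key n w T bs (getW T.data.n T.ord (k + 1)))

variable {hw} {ch}

theorem evalL_eq {g : ℕ → (permRep n w hw).grp ch} {gs : List ℕ}
    (hg : ∀ i, Has hw ch (g i) (gs.getD i (pone n w))) :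
    ∀ (l : List ℕ) (x : Fin n),
      evalL n w gs l x = (((l.map g).prod : (permRep n w hw).grp ch) : Equiv.Perm (Fin n)) x := by
  intro l x
  induction l with
  | nil => rw [List.map_nil, List.prod_nil, OneMemClass.coe_one, Equiv.Perm.one_apply]; rfl
  | cons i l ih =>
    rw [List.map_cons, List.prod_cons, Subgroup.coe_mul, Equiv.Perm.mul_apply, (hg i).2,
      decodeP_apply (hg i).1, ← ih]
    rfl

theorem exists_two (hc : (permRep n w hw).checkChain ch = true) {T : TwoCert} {bs : List ℕ}
    (hgens : gensOk hw ch T = true) (htails : tailsOk T = true) (hconj : fusionOk hw ch T = true)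
    (hrel : relOk n w T = true) (hinj : injOk n w T bs = true)
    (hidx : ¬ 2 ^ (T.data.n + 1) ∣ Nat.card ((permRep n w hw).grp ch)) :
    ∃ P : Subgroup ((permRep n w hw).grp ch), ¬ 2 ∣ P.index ∧ Fusion.KillsPart 2 P := by
  simp only [gensOk, List.all_eq_true] at hgens
  simp only [tailsOk, Bool.and_eq_true] at htails
  simp only [fusionOk, List.all_eq_true] at hconj
  simp only [relOk, List.all_eq_true, List.mem_range, Nat.beq_eq] at hrel
  simp only [injOk, Bool.and_eq_true, List.all_eq_true, List.mem_range, Nat.beq_eq, Nat.blt_eq] at hinj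
  obtain ⟨⟨hbs, hord⟩, hmono⟩ := hinj
  classical
  let g : ℕ → (permRep n w hw).grp ch := fun i =>
    if h : i < T.gens.length then el hc (hgens _ (List.getElem_mem h)) else 1
  have hg : ∀ i, Has hw ch (g i) (T.gens.getD i (pone n w)) := fun i => by
    by_cases h : i < T.gens.length
    · simp only [g, dif_pos h]
      rw [List.getD_eq_getElem _ _ h]
      exact el_has hc _
    · simp only [g, dif_neg h]
      rw [List.getD_eq_default _ _ (not_lt.1 h)]
      exact hasOne
  have hs : ∀ q, Has hw ch (T.data.s g q) (T.scode n w q) := fun q => by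
    rw [← Data.prod_bits, TwoCert.scode]; exact has_word hg _
  have hk : ∀ p q, T.data.s g p = T.data.s g q → key n w T bs p = key n w T bs q := fun p q he =>
    packW_congr fun t ht => by
      have hlt : bs.getD t 0 < n := by
        rw [List.getD_eq_getElem _ _ ht]; exact hbs _ (List.getElem_mem ht)
      have e : ∀ q, evalL n w T.gens (T.data.bits q) (bs.getD t 0) =
          ((T.data.s g q : (permRep n w hw).grp ch) : Equiv.Perm (Fin n)) ⟨bs.getD t 0, hlt⟩ := fun q => by
        rw [← Data.prod_bits]; exact evalL_eq hg _ ⟨bs.getD t 0, hlt⟩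
      rw [e, e, he]
  refine ⟨⊤, by simp, PcTails.killsPart_of_cert ⊤ T.data g htails.1 htails.2 (fun i hi j hj => ?_)
    (fun p hp q hq he => ?_) (fun x us vs w' he => ?_) hidx⟩
  · have h := hrel i hi j (Nat.lt_succ_of_le hj)
    split_ifs with hij
    · rw [if_pos hij] at h
      subst hij
      rw [one_mul]
      exact ((hg i).mul (hg i)).eq (has_word hg _) (by rw [h]; exact Nat.beq_refl _)
    · rw [if_neg hij] at h
      exact ((hg i).mul (hg j)).eq ((hg j).mul (has_word hg _)) (by rw [h]; exact Nat.beq_refl _)
  · obtain ⟨hp1, hp2⟩ := hord p hp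
    obtain ⟨hq1, hq2⟩ := hord q hq
    have this : getW T.data.n T.pos p = getW T.data.n T.pos q := by
      refine GolayMult.eq_of_strictMono
        (fun k => key n w T bs (getW T.data.n T.ord k)) hmono hp1 hq1 ?_
      show key n w T bs (getW T.data.n T.ord (getW T.data.n T.pos p)) =
        key n w T bs (getW T.data.n T.ord (getW T.data.n T.pos q))
      rw [hp2, hq2]
      exact hk p q he
    rw [← hp2, this, hq2]
  · have h := hconj _ he
    simp only [conjOk, Bool.and_eq_true, List.all_eq_true, List.mem_range] at h
    refine ⟨el hc h.1, fun k hk' => mul_inv_eq_iff_eq_mul.2 ?_⟩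
    exact ((el_has hc h.1).mul (hs _)).eq ((hs _).mul (el_has hc h.1)) (h.2 k hk')

end Cfsg.Agent.Lib.Schur.PermMultKey
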