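import Cfsg.Agent.Lib.Schur.PermMult

/-!
# Permutations with two blocks of indices of any sizes, and the projection to the second block
-/

set_option autoImplicit false

namespace Cfsg.Agent.Lib.Schur.SplitBlock

open Cfsg.Agent.Lib.Computation

variable (n₁ n₂ : ℕ)

/-- Side by side. -/
noncomputable def blockEmb : Equiv.Perm (Fin n₁) × Equiv.Perm (Fin n₂) →* Equiv.Perm (Fin (n₁ + n₂)) :=
  (finSumFinEquiv (m := n₁) (n := n₂)).permCongrHom.toMonoidHom.comp
    (Equiv.Perm.sumCongrHom (Fin n₁) (Fin n₂))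

theorem blockEmb_injective : Function.Injective (blockEmb n₁ n₂) :=
  (finSumFinEquiv (m := n₁) (n := n₂)).permCongrHom.injective.comp Equiv.Perm.sumCongrHom_injective

/-- Projection to the second block, on the range. -/
noncomputable def proj : (blockEmb n₁ n₂).range →* Equiv.Perm (Fin n₂) :=
  (MonoidHom.snd _ _).comp (MonoidHom.ofInjective (blockEmb_injective n₁ n₂)).symm.toMonoidHom

variable (w w₁ w₂ : ℕ)

/-- A code has the two given blocks. -/
def blockOk (c a b : ℕ) : Bool :=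
  okPerm (n₁ + n₂) w c && okPerm n₁ w₁ a && okPerm n₂ w₂ b &&
    ((List.range n₁).all fun x => Nat.beq (getW w c x) (getW w₁ a x)) &&
    (List.range n₂).all fun x => Nat.beq (getW w c (n₁ + x)) (n₁ + getW w₂ b x)

variable {n₁ n₂ w w₁ w₂}

theorem decodeP_block {c a b : ℕ} (h : blockOk n₁ n₂ w w₁ w₂ c a b = true) :
    decodeP (n₁ + n₂) w c = blockEmb n₁ n₂ (decodeP n₁ w₁ a, decodeP n₂ w₂ b) := by
  simp only [blockOk, Bool.and_eq_true, List.all_eq_true, List.mem_range, Nat.beq_eq] at h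
  obtain ⟨⟨⟨⟨hc, ha⟩, hb⟩, hx⟩, hy⟩ := h
  refine Equiv.ext fun i => ?_
  obtain ⟨s, rfl⟩ := (finSumFinEquiv (m := n₁) (n := n₂)).surjective i
  refine Fin.ext ?_
  rw [decodeP_apply hc]
  show getW w c _ = ((finSumFinEquiv.permCongr (Equiv.sumCongr _ _)) (finSumFinEquiv s) : Fin (n₁ + n₂)).val
  rw [Equiv.permCongr_apply, Equiv.symm_apply_apply]
  rcases s with j | j <;> simp only [Equiv.sumCongr_apply, Sum.map_inl, Sum.map_inr,
    finSumFinEquiv_apply_left, finSumFinEquiv_apply_right, Fin.val_castAdd, Fin.val_natAdd]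
  · rw [hx j j.isLt, decodeP_apply ha]
  · rw [hy j j.isLt, decodeP_apply hb]

theorem proj_of_block {c a b : ℕ} (h : blockOk n₁ n₂ w w₁ w₂ c a b = true) (g : (blockEmb n₁ n₂).range)
    (hg : (g : Equiv.Perm (Fin (n₁ + n₂))) = decodeP (n₁ + n₂) w c) :
    proj n₁ n₂ g = decodeP n₂ w₂ b := by
  have hgg : g = MonoidHom.ofInjective (blockEmb_injective n₁ n₂) (decodeP n₁ w₁ a, decodeP n₂ w₂ b) :=
    Subtype.ext (hg.trans (decodeP_block h))
  show ((MonoidHom.ofInjective (blockEmb_injective n₁ n₂)).symm g).2 = _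
  rw [hgg, MulEquiv.symm_apply_apply]

end Cfsg.Agent.Lib.Schur.SplitBlock
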