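import Cfsg.Agent.Lib.Schur.PcTails
import Cfsg.Agent.Lib.OutTrivial.GolayModel

/-!
# Multipliers of subgroups of the code group: certificates for each prime
-/

set_option autoImplicit false

namespace Cfsg.Agent.Lib.Schur.GolayMult

open Cfsg
open Cfsg.Agent.Lib.Golay
open Cfsg.Agent.Lib.OutTrivial (Spec cmul cpow Is isOne notOne)
open Cfsg.Agent.Lib.Schur.PcTails (Data Equat)
open Cfsg.Agent.Lib.Computation (getW packW)
open scoped commutatorElement

/-- The code of a word. -/
def wcode (gs : List ℕ) (l : List ℕ) : ℕ := l.foldr (fun i a => cmul (gs.getD i oneCode) a) oneCode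

/-- The images of all indices. -/
def key (c : ℕ) : ℕ := packW 5 (getW 5 c) 24

/-- The certificate at the prime two. -/
structure TwoCert where
  spec : Spec
  data : Data
  gens : List ℕ
  eqs : List Equat
  combos : List (List ℕ)
  ord : ℕ
  pos : ℕ

/-- The code of a normal form. -/
def TwoCert.scode (T : TwoCert) (q : ℕ) : ℕ := wcode T.gens (T.data.bits q)

/-- The conjugation of an equation is right. -/
def TwoCert.conjOk (T : TwoCert) : Equat → Bool
  | .overlap _ _ _ => true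
  | .conj x us vs _ => T.spec.mem x && (List.range us.length).all fun k =>
      Nat.beq (cmul x (T.scode (us.getD k 0))) (cmul (T.scode (vs.getD k 0)) x)

/-- All checks. -/
def TwoCert.ok (T : TwoCert) : Bool :=
  T.spec.ok && T.spec.mem oneCode && T.gens.all T.spec.mem && T.data.tableOk &&
  T.data.cobOk T.eqs T.combos && T.eqs.all T.conjOk &&
  ((List.range T.data.n).all fun i => (List.range (i + 1)).all fun j =>
    Nat.beq (cmul (T.gens.getD i oneCode) (T.gens.getD j oneCode))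
      (if i = j then wcode T.gens (T.data.word i j)
        else cmul (T.gens.getD j oneCode) (wcode T.gens (T.data.word i j)))) &&
  ((List.range (2 ^ T.data.n)).all fun q =>
    Nat.blt (getW T.data.n T.pos q) (2 ^ T.data.n) &&
      Nat.beq (getW T.data.n T.ord (getW T.data.n T.pos q)) q) &&
  (List.range (2 ^ T.data.n - 1)).all fun k =>
    Nat.blt (key (T.scode (getW T.data.n T.ord k))) (key (T.scode (getW T.data.n T.ord (k + 1))))

variable {K : Subgroup (Equiv.Perm GolayPt)}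

/-- A member from a checked code. -/
noncomputable def el {S : Spec} (hK : ∀ g, g ∈ K ↔ S.Holds g) (hS : S.ok = true) {c : ℕ}
    (h : S.mem c = true) : K :=
  ⟨gperm c, (hK _).2 (S.mem_spec hS h).2⟩

theorem el_is {S : Spec} (hK : ∀ g, g ∈ K ↔ S.Holds g) (hS : S.ok = true) {c : ℕ}
    (h : S.mem c = true) : Is (el hK hS h) c :=
  ⟨(S.mem_spec hS h).1, rfl⟩

theorem packW_congr {f f' : ℕ → ℕ} : ∀ {k : ℕ}, (∀ x < k, f x = f' x) → packW 5 f k = packW 5 f' k := by
  intro k
  induction k with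
  | zero => intro _; rfl
  | succ k ih =>
    intro h
    rw [Computation.packW_succ, Computation.packW_succ, h k (Nat.lt_succ_self k),
      ih fun x hx => h x (Nat.lt_succ_of_lt hx)]

theorem key_eq {a : K} {c d : ℕ} (hc : Is a c) (hd : Is a d) : key c = key d :=
  packW_congr fun x hx => by
    rw [← idx_pt hx, ← idx_gperm hc.1, ← idx_gperm hd.1, ← hc.2, ← hd.2]

theorem wcode_cons (gs : List ℕ) (i : ℕ) (l : List ℕ) :
    wcode gs (i :: l) = cmul (gs.getD i oneCode) (wcode gs l) := List.foldr_cons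

theorem wcode_nil (gs : List ℕ) : wcode gs [] = oneCode := List.foldr_nil

theorem is_word {g : ℕ → K} {gs : List ℕ} (hg : ∀ i, Is (g i) (gs.getD i oneCode)) :
    ∀ l : List ℕ, Is ((l.map g).prod) (wcode gs l) := by
  intro l
  induction l with
  | nil => rw [List.map_nil, List.prod_nil, wcode_nil]; exact isOne
  | cons i l ih => rw [List.map_cons, List.prod_cons, wcode_cons]; exact (hg i).mul ih

theorem eq_of_strictMono {N : ℕ} (f : ℕ → ℕ) (hmono : ∀ k < N - 1, f k < f (k + 1)) {a b : ℕ}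
    (ha : a < N) (hb : b < N) (h : f a = f b) : a = b := by
  have hlt : ∀ y, y < N → ∀ x < y, f x < f y := by
    intro y
    induction y with
    | zero => intro _ x hx; omega
    | succ y ih =>
      intro hy x hx
      have h1 : f y < f (y + 1) := hmono y (by omega)
      rcases Nat.lt_succ_iff_lt_or_eq.1 hx with h | rfl
      · exact (ih (by omega) x h).trans h1
      · exact h1
  rcases lt_trichotomy a b with h' | h' | h'
  · exact absurd h (hlt _ hb _ h').ne
  · exact h'
  · exact absurd h (hlt _ ha _ h').ne'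

theorem exists_two {T : TwoCert} (hK : ∀ g, g ∈ K ↔ T.spec.Holds g) (hok : T.ok = true)
    (hidx : ¬ 2 ^ (T.data.n + 1) ∣ Nat.card K) :
    ∃ P : Subgroup K, ¬ 2 ∣ P.index ∧ Fusion.KillsPart 2 P := by
  simp only [TwoCert.ok, Bool.and_eq_true, List.all_eq_true, List.mem_range, Nat.beq_eq,
    Nat.blt_eq] at hok
  obtain ⟨⟨⟨⟨⟨⟨⟨⟨hS, hone⟩, hgens⟩, htab⟩, hcob⟩, hconj⟩, hrel⟩, hord⟩, hmono⟩ := hok
  classical
  let g : ℕ → K := fun i =>
    if h : T.spec.mem (T.gens.getD i oneCode) = true then el hK hS h else 1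
  have hg : ∀ i, Is (g i) (T.gens.getD i oneCode) := fun i => by
    have h : T.spec.mem (T.gens.getD i oneCode) = true := by
      by_cases hi : i < T.gens.length
      · rw [List.getD_eq_getElem _ _ hi]; exact hgens _ (List.getElem_mem hi)
      · rw [List.getD_eq_default _ _ (not_lt.1 hi)]; exact hone
    simp only [g, dif_pos h]
    exact el_is hK hS h
  have hw : ∀ l : List ℕ, Is ((l.map g).prod) (wcode T.gens l) := is_word hg
  have hs : ∀ q, Is (T.data.s g q) (T.scode q) := fun q => by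
    rw [← Data.prod_bits, TwoCert.scode]; exact hw _
  refine ⟨⊤, by simp, PcTails.killsPart_of_cert ⊤ T.data g htab hcob (fun i hi j hj => ?_)
    (fun p hp q hq he => ?_) (fun x us vs w he => ?_) hidx⟩
  · have h := hrel i hi j (Nat.lt_succ_of_le hj)
    split_ifs with hij
    · rw [if_pos hij] at h
      subst hij
      rw [one_mul]
      exact ((hg i).mul (hg i)).eq (hw _) (by rw [h]; exact Nat.beq_refl _)
    · rw [if_neg hij] at h
      exact ((hg i).mul (hg j)).eq ((hg j).mul (hw _)) (by rw [h]; exact Nat.beq_refl _)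
  · obtain ⟨hp1, hp2⟩ := hord p hp
    obtain ⟨hq1, hq2⟩ := hord q hq
    have this : getW T.data.n T.pos p = getW T.data.n T.pos q := by
      refine eq_of_strictMono (fun k => key (T.scode (getW T.data.n T.ord k))) hmono hp1 hq1 ?_
      show key (T.scode (getW T.data.n T.ord (getW T.data.n T.pos p))) =
        key (T.scode (getW T.data.n T.ord (getW T.data.n T.pos q)))
      rw [hp2, hq2]
      exact key_eq (hs p) (by rw [he]; exact hs q)
    rw [← hp2, this, hq2]
  · have h := hconj _ he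
    simp only [TwoCert.conjOk, Bool.and_eq_true, List.all_eq_true, List.mem_range] at h
    refine ⟨el hK hS h.1, fun k hk => mul_inv_eq_iff_eq_mul.2 ?_⟩
    exact ((el_is hK hS h.1).mul (hs _)).eq ((hs _).mul (el_is hK hS h.1)) (h.2 k hk)

/-! ### cyclic Sylow subgroups -/

theorem exists_cyclic {S : Spec} (hK : ∀ g, g ∈ K ↔ S.Holds g) (hS : S.ok = true) {q c : ℕ}
    (hq : q.Prime) (hc : (S.mem c && Nat.beq (cpow c q) oneCode && notOne c) = true)
    (hidx : ¬ q ^ 2 ∣ Nat.card K) : ∃ P : Subgroup K, ¬ q ∣ P.index ∧ Fusion.KillsPart q P := by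
  simp only [Bool.and_eq_true] at hc
  have hx := el_is hK hS hc.1.1
  refine ⟨Subgroup.zpowers (el hK hS hc.1.1), fun hd => hidx ?_, Fusion.killsPart_zpowers q _⟩
  have : Fact q.Prime := ⟨hq⟩
  rw [← (Subgroup.zpowers (el hK hS hc.1.1)).card_mul_index, Nat.card_zpowers,
    orderOf_eq_prime ((hx.pow q).eq isOne hc.1.2) (hx.ne_one hc.2), pow_two]
  exact Nat.mul_dvd_mul_left q hd

/-- The order of the subgroup generated by certified elements. -/
theorem card_closure_eq {S : Spec} (hK : ∀ g, g ∈ K ↔ S.Holds g) (hS : S.ok = true) {a b : ℕ}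
    (ha : S.mem a = true) (hb : S.mem b = true) {gens : List ℕ} (hgens : gens = [a, b])
    {steps : List (Computation.Step ℕ)} {ch : List (Computation.Level ℕ)}
    (hc : (Computation.permRep 24 5 (by decide)).checkClosure gens steps ch = true) :
    Nat.card (Subgroup.closure {el hK hS ha, el hK hS hb}) =
      (Computation.permRep 24 5 (by decide)).order ch := by
  rw [← Subgroup.card_map_of_injective K.subtype_injective, MonoidHom.map_closure, Set.image_pair]
  have h2 : ({gperm a, gperm b} : Set (Equiv.Perm GolayPt)) =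
      indexHom.toMonoidHom '' (Computation.decodeP 24 5 '' {s | s ∈ gens}) := by
    rw [hgens, Set.image_image]
    ext σ
    simp [gperm, eq_comm]
  show Nat.card (Subgroup.closure ({gperm a, gperm b} : Set (Equiv.Perm GolayPt))) = _
  rw [h2, ← MonoidHom.map_closure, Subgroup.card_map_of_injective indexHom.injective]
  exact (Computation.permRep 24 5 (by decide)).card_closure hc

theorem exists_three_abelian {S : Spec} (hK : ∀ g, g ∈ K ↔ S.Holds g) (hS : S.ok = true)
    {a b n : ℕ} (hok : (S.mem a && S.mem b && S.mem n && Nat.beq (cmul a b) (cmul b a) &&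
      Nat.beq (cpow b 3) oneCode && Nat.beq (cmul n a) (cmul b n) && Nat.beq (cmul n b) (cmul a n)) = true)
    {gens : List ℕ} (hgens : gens = [a, b]) {steps : List (Computation.Step ℕ)}
    {ch : List (Computation.Level ℕ)}
    (hc : (Computation.permRep 24 5 (by decide)).checkClosure gens steps ch = true)
    (h9 : (Computation.permRep 24 5 (by decide)).order ch = 9) (hidx : ¬ 27 ∣ Nat.card K) :
    ∃ P : Subgroup K, ¬ 3 ∣ P.index ∧ Fusion.KillsPart 3 P := by
  simp only [Bool.and_eq_true] at hok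
  obtain ⟨⟨⟨⟨⟨⟨ha, hb⟩, hn⟩, hab⟩, hb3⟩, hna⟩, hnb⟩ := hok
  have ia := el_is hK hS ha
  have ib := el_is hK hS hb
  have i_n := el_is hK hS hn
  refine ⟨Subgroup.closure {el hK hS ha, el hK hS hb}, fun hd => hidx ?_,
    Fusion.killsPart_of_swap 3 _ (el hK hS ha) (el hK hS hb) (el hK hS hn) (e := 3) (by decide) le_rfl
      ((ia.mul ib).eq (ib.mul ia) hab) ((ib.pow 3).eq isOne hb3)
      (mul_inv_eq_iff_eq_mul.2 ((i_n.mul ia).eq (ib.mul i_n) hna))
      (mul_inv_eq_iff_eq_mul.2 ((i_n.mul ib).eq (ia.mul i_n) hnb))⟩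
  rw [← (Subgroup.closure {el hK hS ha, el hK hS hb}).card_mul_index,
    card_closure_eq hK hS ha hb hgens hc, h9]
  exact Nat.mul_dvd_mul_left 9 hd

/-- The pairing with a central element vanishes if some element twists it by a non-trivial power. -/
theorem pairing_eq_one {Γ G : Type*} [Group Γ] [Group G] {σ : Γ →* G} (hk : σ.ker ≤ Subgroup.center Γ)
    (hsurj : Function.Surjective σ) {A C : Γ} (hcomm : Commute (σ C) (σ A)) (h3 : σ A ^ 3 = 1)
    {a b i : ℕ} (hab : a * b % 3 = 2) {m : G} (hc : m * σ C * m⁻¹ = σ C ^ a)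
    (hx : m * σ A * m⁻¹ = σ A ^ b * σ C ^ i) : ⁅C, A⁆ = 1 := by
  obtain ⟨M, rfl⟩ := hsurj m
  have h := Fusion.commutator_conj hk (a := C) (b := A) (a' := C ^ a) (b' := A ^ b * C ^ i) (n := M)
    hcomm (by rw [map_pow, hc]) (by rw [map_mul, map_pow, map_pow, hx])
  have hca : Commute (σ (C ^ a)) (σ A) := by rw [map_pow]; exact hcomm.pow_left a
  have hcc : ⁅C ^ a, C ^ i⁆ = 1 := commutatorElement_eq_one_iff_commute.2 (Commute.pow_pow_self C a i)
  rw [Fusion.commutator_mul_right hk (by rw [map_pow, map_pow]; exact Commute.pow_pow_self _ a i), hcc,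
    mul_one, Fusion.commutator_pow_right hk hca, ← commutatorElement_inv A (C ^ a),
    Fusion.commutator_pow_right hk hcomm.symm, ← inv_pow, commutatorElement_inv, ← pow_mul] at h
  have h3' : ⁅C, A⁆ ^ 3 = 1 := Fusion.commutator_pow_eq_one hk hcomm h3
  rw [← Nat.mod_add_div (a * b) 3, hab, pow_add, pow_mul, h3', one_pow, mul_one, pow_two,
    mul_eq_left] at h
  exact h

/-- An extraspecial group of order 27 and exponent three, with twisting elements. -/
theorem killsPart_extraspecial {G : Type*} [Group G] (x y c m₁ m₂ : G) {a₁ b₁ i₁ a₂ b₂ i₂ : ℕ}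
    (hx : x ^ 3 = 1) (hy : y ^ 3 = 1) (hc3 : c ^ 3 = 1) (hc1 : c ≠ 1) (hc : ⁅x, y⁆ = c)
    (hcx : Commute c x) (hcy : Commute c y) (hab₁ : a₁ * b₁ % 3 = 2) (hab₂ : a₂ * b₂ % 3 = 2)
    (h₁c : m₁ * c * m₁⁻¹ = c ^ a₁) (h₁x : m₁ * x * m₁⁻¹ = x ^ b₁ * c ^ i₁)
    (h₂c : m₂ * c * m₂⁻¹ = c ^ a₂) (h₂y : m₂ * y * m₂⁻¹ = y ^ b₂ * c ^ i₂) :
    Fusion.KillsPart 3 (Subgroup.closure {x, y}) := by
  intro Γ _ _ σ hσ z hz _ hzc
  have hk := hσ.2.1
  obtain ⟨A, rfl⟩ := hσ.1 x
  obtain ⟨B, rfl⟩ := hσ.1 y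
  set C : Γ := ⁅A, B⁆ with hC
  have hσC : σ C = c := by rw [hC, map_commutatorElement, hc]
  subst hσC
  have hCA := commutatorElement_eq_one_iff_mul_comm.1 (pairing_eq_one hk hσ.1 hcx hx hab₁ h₁c h₁x)
  have hCB := commutatorElement_eq_one_iff_mul_comm.1 (pairing_eq_one hk hσ.1 hcy hy hab₂ h₂c h₂y)
  have hAB : A * B * A⁻¹ = C * B := by simp [hC, commutatorElement_def]
  have hC3 : C ^ 3 = 1 := by
    have hAc : A ^ 3 ∈ Subgroup.center Γ := hk (by rw [MonoidHom.mem_ker, map_pow, hx])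
    have hcommA : Commute A C := hCA.symm
    have key : ∀ n : ℕ, A ^ n * B * (A ^ n)⁻¹ = C ^ n * B := by
      intro n
      induction n with
      | zero => simp
      | succ n ih =>
        calc A ^ (n + 1) * B * (A ^ (n + 1))⁻¹ = A * (A ^ n * B * (A ^ n)⁻¹) * A⁻¹ := by
              rw [pow_succ']; group
          _ = A * (C ^ n * B) * A⁻¹ := by rw [ih]
          _ = C ^ n * (A * B * A⁻¹) := by
            rw [← mul_assoc, (hcommA.pow_right n).eq]; simp only [mul_assoc]
          _ = C ^ (n + 1) * B := by rw [hAB, ← mul_assoc, ← pow_succ]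
    have h := key 3
    rw [← Subgroup.mem_center_iff.1 hAc B, mul_inv_cancel_right, right_eq_mul] at h
    exact h
  have hle : (Subgroup.closure {σ A, σ B}).comap σ ≤ Subgroup.closure ({A, B} ∪ (σ.ker : Set Γ)) := by
    rw [Subgroup.closure_union, Subgroup.closure_eq]
    intro g hg
    have h1 : σ g ∈ (Subgroup.closure ({A, B} : Set Γ)).map σ := by
      rw [MonoidHom.map_closure, Set.image_pair]; exact hg
    rwa [← Subgroup.mem_comap, Subgroup.comap_map_eq] at h1
  have hK : ⁅Subgroup.closure ({A, B} ∪ (σ.ker : Set Γ)), Subgroup.closure ({A, B} ∪ (σ.ker : Set Γ))⁆ ≤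
      Subgroup.zpowers C := by
    refine Fusion.commutator_closure_le _ _ ?_ ?_
    · rintro t ht k hk'
      obtain ⟨i, rfl⟩ := Subgroup.mem_zpowers_iff.1 hk'
      have : Commute t C := by
        rcases ht with (rfl | rfl) | ht
        · exact hCA.symm
        · exact hCB.symm
        · exact ((Subgroup.mem_center_iff.1 (hk ht)) C).symm
      rw [(this.zpow_right i).eq, mul_inv_cancel_right]
      exact Subgroup.zpow_mem _ (Subgroup.mem_zpowers C) i
    · have hk' : ∀ s ∈ σ.ker, ∀ t : Γ, ⁅s, t⁆ = 1 ∧ ⁅t, s⁆ = 1 := fun s hs t =>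
        ⟨commutatorElement_eq_one_iff_mul_comm.2 (Subgroup.mem_center_iff.1 (hk hs) t).symm,
          commutatorElement_eq_one_iff_mul_comm.2 (Subgroup.mem_center_iff.1 (hk hs) t)⟩
      intro s hs t ht
      rcases hs with hs | hs
      · rcases ht with ht | ht
        · rcases hs with rfl | rfl <;> rcases ht with rfl | rfl
          · simp
          · exact Subgroup.mem_zpowers C
          · rw [← commutatorElement_inv, ← hC]; exact inv_mem (Subgroup.mem_zpowers C)
          · simp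
        · rw [(hk' t ht s).2]; exact one_mem _
      · rw [(hk' s hs t).1]; exact one_mem _
  obtain ⟨i, rfl⟩ := Subgroup.mem_zpowers_iff.1 (hK (Subgroup.commutator_mono hle hle hzc))
  have h1 : σ C ^ i = 1 := by rw [← map_zpow]; exact hz
  have : Fact (Nat.Prime 3) := ⟨Nat.prime_three⟩
  obtain ⟨j, rfl⟩ : (3 : ℤ) ∣ i := by
    have := orderOf_dvd_iff_zpow_eq_one.2 h1
    rwa [orderOf_eq_prime hc3 hc1] at this
  rw [zpow_mul, show (3 : ℤ) = ((3 : ℕ) : ℤ) from rfl, zpow_natCast, hC3, one_zpow]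

theorem exists_three_extraspecial {S : Spec} (hK : ∀ g, g ∈ K ↔ S.Holds g) (hS : S.ok = true)
    {a b c m₁ m₂ a₁ b₁ i₁ a₂ b₂ i₂ : ℕ}
    (hok : (S.mem a && S.mem b && S.mem c && S.mem m₁ && S.mem m₂ && Nat.beq (cpow a 3) oneCode &&
      Nat.beq (cpow b 3) oneCode && Nat.beq (cpow c 3) oneCode && notOne c &&
      Nat.beq (cmul a b) (cmul (cmul c b) a) && Nat.beq (cmul c a) (cmul a c) &&
      Nat.beq (cmul c b) (cmul b c) && Nat.beq (a₁ * b₁ % 3) 2 && Nat.beq (a₂ * b₂ % 3) 2 &&
      Nat.beq (cmul m₁ c) (cmul (cpow c a₁) m₁) &&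
      Nat.beq (cmul m₁ a) (cmul (cmul (cpow a b₁) (cpow c i₁)) m₁) &&
      Nat.beq (cmul m₂ c) (cmul (cpow c a₂) m₂) &&
      Nat.beq (cmul m₂ b) (cmul (cmul (cpow b b₂) (cpow c i₂)) m₂)) = true)
    {gens : List ℕ} (hgens : gens = [a, b]) {steps : List (Computation.Step ℕ)}
    {ch : List (Computation.Level ℕ)}
    (hc : (Computation.permRep 24 5 (by decide)).checkClosure gens steps ch = true)
    (h27 : (Computation.permRep 24 5 (by decide)).order ch = 27) (hidx : ¬ 81 ∣ Nat.card K) :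
    ∃ P : Subgroup K, ¬ 3 ∣ P.index ∧ Fusion.KillsPart 3 P := by
  simp only [Bool.and_eq_true] at hok
  obtain ⟨⟨⟨⟨⟨⟨⟨⟨⟨⟨⟨⟨⟨⟨⟨⟨⟨ha, hb⟩, hcm⟩, hm1⟩, hm2⟩, ha3⟩, hb3⟩, hc3⟩, hc1⟩, hab⟩, hca⟩, hcb⟩,
    e1⟩, e2⟩, f1⟩, f2⟩, f3⟩, f4⟩ := hok
  have ia := el_is hK hS ha
  have ib := el_is hK hS hb
  have ic := el_is hK hS hcm
  have j1 := el_is hK hS hm1
  have j2 := el_is hK hS hm2
  refine ⟨Subgroup.closure {el hK hS ha, el hK hS hb}, fun hd => hidx ?_,
    killsPart_extraspecial _ _ (el hK hS hcm) (el hK hS hm1) (el hK hS hm2)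
      ((ia.pow 3).eq isOne ha3) ((ib.pow 3).eq isOne hb3) ((ic.pow 3).eq isOne hc3) (ic.ne_one hc1) ?_
      ((ic.mul ia).eq (ia.mul ic) hca) ((ic.mul ib).eq (ib.mul ic) hcb) (Nat.eq_of_beq_eq_true e1)
      (Nat.eq_of_beq_eq_true e2) (mul_inv_eq_iff_eq_mul.2 ((j1.mul ic).eq ((ic.pow _).mul j1) f1))
      (mul_inv_eq_iff_eq_mul.2 ((j1.mul ia).eq (((ia.pow _).mul (ic.pow _)).mul j1) f2))
      (mul_inv_eq_iff_eq_mul.2 ((j2.mul ic).eq ((ic.pow _).mul j2) f3))
      (mul_inv_eq_iff_eq_mul.2 ((j2.mul ib).eq (((ib.pow _).mul (ic.pow _)).mul j2) f4))⟩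
  · rw [← (Subgroup.closure {el hK hS ha, el hK hS hb}).card_mul_index,
      card_closure_eq hK hS ha hb hgens hc, h27]
    exact Nat.mul_dvd_mul_left 27 hd
  · rw [commutatorElement_def, mul_inv_eq_iff_eq_mul, mul_inv_eq_iff_eq_mul]
    exact (ia.mul ib).eq ((ic.mul ib).mul ia) hab

end Cfsg.Agent.Lib.Schur.GolayMult
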