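import Cfsg.Agent.Lib.Schur.PcTailsP
import Cfsg.Agent.Lib.Schur.GolayMult
import Cfsg.Agent.Lib.CosetEnum.Simple

/-!
# Certificates for parts of the multiplier of an enumerated group

Elements of a presented group are words in the letters; a word is known by the images of the base points
of a stabiliser chain of a faithful table action.
-/

set_option autoImplicit false

namespace Cfsg.Agent.Lib.Schur.WordCodeCert

open Cfsg.Agent.Lib.CosetEnum
open Cfsg.Agent.Lib.Computation (getW)
open Cfsg.Agent.Lib.Schur.PcTails (Equat)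

/-- The certificate; a conjugator is an index into `xs`. -/
structure Cert where
  data : PcTailsP.Data
  gens : List (List ℕ)
  xs : List (List ℕ)
  eqs : List Equat
  combos : List (List ℕ)
  wo : ℕ
  ord : ℕ
  pos : ℕ

/-- The word of a word in the generators. -/
def Cert.gword (T : Cert) (l : List ℕ) : List ℕ := l.flatMap fun i => T.gens.getD i []

/-- The word of a normal form. -/
def Cert.sword (T : Cert) (q : ℕ) : List ℕ := T.gword (T.data.bits q)

/-- Two words have the same images of the base. -/
noncomputable def wordEq (K : ℕ) (tab : PTree) (B u v : List ℕ) : Bool :=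
  B.all fun b => Nat.beq (scan K tab u b) (scan K tab v b)

/-- The number of the images of the base. -/
noncomputable def wkey (K N : ℕ) (tab : PTree) (B u : List ℕ) : ℕ :=
  B.foldr (fun b a => scan K tab u b + N * a) 0

/-- The conjugation of an equation is right. -/
noncomputable def conjOk (K : ℕ) (tab : PTree) (B : List ℕ) (T : Cert) : Equat → Bool
  | .overlap _ _ _ => true
  | .conj x us vs _ => (List.range us.length).all fun k =>
      wordEq K tab B (T.xs.getD x [] ++ T.sword (us.getD k 0)) (T.sword (vs.getD k 0) ++ T.xs.getD x [])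

/-- The checks on the words. -/
noncomputable def wordOk (K N : ℕ) (tab : PTree) (B : List ℕ) (T : Cert) : Bool :=
  (T.gens.all fun w => w.all fun g => Nat.blt g K) && (T.xs.all fun w => w.all fun g => Nat.blt g K) &&
  T.eqs.all (conjOk K tab B T) &&
  ((List.range T.data.n).all fun i => (List.range (i + 1)).all fun j =>
    wordEq K tab B (T.gword (T.data.lhsW i j)) (T.gword (T.data.rhsW i j))) &&
  ((List.range (T.data.p ^ T.data.n)).all fun q =>
    Nat.blt (getW T.wo T.pos q) (T.data.p ^ T.data.n) &&
      Nat.beq (getW T.wo T.ord (getW T.wo T.pos q)) q) &&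
  (List.range (T.data.p ^ T.data.n - 1)).all fun k =>
    Nat.blt (wkey K N tab B (T.sword (getW T.wo T.ord k)))
      (wkey K N tab B (T.sword (getW T.wo T.ord (k + 1))))

section

variable {G : Type*} [Group G] {N : ℕ} (ρ : G →* Equiv.Perm (Fin N))

theorem levels_ratio {E : ℕ} {P : PTree}
    (hP : ∀ k < E, ∃ x : G, ∀ i : Fin N, ((ρ x)⁻¹ i).1 = get32 P (k * N + i.1))
    (ls : List OrbLevel) : ∀ pre, levelsOK E N P ls pre = true →
      chainSize ls * Nat.card (fixList ρ ((ls.map OrbLevel.base).reverse ++ pre)) ≤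
        Nat.card (fixList ρ pre) := by
  classical
  induction ls with
  | nil => intro pre _; simp [chainSize]
  | cons l ls ih =>
    intro pre h
    change (levelOK E N P pre l && levelsOK E N P ls (l.base :: pre)) = true at h
    rw [Bool.and_eq_true] at h
    obtain ⟨hl, hrest⟩ := h
    have hrest' := ih _ hrest
    simp only [levelOK, force_eq, Bool.and_eq_true, Nat.blt_eq, Nat.beq_eq, allBelow_iff] at hl
    obtain ⟨⟨⟨⟨hgens, hlen⟩, hb⟩, hQ0⟩, horb⟩ := hl
    have hmem : ∀ g ∈ l.gens, g < E ∧ ∀ b ∈ pre, get32 P (g * N + b) = b := by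
      intro g hg
      revert hgens
      generalize l.gens = gs at hg
      induction gs with
      | nil => simp at hg
      | cons a as iha =>
        intro hgens
        simp only [Bool.and_eq_true, Nat.blt_eq] at hgens
        rcases List.mem_cons.1 hg with rfl | hg
        · refine ⟨hgens.1.1, ?_⟩
          have h2 := hgens.1.2
          clear hgens iha ih hrest hrest'
          induction pre with
          | nil => simp
          | cons c cs ihc =>
            simp only [Bool.and_eq_true, Nat.beq_eq] at h2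
            intro b hb
            rcases List.mem_cons.1 hb with rfl | hb
            · exact h2.1
            · exact ihc h2.2 b hb
        · exact iha hg hgens.2
    let b : Fin N := ⟨l.base, hb⟩
    let F := fixList ρ pre
    have hreach : ∀ j, ∀ hj : j < l.len, ∃ σ ∈ F, (σ b).1 = get32 l.Q j := by
      intro j
      induction j using Nat.strong_induction_on with
      | _ j ihj =>
        intro hj
        rcases eq_or_ne j 0 with rfl | hne
        · exact ⟨1, one_mem _, hQ0.symm⟩
        have h' := (horb j hj).2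
        rw [show Nat.beq j 0 = false by rw [← Bool.not_eq_true, Nat.beq_eq]; exact hne] at h'
        simp only [Bool.and_eq_true, Nat.blt_eq, Nat.beq_eq, Nat.add_eq, Nat.mul_eq] at h'
        obtain ⟨⟨hj', hw⟩, hs⟩ := h'
        obtain ⟨σ, hσ, hσb⟩ := ihj _ hj' (by omega)
        have hg := hmem _ (by rw [List.getD_eq_getElem _ _ hw]; exact List.getElem_mem hw :
          l.gens.getD (get32 l.R (j * 2 + 1)) 0 ∈ l.gens)
        obtain ⟨x, hx⟩ := hP _ hg.1
        refine ⟨(ρ x)⁻¹ * σ, mul_mem ⟨inv_mem ⟨x, rfl⟩, fun i hi => Fin.ext ?_⟩ hσ, ?_⟩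
        · rw [hx, hg.2 i.1 hi]
        · rw [Equiv.Perm.mul_apply, hx, hσb, hs]
    have horbit : l.len ≤ (MulAction.orbit F b).ncard := by
      let f : Fin l.len → Fin N := fun j => ⟨get32 l.Q j.1, (horb j.1 j.2).1.1⟩
      have hinj : Function.Injective f := by
        intro u v huv
        have : get32 l.Q u.1 = get32 l.Q v.1 := congrArg Fin.val huv
        apply Fin.ext
        rw [← (horb u.1 u.2).1.2, this, (horb v.1 v.2).1.2]
      have hsub : Set.range f ⊆ MulAction.orbit F b := by
        rintro _ ⟨j, rfl⟩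
        obtain ⟨σ, hσ, hσb⟩ := hreach j.1 j.2
        exact ⟨⟨σ, hσ⟩, Fin.ext hσb⟩
      have := Set.ncard_le_ncard hsub
      rwa [Set.ncard_range_of_injective hinj, Nat.card_fin] at this
    have hstab : Nat.card (fixList ρ (l.base :: pre)) ≤ Nat.card (MulAction.stabilizer F b) :=
      Nat.card_le_card_of_injective
        (fun σ => ⟨⟨σ.1, σ.2.1, fun i hi => σ.2.2 i (List.mem_cons_of_mem _ hi)⟩,
          σ.2.2 b List.mem_cons_self⟩)
        (fun u v huv => Subtype.ext (congrArg (fun z => (z.1 : Equiv.Perm (Fin N))) huv))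
    have hos := MulAction.card_orbit_mul_card_stabilizer_eq_card_group F b
    simp only [← Nat.card_eq_fintype_card] at hos
    rw [List.map_cons, List.reverse_cons, List.append_assoc, List.singleton_append]
    calc chainSize (l :: ls) * Nat.card (fixList ρ ((ls.map OrbLevel.base).reverse ++ l.base :: pre))
        = l.len * (chainSize ls *
            Nat.card (fixList ρ ((ls.map OrbLevel.base).reverse ++ l.base :: pre))) := by
          simp [chainSize, Nat.mul_assoc]
      _ ≤ (MulAction.orbit F b).ncard * Nat.card (MulAction.stabilizer F b) :=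
          Nat.mul_le_mul horbit (hrest'.trans hstab)
      _ = Nat.card F := by rw [← Nat.card_coe_set_eq]; exact hos

/-- When the chain has the full order, an element of the image fixing the base is trivial. -/
theorem separate_of_levels {E : ℕ} {P : PTree}
    (hP : ∀ k < E, ∃ x : G, ∀ i : Fin N, ((ρ x)⁻¹ i).1 = get32 P (k * N + i.1))
    {ls : List OrbLevel} (h : levelsOK E N P ls [] = true)
    (hfull : Nat.card ρ.range ≤ chainSize ls) {σ : Equiv.Perm (Fin N)} (hσ : σ ∈ ρ.range)
    (hfix : ∀ b ∈ ls.map OrbLevel.base, ∀ i : Fin N, i.1 = b → σ i = i) : σ = 1 := by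
  have h1 := levels_ratio ρ hP ls [] h
  rw [List.append_nil] at h1
  have hle : Nat.card (fixList ρ []) ≤ Nat.card ρ.range :=
    Nat.card_le_card_of_injective (fun σ => (⟨σ.1, σ.2.1⟩ : ρ.range))
      fun _ _ huv => Subtype.ext (congrArg (fun z => (z.1 : Equiv.Perm (Fin N))) huv)
  have hr : 0 < Nat.card ρ.range := Nat.card_pos
  have hc : Nat.card (fixList ρ ((ls.map OrbLevel.base).reverse)) ≤ 1 :=
    Nat.le_of_mul_le_mul_left (by rw [Nat.mul_one]; omega) (lt_of_lt_of_le hr hfull)
  have : Subsingleton (fixList ρ ((ls.map OrbLevel.base).reverse)) :=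
    Finite.card_le_one_iff_subsingleton.1 hc
  exact congrArg Subtype.val (Subsingleton.elim
    (⟨σ, hσ, fun i hi => hfix _ (List.mem_reverse.1 hi) i rfl⟩ :
      fixList ρ ((ls.map OrbLevel.base).reverse)) ⟨1, one_mem _⟩)

end

section

variable {α : Type} [DecidableEq α] (L : Letters α) (S : Set (FreeGroup α)) {N : ℕ} {tab : PTree}
  (ρ : PresentedGroup S →* Equiv.Perm (Fin N))
  (hρ : ∀ g < L.K, ∀ i : Fin N, ((ρ (L.phi S g))⁻¹ i).1 = get32 tab (i.1 * L.K + g))
  (hinj : Function.Injective ρ) {B : List ℕ} (hB : ∀ b ∈ B, b < N)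
  (hsep : ∀ σ ∈ ρ.range, (∀ b ∈ B, ∀ i : Fin N, i.1 = b → σ i = i) → σ = 1)

omit [DecidableEq α] in
theorem wkey_congr {K : ℕ} {B' u v : List ℕ} (h : ∀ c ∈ B', scan K tab u c = scan K tab v c) :
    wkey K N tab B' u = wkey K N tab B' v := by
  rw [wkey, wkey]
  induction B' with
  | nil => rfl
  | cons c B' ih =>
    rw [List.foldr_cons, List.foldr_cons, h c List.mem_cons_self,
      ih fun d hd => h d (List.mem_cons_of_mem _ hd)]

include hρ hinj hsep in
/-- Words with the same images of the base are equal. -/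
theorem prod_eq_of_wordEq {u v : List ℕ} (hu : ∀ g ∈ u, g < L.K) (hv : ∀ g ∈ v, g < L.K)
    (h : wordEq L.K tab B u v = true) : (u.map (L.phi S)).prod = (v.map (L.phi S)).prod := by
  simp only [wordEq, List.all_eq_true, Nat.beq_eq] at h
  have hx : ρ ((u.map (L.phi S)).prod * ((v.map (L.phi S)).prod)⁻¹) = 1 := by
    refine hsep _ ⟨_, rfl⟩ fun b hb i hi => ?_
    have he : (ρ (u.map (L.phi S)).prod)⁻¹ i = (ρ (v.map (L.phi S)).prod)⁻¹ i := Fin.ext (by
      rw [rho_scan L S ρ hρ u hu, rho_scan L S ρ hρ v hv, hi]; exact h b hb)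
    rw [map_mul, map_inv, Equiv.Perm.mul_apply, ← he, Equiv.Perm.inv_def, Equiv.apply_symm_apply]
  exact mul_inv_eq_one.1 (hinj (hx.trans (map_one ρ).symm))

include hρ hinj hB hsep in
/-- A certificate kills that part of the multiplier. -/
theorem exists_part [Finite (PresentedGroup S)] {T : Cert} (hp : T.data.p.Prime)
    (htab : T.data.tableOk = true) (hcob : T.data.cobOk T.eqs T.combos = true)
    (hok : wordOk L.K N tab B T = true)
    (hidx : ¬ T.data.p ^ (T.data.n + 1) ∣ Nat.card (PresentedGroup S)) :
    ∃ P : Subgroup (PresentedGroup S), ¬ T.data.p ∣ P.index ∧ Fusion.KillsPart T.data.p P := by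
  simp only [wordOk, Bool.and_eq_true, List.all_eq_true, List.mem_range, Nat.beq_eq, Nat.blt_eq] at hok
  obtain ⟨⟨⟨⟨⟨hgens, hxs⟩, hconj⟩, hrel⟩, hord⟩, hmono⟩ := hok
  have hget : ∀ (ws : List (List ℕ)), (∀ w ∈ ws, ∀ g ∈ w, g < L.K) →
      ∀ i, ∀ g ∈ ws.getD i [], g < L.K := fun ws hws i g hg => by
    by_cases hi : i < ws.length
    · rw [List.getD_eq_getElem _ _ hi] at hg
      exact hws _ (List.getElem_mem hi) g hg
    · rw [List.getD_eq_default _ _ (not_lt.1 hi)] at hg
      exact absurd hg List.not_mem_nil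
  have hlt : ∀ l : List ℕ, ∀ g ∈ T.gword l, g < L.K := fun l g hg => by
    obtain ⟨i, -, hi⟩ := List.mem_flatMap.1 hg
    exact hget _ hgens i g hi
  let g : ℕ → PresentedGroup S := fun i => ((T.gens.getD i []).map (L.phi S)).prod
  have hw : ∀ l : List ℕ, (l.map g).prod = ((T.gword l).map (L.phi S)).prod := by
    intro l
    induction l with
    | nil => simp [Cert.gword]
    | cons i l ih =>
      rw [List.map_cons, List.prod_cons, ih, Cert.gword, Cert.gword, List.flatMap_cons, List.map_append,
        List.prod_append]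
  have hs : ∀ q, T.data.s g q = ((T.sword q).map (L.phi S)).prod := fun q => by
    rw [PcTailsP.Data.s, Cert.sword]; exact hw _
  have heq := @prod_eq_of_wordEq α _ L S N tab ρ hρ hinj B hsep
  refine ⟨⊤, by rw [Subgroup.index_top]; exact fun h => hp.one_lt.ne' (Nat.dvd_one.1 h),
    PcTailsP.killsPart_of_cert ⊤ T.data hp g htab hcob (fun i hi j hj => ?_)
      (fun a ha b hb he => ?_) (fun x us vs w he => ?_) hidx⟩
  · rw [hw, hw]
    exact heq (hlt _) (hlt _) (hrel i hi j (Nat.lt_succ_of_le hj))
  · obtain ⟨ha1, ha2⟩ := hord a ha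
    obtain ⟨hb1, hb2⟩ := hord b hb
    have this : getW T.wo T.pos a = getW T.wo T.pos b := by
      refine GolayMult.eq_of_strictMono (fun k => wkey L.K N tab B (T.sword (getW T.wo T.ord k)))
        hmono ha1 hb1 ?_
      show wkey L.K N tab B (T.sword (getW T.wo T.ord (getW T.wo T.pos a))) =
        wkey L.K N tab B (T.sword (getW T.wo T.ord (getW T.wo T.pos b)))
      rw [ha2, hb2]
      rw [hs, hs] at he
      have hscan : ∀ c ∈ B, scan L.K tab (T.sword a) c = scan L.K tab (T.sword b) c := fun c hc => by
        rw [← rho_scan L S ρ hρ (T.sword a) (hlt _) ⟨c, hB c hc⟩, he]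
        exact rho_scan L S ρ hρ (T.sword b) (hlt _) ⟨c, hB c hc⟩
      exact wkey_congr hscan
    rw [← ha2, this, hb2]
  · have h := hconj _ he
    simp only [conjOk, List.all_eq_true, List.mem_range] at h
    refine ⟨((T.xs.getD x []).map (L.phi S)).prod, fun k hk => mul_inv_eq_iff_eq_mul.2 ?_⟩
    rw [hs, hs, ← List.prod_append, ← List.prod_append, ← List.map_append, ← List.map_append]
    refine heq (fun a ha => ?_) (fun a ha => ?_) (h k hk) <;>
      · rcases List.mem_append.1 ha with ha | ha
        all_goals first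
          | exact hget _ hxs x a ha
          | exact hlt _ a ha

end

end Cfsg.Agent.Lib.Schur.WordCodeCert
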