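/-
The double cover SL₂(7) → SL₃(2), given by a table with a word for every element.
-/
import Mathlib

set_option autoImplicit false
set_option maxHeartbeats 2000000
set_option maxRecDepth 4000

namespace Cfsg.Agent.Lib.Schur.CoverSL32

open Matrix
open scoped MatrixGroups

/-- Rows `(code of the element of SL₂(7), code of its image, word)`. -/
def table : List (ℕ × ℕ × List Bool) :=
[
  (91, 124, [false, false, false]),
  (92, 489, [true, false, true, false, false, false]),
  (93, 375, [false, true, true, true, true, true, false, false]),
  (94, 405, [false, true, true, true, true, false, false]),
  (95, 158, [false, true, true, true, false, false]),
  (96, 226, [false, true, true, false, false]),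
  (97, 267, [false, true, false, false]),
  (119, 309, [true, true, false, true, true, true, true, false, true, true, false, false]),
  (120, 474, [true, true, false, true, true, true, true, false, false, false]),
  (121, 396, [true, true, true, true, true, false, true, true, true, false, true]),
  (122, 239, [true, false, true, true, true, false, true, true, true, true, false, false, false]),
  (123, 86, [true, true, false, true, true, true, true, false, true, false, false]),
  (124, 355, [true, true, true, false, true, true, false, true, true, false]),
  (125, 185, [true, true, true, true, true, false, true, true, true, false]),
  (161, 337, [true, true, true, true, false, true, true, false, true, true, true, true]),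
  (162, 206, [true, true, true, true, false, true, true, false, true]),
  (163, 500, [true, false, true, true, true, true, true, false, true, true, false]),
  (164, 165, [true, true, true, true, false, true, true, false, true, true]),
  (165, 107, [true, true, true, true, false, true, true, true, false, true, false]),
  (166, 415, [true, true, true, true, false, true, true, false, true, true, true]),
  (167, 314, [true, true, true, true, false, true, true, false]),
  (231, 337, [false, true, true, false, true, true, true, true, false, true, true, false]),
  (232, 314, [true, true, true, true, false, true, true, false, false, false]),
  (233, 415, [false, true, false, true, true, true, true, false, true, true, false, true]),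
  (234, 107, [true, true, false, true, true, false, true, true, true, false, true]),
  (235, 165, [false, true, false, true, true, true, true, false, true, true, false]),
  (236, 500, [true, true, false, true, true, false, true, true, true, false]),
  (237, 206, [true, true, true, false, true, true, true, true, true, false]),
  (273, 309, [true, true, false, true, true, true, true, false, true, true]),
  (274, 185, [true, true, true, true, true, false, true, true, true, false, false, false]),
  (275, 355, [true, true, false, true, true, true, true, true, false, true, false]),
  (276, 86, [true, true, false, true, true, true, true, false, true]),
  (277, 239, [true, false, true, true, true, false, true, true, true, true, false]),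
  (278, 396, [true, true, true, true, true, false, true, true, true, false, true, false, false]),
  (279, 474, [true, true, false, true, true, true, true, false]),
  (301, 124, [false]),
  (302, 267, [false, true]),
  (303, 226, [false, true, true]),
  (304, 158, [false, true, true, true]),
  (305, 405, [false, true, true, true, true]),
  (306, 375, [false, true, true, true, true, true]),
  (307, 489, [true, false, true, false]),
  (344, 273, []),
  (351, 172, [true, false, true]),
  (358, 370, [true, false, true, true, false, true]),
  (365, 445, [false, true, true, true, true, false, false, false]),
  (372, 478, [false, true, true, true, false, false, false]),
  (379, 207, [false, true, true, false, false, false]),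
  (386, 99, [false, true, false, false, false]),
  (393, 244, [true]),
  (401, 443, [true, false, true, true]),
  (409, 494, [true, false, true, true, false, true, true]),
  (417, 335, [false, true, true, true, true, false, true, false, false]),
  (425, 85, [false, true, true, true, false, true, false, false]),
  (433, 161, [false, true, true, false, true, false, false]),
  (434, 282, [false, true, false, true, false, false]),
  (442, 171, [true, true]),
  (451, 330, [true, false, true, true, true]),
  (460, 125, [true, false, true, true, false, true, true, true]),
  (462, 481, [false, true, true, true, true, false, true, true, false, false]),
  (471, 311, [false, true, true, true, false, true, true, false, false]),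
  (480, 412, [false, true, true, false, true, true, false, false]),
  (489, 214, [false, true, false, true, true, false, false]),
  (491, 442, [true, true, true]),
  (501, 486, [true, false, true, true, true, true]),
  (504, 271, [true, false, true, true, false, true, true, true, true]),
  (514, 92, [false, true, true, true, true, false, true, true, true, false, false]),
  (524, 233, [false, true, true, true, false, true, true, true, false, false]),
  (527, 339, [false, true, true, false, true, true, true, false, false]),
  (537, 181, [false, true, false, true, true, true, false, false]),
  (540, 334, [true, true, true, true]),
  (551, 93, [true, false, true, true, true, true, true]),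
  (555, 225, [true, false, true, true, false, true, true, true, true, true]),
  (566, 275, [true, true, true, false, true, true, true, false]),
  (570, 188, [false, true, true, true, false, true, true, true, true, false, false]),
  (574, 498, [false, true, true, false, true, true, true, true, false, false]),
  (585, 431, [false, true, false, true, true, true, true, false, false]),
  (589, 485, [true, true, true, true, true]),
  (601, 279, [true, true, false, true, false]),
  (606, 156, [true, false, true, true, true, false, true, false]),
  (611, 242, [true, true, true, false, true, true, true, false, true]),
  (616, 395, [false, true, true, true, false, true, true, true, true, true, false, false]),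
  (628, 110, [false, true, true, false, true, true, true, true, true, false, false]),
  (633, 377, [false, true, false, true, true, true, true, true, false, false]),
  (638, 95, [true, true, true, true, true, true]),
  (644, 241, [true, false]),
  (657, 403, [true, false, true, true, false]),
  (663, 174, [true, false, true, true, false, true, true, false]),
  (669, 354, [false, true, true, true, true, false, true, false, false, false]),
  (675, 317, [false, true, true, true, false, true, false, false, false]),
  (681, 460, [false, true, true, false, true, false, false, false]),
  (690, 117, [true, true, false, true, true, true, true, false, true, true, false, false, false]),
  (697, 159, [true, true, false, true, true, true, true]),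
  (704, 417, [true, true, true, true, true, false, true, true, true, false, true, false]),
  (711, 234, [true, false, true, true, true, false, true, true, true, true]),
  (718, 318, [true, true, false, true, true, true, true, false, true, false, false, false]),
  (725, 331, [true, true, false, true, true, true, true, true, false, true]),
  (732, 468, [true, true, true, true, true, false, true, true, true, false, false]),
  (739, 419, [false, true, true, true, false, true, true, true, true, true, false]),
  (743, 122, [true, true, false, true]),
  (754, 302, [false, true, true, false, true, true, true, true, true, false]),
  (758, 473, [true, false, true, true, true, false, true]),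
  (769, 340, [false, true, false, true, true, true, true, true, false]),
  (773, 247, [true, false, true, true, false, true, true, true, false, true]),
  (777, 141, [true, true, true, true, true, false, false, false]),
  (788, 303, [false, true, true, false, true, true, false, true, true, true, false]),
  (796, 401, [true, true, false, true, true, true, true, true]),
  (804, 348, [true, true, true, true, true, false, true, true, false]),
  (805, 190, [true, false, true, true, true, false, true, true, true, true, true]),
  (813, 205, [true, true, false, true, true, true, false, false, false]),
  (821, 482, [true, true, false, true, true, true, true, true, false, true, true]),
  (829, 115, [true, false, true, true, true, false, true, true, true, false, false, false]),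
  (837, 346, [true, false, true, true, true, true, false, true, true, false, false, false]),
  (842, 270, [true, true, false, true, true]),
  (847, 253, [false, true, true, false, true, true, true, true, true, false, true]),
  (859, 84, [true, false, true, true, true, false, true, true]),
  (864, 499, [false, true, false, true, true, true, true, true, false, true]),
  (869, 169, [true, true, true, false, true, true, false, false, false]),
  (881, 423, [true, true, true, true, true, false, true, false, false]),
  (886, 249, [false, true, true, false, true, true, false, true, true, true, false, true]),
  (895, 372, [true, true, true, false, true, false]),
  (897, 467, [true, true, true, true, true, false, true, true, false, true]),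
  (906, 397, [true, false, true, true, true, true, false, true, false]),
  (915, 167, [true, true, false, true, true, true, false, true, false, false]),
  (917, 94, [true, false, true, true, false, true, true, true, true, false, true, false]),
  (926, 298, [false, true, false, true, true, true, false, true, false, false, false]),
  (935, 470, [true, false, true, true, true, false, true, true, true, true, true, false]),
  (941, 229, [true, true, false, true, true, true]),
  (947, 143, [true, true, false, true, true, true, true, true, false, true, true, false]),
  (953, 307, [true, false, true, true, true, false, true, true, true]),
  (959, 106, [false, true, false, true, true, true, true, true, false, true, true]),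
  (972, 444, [true, true, false, true, true, true, true, true, false]),
  (978, 345, [true, true, true, true, true, false, true, true, false, false]),
  (984, 140, [false, true, true, true, true, false, true, true, false, false, false]),
  (987, 491, [true, true, false]),
  (997, 114, [false, true, true, true, false, true, true, false, false, false]),
  (1007, 359, [true, false, true, true, true, false]),
  (1010, 409, [false, true, true, false, true, true, false, false, false]),
  (1020, 277, [true, false, true, true, false, true, true, true, false]),
  (1023, 254, [false, true, false, true, true, false, false, false]),
  (1034, 380, [false, true, true, false, true, true, true, true, false, true, true]),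
  (1041, 230, [true, true, true, false, true, true, true, true, true]),
  (1048, 177, [true, true, false, true, true, false, true, true, true]),
  (1055, 461, [false, true, false, true, true, true, true, false, true, true]),
  (1062, 299, [true, true, true, true, false, true, true, true, false, true, false, false]),
  (1069, 410, [true, true, true, true, false, true, true, false, true, true, true, false]),
  (1076, 87, [true, true, true, true, false, true, true, false, false]),
  (1083, 183, [false, true, true, false, true, true, true, true, false]),
  (1088, 123, [true, true, true, false, true, true, true]),
  (1093, 285, [true, true, false, true, true, false, true]),
  (1105, 426, [false, true, false, true, true, true, true, false]),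
  (1110, 465, [false, true, true, true, false, true, true, true, true, false]),
  (1115, 204, [true, false, true, true, true, false, true, true, false, true]),
  (1120, 358, [true, true, true, true, false, false, false]),
  (1132, 286, [true, false, true, true, false, true, true, true, true, false, true]),
  (1135, 369, [true, true, true, false, true]),
  (1145, 458, [true, true, false, true, true, true, false, true, false]),
  (1148, 212, [false, true, true, true, true, false, true, true, true, false, true, false, false]),
  (1158, 421, [true, false, true, true, true, true, false, true]),
  (1168, 111, [false, true, false, true, true, true, false, true, false, false]),
  (1171, 187, [false, true, true, true, false, true, true, true, false, true, false, false]),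
  (1181, 459, [false, true, false, true, true, true, false, true, true, true, true, false]),
  (1189, 157, [true, true, true, true, false, true, false]),
  (1190, 428, [true, true, false, true, true, false, true, true, true, true]),
  (1198, 103, [true, true, true, false, true, true, true, true, false, false, false]),
  (1206, 250, [true, false, true, true, true, true, true, false, true, false]),
  (1214, 342, [false, true, false, true, true, true, true, false, true, false, false, false]),
  (1222, 305, [true, true, true, true, false, true, true, true, false, false]),
  (1230, 425, [false, true, true, false, true, true, true, true, false, true]),
  (1236, 266, [true, true, true, false, true, true, true, true]),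
  (1242, 215, [true, true, false, true, true, false, true, true]),
  (1248, 382, [false, true, false, true, true, true, true, false, true]),
  (1254, 116, [true, true, true, true, false, true, true, true, false, false, false]),
  (1260, 163, [true, false, true, true, true, false, true, true, false, true, true]),
  (1273, 477, [true, true, true, true, false, true, false, false]),
  (1279, 213, [false, true, true, false, true, true, true, true, true, false, true, false]),
  (1283, 492, [true, true, true, false, true, true]),
  (1294, 102, [true, true, false, true, true, false]),
  (1298, 179, [false, true, false, true, true, true, true, true, false, true, false]),
  (1302, 351, [true, false, true, true, true, true, false, true, true]),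
  (1313, 313, [true, false, true, true, true, false, true, true, false]),
  (1317, 394, [true, true, true, true, true, false, true, false, false, false]),
  (1328, 98, [true, false, true, true, false, true, true, true, true, false]),
  (1330, 407, [true, true, true, false]),
  (1339, 379, [false, true, true, false, true, true, true, false, false, false]),
  (1348, 281, [false, true, true, true, true, false, true, true, true, false, false, false]),
  (1357, 142, [true, false, true, true, true, true, false]),
  (1359, 501, [false, true, false, true, true, true, false, false, false]),
  (1368, 236, [false, true, true, true, false, true, true, true, false, false, false]),
  (1374, 380, [false, true, true, false, true, true, true, true, false, true, true, false, false]),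
  (1381, 87, [true, true, true, true, false, true, true]),
  (1388, 410, [false, true, false, true, true, true, false, true, true, true, true, true]),
  (1395, 299, [true, true, true, true, false, true, true, true, false, true]),
  (1402, 461, [false, true, false, true, true, true, true, false, true, true, false, false]),
  (1409, 177, [true, false, true, true, true, true, true, false, true, true]),
  (1416, 230, [true, true, true, false, true, true, true, true, true, false, false]),
  (1423, 98, [false, true, true, true, true, true, false, true, true, true, false]),
  (1432, 236, [false, true, true, true, false, true, true, true, false]),
  (1441, 501, [false, true, false, true, true, true, false]),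
  (1443, 142, [true, false, true, true, true, true, false, false, false]),
  (1452, 281, [false, true, true, true, true, false, true, true, true, false]),
  (1461, 379, [false, true, true, false, true, true, true, false]),
  (1463, 407, [true, true, true, false, false, false]),
  (1472, 213, [false, true, true, true, false, true, true, false, true, true, false]),
  (1483, 394, [true, true, true, true, true, false, true, false]),
  (1487, 313, [false, true, false, true, true, true, false, true, true]),
  (1491, 351, [true, false, true, true, true, true, false, true, true, false, false]),
  (1502, 179, [false, true, true, false, true, true, false, true, true, false]),
  (1506, 102, [true, true, false, true, true, false, false, false]),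
  (1517, 492, [true, true, true, false, true, true, false, false]),
  (1521, 425, [false, true, true, false, true, true, true, true, false, true, false, false]),
  (1527, 477, [true, true, true, true, false, true]),
  (1533, 163, [false, true, false, true, true, true, false, true, true, true, true]),
  (1546, 116, [true, true, true, true, false, true, true, true, false]),
  (1552, 382, [false, true, false, true, true, true, true, false, true, false, false]),
  (1558, 215, [true, false, true, true, true, true, true, false, true]),
  (1564, 266, [true, true, true, false, true, true, true, true, false, false]),
  (1570, 459, [true, false, true, true, true, false, true, true, false, true, true, false]),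
  (1578, 305, [true, true, true, true, false, true, true, true]),
  (1586, 342, [false, true, false, true, true, true, true, false, true, false]),
  (1594, 250, [true, true, false, true, true, false, true, true, false]),
  (1602, 103, [true, true, true, false, true, true, true, true, false]),
  (1603, 428, [false, true, true, false, true, true, true, true, false, true, false]),
  (1611, 157, [true, true, true, true, false, true, false, false, false]),
  (1619, 286, [false, true, true, true, true, true, false, true, true, true, false, true]),
  (1629, 187, [false, true, true, true, false, true, true, true, false, true]),
  (1632, 111, [false, true, false, true, true, true, false, true]),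
  (1642, 421, [true, false, true, true, true, true, false, true, false, false]),
  (1645, 212, [false, true, true, true, true, false, true, true, true, false, true]),
  (1655, 458, [false, true, true, false, true, true, true, false, true]),
  (1665, 369, [true, true, true, false, true, false, false]),
  (1668, 183, [false, true, true, false, true, true, true, true, false, false, false]),
  (1673, 358, [true, true, true, true, false]),
  (1685, 204, [false, true, false, true, true, true, false, true, true, true]),
  (1690, 465, [false, true, true, true, false, true, true, true, true, false, false, false]),
  (1695, 426, [false, true, false, true, true, true, true, false, false, false]),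
  (1707, 285, [true, false, true, true, true, true, true, false]),
  (1712, 123, [true, true, true, false, true, true, true, false, false]),
  (1718, 117, [true, true, false, true, true, true, true, false, true, true, false]),
  (1725, 468, [true, true, true, true, true, false, true, true, true]),
  (1732, 331, [true, true, true, false, true, true, false, true, true]),
  (1739, 318, [true, true, false, true, true, true, true, false, true, false]),
  (1746, 234, [true, false, true, true, true, false, true, true, true, true, false, false]),
  (1753, 417, [true, true, true, false, true, true, false, true, true, true, false, true]),
  (1760, 159, [true, true, false, true, true, true, true, false, false]),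
  (1767, 140, [false, true, true, true, true, false, true, true, false]),
  (1777, 254, [false, true, false, true, true, false]),
  (1780, 277, [false, true, true, true, true, true, false, true, true, false]),
  (1790, 409, [false, true, true, false, true, true, false]),
  (1793, 359, [true, false, true, true, true, false, false, false]),
  (1803, 114, [false, true, true, true, false, true, true, false]),
  (1806, 491, [true, true, false, false, false]),
  (1816, 470, [true, false, true, true, true, true, false, true, true, false, true]),
  (1822, 345, [true, true, true, true, true, false, true, true]),
  (1828, 444, [true, true, true, false, true, true, false, true]),
  (1834, 106, [false, true, true, false, true, true, false, true, true, true]),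
  (1847, 307, [true, false, true, true, true, false, true, true, true, false, false]),
  (1853, 143, [true, true, true, false, true, true, false, true, true, true, false]),
  (1859, 229, [true, true, false, true, true, true, false, false]),
  (1865, 249, [false, true, true, true, true, false, true, true, true, false, true, false]),
  (1874, 298, [false, true, false, true, true, true, false, true, false]),
  (1876, 94, [true, true, true, false, true, true, false, true, true, true, true]),
  (1885, 167, [true, true, false, true, true, true, false, true]),
  (1894, 397, [true, false, true, true, true, true, false, true, false, false, false]),
  (1903, 467, [false, true, true, true, false, true, true, true, false, true, false]),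
  (1905, 372, [true, true, true, false, true, false, false, false]),
  (1914, 346, [true, false, true, true, true, true, false, true, true, false]),
  (1919, 423, [true, true, true, true, true, false, true]),
  (1931, 169, [true, true, true, false, true, true, false]),
  (1936, 499, [false, true, true, false, true, true, false, true, true]),
  (1941, 84, [true, false, true, true, true, false, true, true, false, false]),
  (1946, 253, [false, true, true, true, false, true, true, false, true, true]),
  (1958, 270, [true, true, false, true, true, false, false]),
  (1963, 303, [false, true, false, true, true, true, true, true, false, true, true, false]),
  (1971, 115, [true, false, true, true, true, false, true, true, true, false]),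
  (1979, 482, [true, true, true, false, true, true, false, true, true, true]),
  (1987, 205, [true, true, false, true, true, true, false]),
  (1988, 190, [true, false, true, true, true, false, true, true, true, true, true, false, false]),
  (1996, 348, [true, true, true, true, true, false, true, true, false, false, false]),
  (2004, 401, [true, true, false, true, true, true, true, true, false, false]),
  (2012, 419, [false, true, true, true, true, false, true, true, false, true]),
  (2016, 141, [true, true, true, true, true, false]),
  (2027, 247, [true, true, true, false, true, true, true, false, true, false]),
  (2031, 340, [false, true, true, false, true, true, false, true]),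
  (2042, 473, [true, false, true, true, true, false, true, false, false]),
  (2046, 302, [false, true, true, true, false, true, true, false, true]),
  (2057, 122, [true, true, false, true, false, false]),
  (2064, 273, [false, false]),
  (2071, 99, [false, true, false]),
  (2078, 207, [false, true, true, false]),
  (2085, 478, [false, true, true, true, false]),
  (2092, 445, [false, true, true, true, true, false]),
  (2099, 370, [false, true, true, true, true, true, false]),
  (2106, 172, [true, false, true, false, false]),
  (2113, 95, [false, true, false, true, false]),
  (2119, 460, [false, true, true, false, true, false]),
  (2125, 317, [false, true, true, true, false, true, false]),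
  (2131, 354, [false, true, true, true, true, false, true, false]),
  (2137, 174, [false, true, true, true, true, true, false, true, false]),
  (2143, 403, [true, false, true, true, false, false, false]),
  (2149, 241, [true, false, false, false]),
  (2162, 485, [true, true, true, true, true, false, false]),
  (2167, 377, [false, true, false, true, true, true, true, true]),
  (2172, 110, [false, true, true, false, true, true, true, true, true]),
  (2177, 395, [false, true, true, true, false, true, true, true, true, true]),
  (2189, 242, [true, true, true, false, true, true, true, false, true, false, false]),
  (2194, 156, [true, false, true, true, true, false, true, false, false, false]),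
  (2199, 279, [true, true, false, true, false, false, false]),
  (2211, 334, [true, true, true, true, false, false]),
  (2215, 431, [false, true, false, true, true, true, true]),
  (2219, 498, [false, true, true, false, true, true, true, true]),
  (2230, 188, [false, true, true, true, false, true, true, true, true]),
  (2234, 275, [true, true, true, false, true, true, true, false, false, false]),
  (2245, 225, [false, true, false, true, true, true, false, true, true, true, false]),
  (2249, 93, [true, false, true, true, true, true, true, false, false]),
  (2260, 442, [true, true, true, false, false]),
  (2263, 181, [false, true, false, true, true, true]),
  (2273, 339, [false, true, true, false, true, true, true]),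
  (2276, 233, [false, true, true, true, false, true, true, true]),
  (2286, 92, [false, true, true, true, true, false, true, true, true]),
  (2289, 271, [false, true, true, true, true, true, false, true, true, true]),
  (2299, 486, [true, false, true, true, true, true, false, false]),
  (2309, 171, [true, true, false, false]),
  (2311, 214, [false, true, false, true, true]),
  (2320, 412, [false, true, true, false, true, true]),
  (2329, 311, [false, true, true, true, false, true, true]),
  (2331, 481, [false, true, true, true, true, false, true, true]),
  (2340, 125, [false, true, true, true, true, true, false, true, true]),
  (2349, 330, [true, false, true, true, true, false, false]),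
  (2358, 244, [true, false, false]),
  (2359, 282, [false, true, false, true]),
  (2367, 161, [false, true, true, false, true]),
  (2375, 85, [false, true, true, true, false, true]),
  (2383, 335, [false, true, true, true, true, false, true]),
  (2391, 494, [false, true, true, true, true, true, false, true]),
  (2399, 443, [true, false, true, true, false, false])]

/-- The bit-coded matrix over `ZMod 2`. -/
def ofCode (n : ℕ) : Matrix (Fin 3) (Fin 3) (ZMod 2) :=
  fun i j => if n.testBit (3 * i.val + j.val) then 1 else 0

/-- Image code of a code. -/
def look (c : ℕ) : ℕ := ((table.find? fun r => r.1 == c).map fun r => r.2.1).getD 0

/-- Code of a quadruple of residues. -/
def code (a b c d : ZMod 7) : ℕ := a.val * 343 + b.val * 49 + c.val * 7 + d.val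

/-- The two generators of SL₂(7). -/
def gen : Bool → SL(2, ZMod 7)
  | false => ⟨!![0, -1; 1, 0], by decide +kernel⟩
  | true => ⟨!![1, 1; 0, 1], by decide +kernel⟩

/-- Their images. -/
def genImage : Bool → Matrix (Fin 3) (Fin 3) (ZMod 2)
  | false => ofCode 124
  | true => ofCode 244

/-- The covering map as a function to matrices. -/
def imgFun (g : SL(2, ZMod 7)) : Matrix (Fin 3) (Fin 3) (ZMod 2) :=
  ofCode (look (code (g 0 0) (g 0 1) (g 1 0) (g 1 1)))

theorem step_table : ∀ a b c d : ZMod 7, a * d - b * c = 1 →
    ofCode (look (code (-c) (-d) a b)) = genImage false * ofCode (look (code a b c d)) ∧
    ofCode (look (code (a + c) (b + d) c d)) = genImage true * ofCode (look (code a b c d)) := by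
  decide +kernel

theorem gen_false_mul (g : SL(2, ZMod 7)) :
    (gen false * g) 0 0 = -g 1 0 ∧ (gen false * g) 0 1 = -g 1 1 ∧
      (gen false * g) 1 0 = g 0 0 ∧ (gen false * g) 1 1 = g 0 1 := by
  refine ⟨?_, ?_, ?_, ?_⟩ <;>
    rw [Matrix.SpecialLinearGroup.coe_mul, Matrix.mul_apply, Fin.sum_univ_two] <;>
    simp [gen]

theorem gen_true_mul (g : SL(2, ZMod 7)) :
    (gen true * g) 0 0 = g 0 0 + g 1 0 ∧ (gen true * g) 0 1 = g 0 1 + g 1 1 ∧
      (gen true * g) 1 0 = g 1 0 ∧ (gen true * g) 1 1 = g 1 1 := by
  refine ⟨?_, ?_, ?_, ?_⟩ <;>
    rw [Matrix.SpecialLinearGroup.coe_mul, Matrix.mul_apply, Fin.sum_univ_two] <;>
    simp [gen]

theorem imgFun_gen (s : Bool) (g : SL(2, ZMod 7)) : imgFun (gen s * g) = genImage s * imgFun g := by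
  have hd : g 0 0 * g 1 1 - g 0 1 * g 1 0 = 1 := by
    rw [← Matrix.det_fin_two]; exact g.det_coe
  have h := step_table _ _ _ _ hd
  cases s
  · obtain ⟨e1, e2, e3, e4⟩ := gen_false_mul g
    simp only [imgFun, e1, e2, e3, e4]; exact h.1
  · obtain ⟨e1, e2, e3, e4⟩ := gen_true_mul g
    simp only [imgFun, e1, e2, e3, e4]; exact h.2

/-- Evaluation of a word. -/
def evalWord : List Bool → SL(2, ZMod 7)
  | [] => 1
  | s :: l => gen s * evalWord l

/-- Evaluation of the image of a word. -/
def imgWord : List Bool → Matrix (Fin 3) (Fin 3) (ZMod 2)
  | [] => 1
  | s :: l => genImage s * imgWord l

theorem imgFun_word (l : List Bool) (h : SL(2, ZMod 7)) : imgFun (evalWord l * h) = imgWord l * imgFun h := by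
  induction l with
  | nil => simp [evalWord, imgWord]
  | cons s l ih => rw [evalWord, imgWord, mul_assoc, imgFun_gen, ih, Matrix.mul_assoc]

/-- Quadruple version of `evalWord`, for evaluation. -/
def evalQuad : List Bool → ZMod 7 × ZMod 7 × ZMod 7 × ZMod 7
  | [] => (1, 0, 0, 1)
  | s :: l =>
    match s, evalQuad l with
    | false, (a, b, c, d) => (-c, -d, a, b)
    | true, (a, b, c, d) => (a + c, b + d, c, d)

theorem evalQuad_eq (l : List Bool) : evalQuad l =
    (evalWord l 0 0, evalWord l 0 1, evalWord l 1 0, evalWord l 1 1) := by
  induction l with
  | nil => simp [evalQuad, evalWord]
  | cons s l ih =>
    cases s
    · obtain ⟨e1, e2, e3, e4⟩ := gen_false_mul (evalWord l)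
      simp only [evalQuad, evalWord, ih, e1, e2, e3, e4]
    · obtain ⟨e1, e2, e3, e4⟩ := gen_true_mul (evalWord l)
      simp only [evalQuad, evalWord, ih, e1, e2, e3, e4]

/-- The word of a code. -/
def lookWord (c : ℕ) : List Bool := ((table.find? fun r => r.1 == c).map fun r => r.2.2).getD []

theorem word_table : ∀ a b c d : ZMod 7, a * d - b * c = 1 →
    evalQuad (lookWord (code a b c d)) = (a, b, c, d) := by
  decide +kernel

theorem exists_word (g : SL(2, ZMod 7)) : ∃ l, evalWord l = g := by
  have hd : g 0 0 * g 1 1 - g 0 1 * g 1 0 = 1 := by
    rw [← Matrix.det_fin_two]; exact g.det_coe
  refine ⟨lookWord (code (g 0 0) (g 0 1) (g 1 0) (g 1 1)), ?_⟩
  have h := word_table _ _ _ _ hd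
  rw [evalQuad_eq] at h
  ext i j
  fin_cases i <;> fin_cases j <;> simp_all

theorem imgFun_one : imgFun 1 = 1 := by decide +kernel

theorem imgFun_mul (g h : SL(2, ZMod 7)) : imgFun (g * h) = imgFun g * imgFun h := by
  obtain ⟨l, rfl⟩ := exists_word g
  have h1 := imgFun_word l 1
  rw [mul_one, imgFun_one, Matrix.mul_one] at h1
  rw [imgFun_word, h1]

theorem imgFun_det (g : SL(2, ZMod 7)) : (imgFun g).det = 1 := by
  have h : (imgFun g).det * (imgFun g⁻¹).det = 1 := by
    rw [← Matrix.det_mul, ← imgFun_mul, mul_inv_cancel, imgFun_one, Matrix.det_one]
  have key : ∀ x y : ZMod 2, x * y = 1 → x = 1 := by decide
  exact key _ _ h

/-- The covering homomorphism. -/
def cover : SL(2, ZMod 7) →* SL(3, ZMod 2) where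
  toFun g := ⟨imgFun g, imgFun_det g⟩
  map_one' := Subtype.ext imgFun_one
  map_mul' g h := Subtype.ext (imgFun_mul g h)

theorem onto_table : ∀ m < 512, (ofCode m).det = 1 →
    table.any (fun r => r.2.1 == m && look r.1 == m && decide (code (evalQuad r.2.2).1 (evalQuad r.2.2).2.1
      (evalQuad r.2.2).2.2.1 (evalQuad r.2.2).2.2.2 = r.1)) = true := by
  decide +kernel

theorem exists_code : ∀ M : Matrix (Fin 3) (Fin 3) (ZMod 2), ∃ m < 512, ofCode m = M := by
  intro M
  refine ⟨∑ i : Fin 3, ∑ j : Fin 3, (M i j).val * 2 ^ (3 * i.val + j.val), ?_⟩
  revert M
  decide +kernel

theorem cover_surjective : Function.Surjective cover := by
  intro y
  obtain ⟨m, hm, hy⟩ := exists_code y.1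
  have h := onto_table m hm (by rw [hy]; exact y.2)
  rw [List.any_eq_true] at h
  obtain ⟨r, _, hr⟩ := h
  simp only [Bool.and_eq_true, beq_iff_eq, decide_eq_true_eq, evalQuad_eq] at hr
  refine ⟨evalWord r.2.2, Subtype.ext ?_⟩
  show imgFun _ = _
  rw [imgFun, hr.2, hr.1.2, hy]

theorem kernel_table : ∀ a b c d : ZMod 7, a * d - b * c = 1 →
    ofCode (look (code a b c d)) = 1 → b = 0 ∧ c = 0 ∧ (a = 1 ∧ d = 1 ∨ a = -1 ∧ d = -1) := by
  decide +kernel

theorem cover_ker {g : SL(2, ZMod 7)} : g ∈ cover.ker ↔ g = 1 ∨ g = -1 := by
  have hd : g 0 0 * g 1 1 - g 0 1 * g 1 0 = 1 := by
    rw [← Matrix.det_fin_two]; exact g.det_coe
  constructor
  · intro hg
    have h : imgFun g = 1 := congrArg (fun x : SL(3, ZMod 2) => x.1) (MonoidHom.mem_ker.1 hg)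
    obtain ⟨h1, h2, h3 | h3⟩ := kernel_table _ _ _ _ hd h
    · left; ext i j; fin_cases i <;> fin_cases j <;> simp_all
    · right; ext i j; fin_cases i <;> fin_cases j <;> simp_all
  · rintro (rfl | rfl)
    · exact one_mem _
    · have h : imgFun (-1) = 1 := by decide +kernel
      exact MonoidHom.mem_ker.2 (Matrix.SpecialLinearGroup.ext (cover (-1)) 1 fun i j =>
        congrFun (congrFun h i) j)

end Cfsg.Agent.Lib.Schur.CoverSL32
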