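import Mathlib

/-!
# Rewriting words in involutions

Cancellation of a square, exchange of a commuting pair, a braid move and rotation keep the conjugacy class of
the value of a word.
-/

set_option autoImplicit false

namespace Cfsg.Agent.Lib.Schur.CoxeterMoves

/-- Membership of an ordered pair in a list of edges, either way round. -/
def adj (edges : List (ℕ × ℕ)) (x y : ℕ) : Bool :=
  edges.any fun e => (Nat.beq e.1 x && Nat.beq e.2 y) || (Nat.beq e.1 y && Nat.beq e.2 x)

/-- A move at the front: `0` cancels, `1` exchanges, `2` braids. -/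
def front (edges : List (ℕ × ℕ)) : ℕ → List ℕ → Option (List ℕ)
  | 0, x :: y :: l => if Nat.beq x y then some l else none
  | 1, x :: y :: l => if adj edges x y || Nat.beq x y then none else some (y :: x :: l)
  | 2, x :: y :: z :: l => if adj edges x y && Nat.beq x z then some (y :: x :: y :: l) else none
  | _, _ => none

/-- A move at a position. -/
def moveAt (edges : List (ℕ × ℕ)) (kind : ℕ) : ℕ → List ℕ → Option (List ℕ)
  | 0, l => front edges kind l
  | k + 1, x :: l => (moveAt edges kind k l).map (x :: ·)
  | _ + 1, [] => none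

/-- A move: kind `3` rotates. -/
def step (edges : List (ℕ × ℕ)) (m : ℕ × ℕ) : List ℕ → Option (List ℕ) := fun l =>
  if Nat.beq m.1 3 then some (l.rotate' 1) else moveAt edges m.1 m.2 l

/-- A list of moves. -/
def run (edges : List (ℕ × ℕ)) : List (ℕ × ℕ) → List ℕ → Option (List ℕ)
  | [], l => some l
  | m :: ms, l => (step edges m l).bind (run edges ms)

variable {M : Type*} [Group M]

/-- The relations that the moves use. -/
structure Good (K : ℕ) (edges : List (ℕ × ℕ)) (t : ℕ → M) : Prop where
  comm : ∀ x < K, ∀ y < K, adj edges x y = false → t x * t y = t y * t x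
  braid : ∀ x < K, ∀ y < K, adj edges x y = true → t x * t y * t x = t y * t x * t y

variable {K : ℕ} {edges : List (ℕ × ℕ)} {t : ℕ → M}

theorem moveAt_sound (h : Good K edges t) {kind : ℕ} (hsq : kind = 0 → ∀ x < K, t x * t x = 1) : ∀ {k : ℕ} {l l' : List ℕ}, (∀ x ∈ l, x < K) →
    moveAt edges kind k l = some l' → (∀ x ∈ l', x < K) ∧ (l'.map t).prod = (l.map t).prod := by
  intro k
  induction k with
  | zero =>
    intro l l' hl he
    rw [moveAt] at he
    unfold front at he
    split at he
    · next x y l =>
      split_ifs at he with hxy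
      cases he
      rw [Nat.beq_eq] at hxy
      subst hxy
      simp only [List.mem_cons, forall_eq_or_imp] at hl
      exact ⟨hl.2.2, by rw [List.map_cons, List.map_cons, List.prod_cons, List.prod_cons, ← mul_assoc,
        hsq rfl x hl.1, one_mul]⟩
    · next x y l =>
      split_ifs at he with hxy
      cases he
      simp only [Bool.or_eq_true, not_or, Bool.not_eq_true] at hxy
      simp only [List.mem_cons, forall_eq_or_imp] at hl
      refine ⟨by simpa [List.mem_cons, forall_eq_or_imp] using ⟨hl.2.1, hl.1, hl.2.2⟩, ?_⟩
      simp only [List.map_cons, List.prod_cons, ← mul_assoc, h.comm x hl.1 y hl.2.1 hxy.1]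
    · next x y z l =>
      split_ifs at he with hxy
      cases he
      simp only [Bool.and_eq_true, Nat.beq_eq] at hxy
      obtain ⟨hxy, rfl⟩ := hxy
      simp only [List.mem_cons, forall_eq_or_imp] at hl
      refine ⟨by simpa [List.mem_cons, forall_eq_or_imp] using ⟨hl.2.1, hl.1, hl.2.1, hl.2.2.2⟩, ?_⟩
      simp only [List.map_cons, List.prod_cons, ← mul_assoc, h.braid x hl.1 y hl.2.1 hxy]
    · cases he
  | succ k ih =>
    intro l l' hl he
    cases l with
    | nil => simp [moveAt] at he
    | cons x l =>
      rw [moveAt, Option.map_eq_some_iff] at he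
      obtain ⟨m, hm, rfl⟩ := he
      simp only [List.mem_cons, forall_eq_or_imp] at hl
      obtain ⟨h1, h2⟩ := ih hl.2 hm
      exact ⟨by simpa [List.mem_cons, forall_eq_or_imp] using ⟨hl.1, h1⟩,
        by rw [List.map_cons, List.map_cons, List.prod_cons, List.prod_cons, h2]⟩

/-- The moves keep the conjugacy class. -/
theorem run_sound (h : Good K edges t) : ∀ {ms : List (ℕ × ℕ)} {l l' : List ℕ},
    ((∃ m ∈ ms, m.1 = 0) → ∀ x < K, t x * t x = 1) → (∀ x ∈ l, x < K) →
    run edges ms l = some l' → IsConj (l.map t).prod (l'.map t).prod := by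
  intro ms
  induction ms with
  | nil =>
    intro l l' _ _ he
    rw [run, Option.some.injEq] at he
    subst he
    exact IsConj.refl _
  | cons m ms ih =>
    intro l l' hsq hl he
    have hsq' : (∃ k ∈ ms, k.1 = 0) → ∀ x < K, t x * t x = 1 := fun ⟨k, hk, hk0⟩ =>
      hsq ⟨k, List.mem_cons_of_mem _ hk, hk0⟩
    rw [run, Option.bind_eq_some_iff] at he
    obtain ⟨l1, h1, h2⟩ := he
    unfold step at h1
    split_ifs at h1 with hm
    · rw [Option.some.injEq] at h1
      subst h1
      cases l with
      | nil => exact ih hsq' hl h2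
      | cons x l =>
        rw [List.rotate'_cons_succ, List.rotate'_zero] at h2
        refine IsConj.trans ?_ (ih hsq' (fun y hy => hl y (by simp at hy ⊢; tauto)) h2)
        rw [List.map_append, List.prod_append, List.map_cons, List.prod_cons]
        exact isConj_iff.2 ⟨(t x)⁻¹, by simp⟩
    · obtain ⟨ha, hb⟩ := moveAt_sound h (fun h0 => hsq ⟨m, List.mem_cons_self, h0⟩) hl h1
      rw [← hb]
      exact ih hsq' ha h2

end Cfsg.Agent.Lib.Schur.CoxeterMoves
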