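import Cfsg.Agent.Lib.Schur.HeCover
import Cfsg.Agent.Lib.CosetEnumHe.Held

/-!
# The multiplier of the Held group is trivial
-/

set_option autoImplicit false
set_option maxRecDepth 20000

namespace Cfsg.Agent.Lib.Schur.HeMult

open Cfsg Cfsg.Agent.Lib.CosetEnum
open Cfsg.Agent.Lib.CosetEnum.HeWord (pres)
open Cfsg.Agent.Lib.CosetEnum.HeSlp (level0 level1 level2 level3 level4 level5)

theorem base_eq :
    [level0, level1, level2, level3, level4, level5].map OrbLevel.base = HeCover.base := by
  decide +kernel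

theorem letters_K : He2058.letters.K = 7 := by decide +kernel

/-- The multiplier of the Held group is trivial. -/
theorem hasCyclicSchurMultiplier_He : HasCyclicSchurMultiplier Cfsg.Spor.He 1 := by
  obtain ⟨ρ, hρ, -, -, hinj, hcard, -⟩ := CosetEnumHe.Held.exists_action
  have hcard' : Nat.card (PresentedGroup pres) = 4030387200 := hcard
  have : Finite (PresentedGroup pres) := Nat.finite_of_card_ne_zero (by rw [hcard']; norm_num)
  have : Finite Cfsg.Spor.He := Nat.finite_of_card_ne_zero (by rw [hcard]; norm_num)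
  have hsep : ∀ σ ∈ ρ.range, (∀ b ∈ HeCover.base, ∀ i : Fin 2058, i.1 = b → σ i = i) → σ = 1 := by
    intro σ hσ hfix
    refine WordCodeCert.separate_of_levels ρ (slp_sound ρ _ hρ HeSlp.slp_ok) HeSlp.levels_ok ?_ hσ
      (by rw [base_eq]; exact hfix)
    rw [HeSlp.size_eq, ← hcard']
    exact le_of_eq (Nat.card_congr (MonoidHom.ofInjective hinj).toEquiv).symm
  have hB : ∀ b ∈ HeCover.base, b < 2058 := by decide +kernel
  have hpart := fun (T : WordCodeCert.Cert) (hp : T.data.p.Prime) =>
    WordCodeCert.exists_part He2058.letters pres ρ hρ hinj hB hsep (T := T) hp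
  refine Fusion.hasTrivialMultiplier fun p hp hd => ?_
  rw [hcard] at hd
  have hd' : p ∣ 2 ^ 10 * 3 ^ 3 * 5 ^ 2 * 7 ^ 3 * 17 := hd.trans (by norm_num)
  simp only [hp.dvd_mul] at hd'
  rcases hd' with (((h | h) | h) | h) | h
  · obtain rfl := (Nat.prime_dvd_prime_iff_eq hp Nat.prime_two).1 (hp.dvd_of_dvd_pow h)
    exact hpart HeCover.two Nat.prime_two HeCover.two_table HeCover.two_cob HeCover.two_word
      (by rw [hcard']; decide +kernel)
  · obtain rfl := (Nat.prime_dvd_prime_iff_eq hp Nat.prime_three).1 (hp.dvd_of_dvd_pow h)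
    exact hpart HeCover.three Nat.prime_three HeCover.three_table HeCover.three_cob HeCover.three_word
      (by rw [hcard']; decide +kernel)
  · obtain rfl := (Nat.prime_dvd_prime_iff_eq hp (by norm_num)).1 (hp.dvd_of_dvd_pow h)
    exact hpart HeCover.five hp HeCover.five_table HeCover.five_cob HeCover.five_word
      (by rw [hcard']; decide +kernel)
  · obtain rfl := (Nat.prime_dvd_prime_iff_eq hp (by norm_num)).1 (hp.dvd_of_dvd_pow h)
    exact hpart HeCover.seven hp HeCover.seven_table HeCover.seven_cob HeCover.seven_word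
      (by rw [hcard']; decide +kernel)
  · obtain rfl := (Nat.prime_dvd_prime_iff_eq hp (by norm_num)).1 h
    have := Fact.mk hp
    obtain ⟨x, hx⟩ := exists_prime_orderOf_dvd_card' 17 (G := Cfsg.Spor.He) (by rw [hcard]; norm_num)
    refine ⟨Subgroup.zpowers x, fun hd => ?_, Fusion.killsPart_zpowers 17 _⟩
    have h1 := (Subgroup.zpowers x).card_mul_index
    rw [Nat.card_zpowers, hx, hcard] at h1
    omega

end Cfsg.Agent.Lib.Schur.HeMult
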