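import Mathlib

/-!
# Lifts of involutions in a central extension

In a central extension with kernel of exponent `p`, products of lifts of involutions are controlled by the
relations of the quotient.
-/

set_option autoImplicit false

namespace Cfsg.Agent.Lib.Schur.InvolutionLift

open Subgroup

variable {Γ G : Type*} [Group Γ] [Group G] {σ : Γ →* G} (hc : σ.ker ≤ center Γ)

include hc

theorem comm_ker {z : Γ} (hz : σ z = 1) (g : Γ) : g * z = z * g :=
  mem_center_iff.1 (hc hz) g

/-- A second generator can be corrected so that the braid relation is exact; the squares agree then. -/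
theorem exists_braid (hσ : Function.Surjective σ) {a : Γ} {y : G} (h : σ a * y * σ a = y * σ a * y) :
    ∃ b : Γ, σ b = y ∧ a * b * a = b * a * b ∧ b * b = (a * b) * (a * a) * (a * b)⁻¹ := by
  obtain ⟨u, rfl⟩ := hσ y
  let z := (u * a * u)⁻¹ * (a * u * a)
  have hz : σ z = 1 := by simp only [z, map_mul, map_inv, h, inv_mul_cancel]
  have key : (a * u * a) = (u * a * u) * z := (mul_inv_cancel_left _ _).symm
  have c := comm_ker hc hz
  have hb : a * (u * z) * a = (u * z) * a * (u * z) := by
    rw [show a * (u * z) * a = a * u * (z * a) by group, ← c a,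
      show a * u * (a * z) = a * u * a * z by group, key,
      show u * z * a * (u * z) = u * (z * a) * u * z by group, ← c a,
      show u * (a * z) * u * z = u * a * (z * u) * z by group, ← c u]
    group
  have hs : u * z = (a * (u * z)) * a * (a * (u * z))⁻¹ := by
    rw [hb]; group
  refine ⟨u * z, by rw [map_mul, hz, mul_one], hb, ?_⟩
  calc u * z * (u * z) = ((a * (u * z)) * a * (a * (u * z))⁻¹) * ((a * (u * z)) * a * (a * (u * z))⁻¹) := by
        rw [← hs]
    _ = _ := by group

/-- If `b` and `c` braid and both commute with `x` in the quotient, then `x` conjugates them with one factor. -/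
theorem factor_eq {x b c β γ : Γ} (hβ : σ β = 1) (hγ : σ γ = 1) (hb : x * b = b * x * β)
    (hcx : x * c = c * x * γ) (hbr : b * c * b = c * b * c) : β = γ := by
  have cβ := comm_ker hc hβ
  have cγ := comm_ker hc hγ
  have hb' : x * b * x⁻¹ = b * β := by
    rw [hb, mul_assoc (b * x), ← cβ x⁻¹]; group
  have hc' : x * c * x⁻¹ = c * γ := by
    rw [hcx, mul_assoc (c * x), ← cγ x⁻¹]; group
  have h : (x * b * x⁻¹) * (x * c * x⁻¹) * (x * b * x⁻¹) =
      (x * c * x⁻¹) * (x * b * x⁻¹) * (x * c * x⁻¹) := by
    calc _ = x * (b * c * b) * x⁻¹ := by group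
      _ = x * (c * b * c) * x⁻¹ := by rw [hbr]
      _ = _ := by group
  rw [hb', hc'] at h
  have e1 : b * β * (c * γ) * (b * β) = b * c * b * (γ * β * β) := by
    rw [show b * β * (c * γ) * (b * β) = b * (β * c) * (γ * b) * β by group, ← cβ c, ← cγ b,
      show b * (c * β) * (b * γ) * β = b * c * (β * b) * (γ * β) by group, ← cβ b,
      show b * c * (b * β) * (γ * β) = b * c * b * (β * γ * β) by group, ← cβ γ, cβ γ, cγ β]
  have e2 : c * γ * (b * β) * (c * γ) = b * c * b * (β * γ * γ) := by
    rw [hbr, show c * γ * (b * β) * (c * γ) = c * (γ * b) * (β * c) * γ by group, ← cγ b, ← cβ c,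
      show c * (b * γ) * (c * β) * γ = c * b * (γ * c) * (β * γ) by group, ← cγ c,
      show c * b * (c * γ) * (β * γ) = c * b * c * (γ * β * γ) by group, cγ β]
  rw [e1, e2, cβ γ] at h
  have := mul_left_cancel h
  rw [cβ γ] at *
  exact mul_left_cancel (a := β * γ) (by simpa [mul_assoc] using this)

/-- Lifts of a commuting pair that both commute stay so along a braid. -/
theorem commute_spread {x b c : Γ} (hb : Commute x b) (hbr : b * c * b = c * b * c)
    (h : σ (x * c) = σ (c * x)) : Commute x c := by
  let γ := (c * x)⁻¹ * (x * c)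
  have hγ : σ γ = 1 := by
    simp only [γ, map_mul, map_inv]
    rw [← map_mul σ x, h, map_mul, inv_mul_cancel]
  have h1 : (1 : Γ) = γ := factor_eq hc (x := x) (b := b) (c := c) (map_one σ) hγ
    (by rw [mul_one]; exact hb) (mul_inv_cancel_left _ _).symm hbr
  exact (inv_mul_eq_one.1 h1.symm).symm

omit hc in
/-- An element that is its own inverse and a `p`-th root of one is trivial for odd `p`. -/
theorem eq_one_of_sq {p : ℕ} (hp : Odd p) {z : Γ} (hz : z * z = 1) (hzp : z ^ p = 1) : z = 1 := by
  obtain ⟨k, rfl⟩ := hp
  rwa [pow_succ, pow_mul, pow_two, hz, one_pow, one_mul] at hzp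

variable {p : ℕ} (hp : Odd p) (hexp : ∀ z : Γ, σ z = 1 → z ^ p = 1)

include hp hexp

/-- An involution has one involutory lift. -/
theorem invol_unique {a b : Γ} (ha : a * a = 1) (hb : b * b = 1) (h : σ a = σ b) : a = b := by
  let z := a⁻¹ * b
  have hz : σ z = 1 := by simp [z, h]
  have hbz : b = a * z := by simp [z]
  have : z * z = 1 := by
    rw [hbz, show a * z * (a * z) = a * (z * a) * z by group, ← comm_ker hc hz a,
      show a * (a * z) * z = a * a * (z * z) by group, ha, one_mul] at hb
    exact hb
  rw [hbz, eq_one_of_sq hp this (hexp _ hz), mul_one]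

/-- An element commuting with an involution in the quotient commutes with its lift. -/
theorem commute_invol {y c : Γ} (hy : y * y = 1) (h : σ (y * c) = σ (c * y)) : Commute y c := by
  let z := (c * y)⁻¹ * (y * c)
  have hz : σ z = 1 := by
    simp only [z, map_mul, map_inv]
    rw [← map_mul σ y, h, map_mul, inv_mul_cancel]
  have hyc : y * c = c * y * z := (mul_inv_cancel_left _ _).symm
  have : z * z = 1 := by
    have h2 : c = c * (z * z) := by
      calc c = y * y * c := by rw [hy, one_mul]
        _ = y * (y * c) := by group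
        _ = y * (c * y * z) := by rw [hyc]
        _ = (y * c) * y * z := by group
        _ = c * y * (z * y) * z := by rw [hyc]; group
        _ = c * (y * y) * (z * z) := by rw [← comm_ker hc hz y]; group
        _ = c * (z * z) := by rw [hy, mul_one]
    exact mul_left_cancel (a := c) (by rw [← h2, mul_one])
  rw [Commute, SemiconjBy, hyc, eq_one_of_sq hp this (hexp _ hz), mul_one]

/-- The product of two involutions has the same order as in the quotient. -/
theorem pow_mul_invol {a b : Γ} {n : ℕ} (ha : a * a = 1) (hb : b * b = 1) (h : σ ((a * b) ^ n) = 1) :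
    (a * b) ^ n = 1 := by
  have hinv : a * (a * b) * a = (a * b)⁻¹ := by
    rw [mul_inv_rev, ← eq_inv_of_mul_eq_one_left ha, ← eq_inv_of_mul_eq_one_left hb,
      show a * (a * b) * a = a * a * b * a by group, ha, one_mul]
  have hai : a⁻¹ = a := (eq_inv_of_mul_eq_one_left ha).symm
  have hz : a * (a * b) ^ n * a = ((a * b) ^ n)⁻¹ := by
    rw [← inv_pow, ← hinv]
    conv_rhs => arg 1; rw [show a * (a * b) * a = a * (a * b) * a⁻¹ by rw [hai]]
    rw [conj_pow, hai]
  rw [comm_ker hc h a, mul_assoc, ha, mul_one] at hz
  exact eq_one_of_sq hp (mul_eq_one_iff_eq_inv.2 hz) (hexp _ h)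

end Cfsg.Agent.Lib.Schur.InvolutionLift
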