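import Cfsg.Agent.Lib.Schur.PcTailsP
import Cfsg.Agent.Lib.Schur.GolayMult
import Cfsg.Agent.Lib.SporMatrix.J3

/-!
# Certificates for parts of the multiplier of a group of coded matrices

A presentation of a Sylow subgroup of the triple cover of the Janko group, its elements given by the
table entries of the matrix code.
-/

set_option autoImplicit false

namespace Cfsg.Agent.Lib.Schur.J3CodeCert

open Cfsg.Spor
open Cfsg.Agent.Lib.SporMatrix Code9 J3Data J3Check

attribute [local irreducible] Code9.mul J3Check.elC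
open Cfsg.Agent.Lib.Computation (getW)
open Cfsg.Agent.Lib.Schur.PcTails (Equat)

/-- The certificate; a conjugator is an index into `xs`. -/
structure Cert where
  data : PcTailsP.Data
  gens : List El
  xs : List (List El)
  eqs : List Equat
  combos : List (List ℕ)
  wo : ℕ
  ord : ℕ
  pos : ℕ

/-- The code of a word in the generators. -/
def gword (gs : List El) (l : List ℕ) : ℕ :=
  l.foldr (fun i a => Code9.mul (elAt gs i) a) Code9.one

/-- The code of a product of table entries. -/
def eword (l : List El) : ℕ := l.foldr (fun e a => Code9.mul (elC e) a) Code9.one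

/-- The code of a normal form. -/
def Cert.scode (T : Cert) (q : ℕ) : ℕ := gword T.gens (T.data.bits q)

/-- The conjugation of an equation is right. -/
def conjOk (T : Cert) : Equat → Bool
  | .overlap _ _ _ => true
  | .conj x us vs _ => (List.range us.length).all fun k =>
      Nat.beq (Code9.mul (eword (T.xs.getD x [])) (T.scode (us.getD k 0)))
        (Code9.mul (T.scode (vs.getD k 0)) (eword (T.xs.getD x [])))

/-- All checks. -/
def certOk (T : Cert) : Bool :=
  T.data.tableOk && T.data.cobOk T.eqs T.combos && T.eqs.all (conjOk T) &&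
  ((List.range T.data.n).all fun i => (List.range (i + 1)).all fun j =>
    Nat.beq (gword T.gens (T.data.lhsW i j)) (gword T.gens (T.data.rhsW i j))) &&
  ((List.range (T.data.p ^ T.data.n)).all fun q =>
    Nat.blt (getW T.wo T.pos q) (T.data.p ^ T.data.n) &&
      Nat.beq (getW T.wo T.ord (getW T.wo T.pos q)) q) &&
  (List.range (T.data.p ^ T.data.n - 1)).all fun k =>
    Nat.blt (T.scode (getW T.wo T.ord k)) (T.scode (getW T.wo T.ord (k + 1)))

variable {F : Type*} [Field F] [Finite F] {ω : F} (hg : J3.Good F ω)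

include hg

theorem exists_eword (l : List El) : ∃ x : ↥(threeJ3 F ω), J3.HasCode x (eword l) := by
  rw [eword]
  induction l with
  | nil => rw [List.foldr_nil]; exact ⟨1, J3.hasCode_one hg⟩
  | cons e l ih =>
    obtain ⟨x, hx⟩ := J3.exists_el (ω := ω) hg e
    obtain ⟨y, hy⟩ := ih
    rw [List.foldr_cons]
    exact ⟨x * y, hx.mul' hg hy⟩

/-- A certificate kills that part of the multiplier. -/
theorem exists_part {T : Cert} (hp : T.data.p.Prime) (hok : certOk T = true)
    (hidx : ¬ T.data.p ^ (T.data.n + 1) ∣ 150698880) :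
    ∃ P : Subgroup ↥(threeJ3 F ω), ¬ T.data.p ∣ P.index ∧ Fusion.KillsPart T.data.p P := by
  simp only [certOk, Bool.and_eq_true, List.all_eq_true, List.mem_range, Nat.beq_eq, Nat.blt_eq] at hok
  obtain ⟨⟨⟨⟨⟨htab, hcob⟩, hconj⟩, hrel⟩, hord⟩, hmono⟩ := hok
  choose g hgc using fun i => J3.exists_el (ω := ω) hg (T.gens.getD i ⟨0, 0, 0, 0, 0⟩)
  have hw : ∀ l : List ℕ, J3.HasCode (l.map g).prod (gword T.gens l) := by
    intro l
    rw [gword]
    induction l with
    | nil => rw [List.foldr_nil, List.map_nil, List.prod_nil]; exact J3.hasCode_one hg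
    | cons i l ih =>
      rw [List.foldr_cons, List.map_cons, List.prod_cons, elAt]
      exact (hgc i).mul' hg ih
  have hs : ∀ q, J3.HasCode (T.data.s g q) (T.scode q) := fun q => by
    rw [PcTailsP.Data.s, Cert.scode]; exact hw _
  refine ⟨⊤, by rw [Subgroup.index_top]; exact fun h => hp.one_lt.ne' (Nat.dvd_one.1 h),
    PcTailsP.killsPart_of_cert ⊤ T.data hp g htab hcob (fun i hi j hj => ?_)
      (fun a ha b hb he => ?_) (fun x us vs w he => ?_) (by rw [J3.card_threeJ3 hg]; exact hidx)⟩
  · have h := hrel i hi j (Nat.lt_succ_of_le hj)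
    exact J3.HasCode.ext (hw _) (h ▸ hw _)
  · obtain ⟨ha1, ha2⟩ := hord a ha
    obtain ⟨hb1, hb2⟩ := hord b hb
    have this : getW T.wo T.pos a = getW T.wo T.pos b := by
      refine GolayMult.eq_of_strictMono (fun k => T.scode (getW T.wo T.ord k)) hmono ha1 hb1 ?_
      show T.scode (getW T.wo T.ord (getW T.wo T.pos a)) = T.scode (getW T.wo T.ord (getW T.wo T.pos b))
      rw [ha2, hb2]
      exact J3.HasCode.code_eq hg (hs a) (by rw [he]; exact hs b)
    rw [← ha2, this, hb2]
  · have h := hconj _ he
    simp only [conjOk, List.all_eq_true, List.mem_range, Nat.beq_eq] at h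
    obtain ⟨y, hy⟩ := exists_eword (ω := ω) hg (T.xs.getD x [])
    refine ⟨y, fun k hk => mul_inv_eq_iff_eq_mul.2 ?_⟩
    exact J3.HasCode.ext (hy.mul' hg (hs _)) ((h k hk) ▸ (hs _).mul' hg hy)

/-- The part at a prime dividing the order only once. -/
theorem exists_cyclic {e : El} {q : ℕ} (hq : q.Prime) (h : primeOK e q = true)
    (hidx : ¬ q ^ 2 ∣ 150698880) :
    ∃ P : Subgroup ↥(threeJ3 F ω), ¬ q ∣ P.index ∧ Fusion.KillsPart q P := by
  obtain ⟨x, hx⟩ := J3.exists_el (ω := ω) hg e
  have := Fact.mk hq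
  refine ⟨Subgroup.zpowers x, fun hd => hidx ?_, Fusion.killsPart_zpowers q _⟩
  rw [← J3.card_threeJ3 hg, ← (Subgroup.zpowers x).card_mul_index, Nat.card_zpowers,
    J3.orderOf_of_primeOK hg h hx, pow_two]
  exact Nat.mul_dvd_mul_left q hd

end Cfsg.Agent.Lib.Schur.J3CodeCert
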