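import Cfsg.Agent.Lib.Schur.J3Cover
import Cfsg.Agent.Lib.Schur.PermMult

/-!
# The multiplier of the third Janko group is cyclic of order three

The triple cover has trivial multiplier and its centre lies in the commutator subgroup.
-/

set_option autoImplicit false

namespace Cfsg.Agent.Lib.Schur.J3Mult

open Cfsg Cfsg.Spor
open Cfsg.Agent.Lib.SporMatrix
open scoped commutatorElement

attribute [local irreducible] Code9.mul J3Check.elC

variable {F : Type*} [Field F] [Finite F] {ω : F} (hg : J3.Good F ω)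

include hg

theorem trivial_threeJ3 : HasCyclicSchurMultiplier ↥(threeJ3 F ω) 1 := by
  refine Fusion.hasTrivialMultiplier fun p hp hd => ?_
  rw [J3.card_threeJ3 hg] at hd
  have hd' : p ∣ 2 ^ 7 * 3 ^ 6 * 5 * 17 * 19 := hd.trans (by norm_num)
  simp only [hp.dvd_mul] at hd'
  rcases hd' with (((h | h) | h) | h) | h
  · obtain rfl := (Nat.prime_dvd_prime_iff_eq hp Nat.prime_two).1 (hp.dvd_of_dvd_pow h)
    exact J3CodeCert.exists_part hg (T := J3Cover.two) Nat.prime_two J3Cover.two_ok (by decide +kernel)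
  · obtain rfl := (Nat.prime_dvd_prime_iff_eq hp Nat.prime_three).1 (hp.dvd_of_dvd_pow h)
    exact J3CodeCert.exists_part hg (T := J3Cover.three) Nat.prime_three J3Cover.three_ok (by decide +kernel)
  · obtain rfl := (Nat.prime_dvd_prime_iff_eq hp (by norm_num)).1 h
    exact J3CodeCert.exists_cyclic hg hp J3Check.elem5_ok (by norm_num)
  · obtain rfl := (Nat.prime_dvd_prime_iff_eq hp (by norm_num)).1 h
    exact J3CodeCert.exists_cyclic hg hp J3Check.elem17_ok (by norm_num)
  · obtain rfl := (Nat.prime_dvd_prime_iff_eq hp (by norm_num)).1 h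
    exact J3CodeCert.exists_cyclic hg hp J3Check.elem19_ok (by norm_num)

theorem center_le_commutator :
    Subgroup.center ↥(threeJ3 F ω) ≤ commutator ↥(threeJ3 F ω) := by
  have h := J3Cover.z_ok
  simp only [Bool.and_eq_true, Bool.not_eq_true'] at h
  obtain ⟨hxy, hne⟩ := h
  obtain ⟨x, hx⟩ := J3.exists_el (ω := ω) hg J3Cover.zx
  obtain ⟨y, hy⟩ := J3.exists_el (ω := ω) hg J3Cover.zy
  obtain ⟨z, hz⟩ : ∃ z : ↥(threeJ3 F ω), J3.HasCode z (J3Check.scC 1) := J3.exists_el hg _
  have hzc : z ∈ Subgroup.center ↥(threeJ3 F ω) := J3.mem_center_of_scC hg (by norm_num) hz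
  have hz1 : z ≠ 1 := by
    rintro rfl
    rw [J3.HasCode.code_eq hg hz (J3.hasCode_one hg), Nat.beq_refl] at hne
    exact absurd hne (by simp)
  have he : ⁅x, y⁆ = z := by
    rw [commutatorElement_def, mul_inv_eq_iff_eq_mul, mul_inv_eq_iff_eq_mul]
    exact J3.HasCode.ext (hx.mul' hg hy) ((Nat.eq_of_beq_eq_true hxy) ▸ (hz.mul' hg hy).mul' hg hx)
  have : Fact (Nat.Prime 3) := ⟨Nat.prime_three⟩
  intro w hw
  have hmem : (⟨w, hw⟩ : Subgroup.center ↥(threeJ3 F ω)) ∈ Subgroup.zpowers ⟨z, hzc⟩ :=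
    mem_zpowers_of_prime_card (J3.card_center hg) (fun e => hz1 (congrArg Subtype.val e))
  obtain ⟨k, hk⟩ := Subgroup.mem_zpowers_iff.1 hmem
  have hwk : z ^ k = w := congrArg Subtype.val hk
  rw [← hwk]
  refine zpow_mem ?_ k
  rw [← he]
  exact Subgroup.commutator_mem_commutator (Subgroup.mem_top _) (Subgroup.mem_top _)

/-- The multiplier of the third Janko group is cyclic of order three. -/
theorem hasCyclicSchurMultiplier_J3 : HasCyclicSchurMultiplier (Cfsg.Spor.J3 F ω) 3 := by
  have hker : (QuotientGroup.mk' (Subgroup.center ↥(threeJ3 F ω))).ker =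
      Subgroup.center ↥(threeJ3 F ω) := QuotientGroup.ker_mk' _
  have hcard : Nat.card (QuotientGroup.mk' (Subgroup.center ↥(threeJ3 F ω))).ker = 3 := by
    rw [hker, J3.card_center hg]
  have : Fact (Nat.Prime 3) := ⟨Nat.prime_three⟩
  have := isCyclic_of_prime_card hcard
  exact PermMult.hasSchurMultiplier_of_cover (QuotientGroup.mk' (Subgroup.center ↥(threeJ3 F ω)))
    ⟨QuotientGroup.mk'_surjective _, hker.le, hker.le.trans (center_le_commutator hg)⟩
    (trivial_threeJ3 hg)
    (mulEquivOfCyclicCardEq (by rw [hcard, Nat.card_congr Multiplicative.toAdd, Nat.card_zmod]))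

end Cfsg.Agent.Lib.Schur.J3Mult
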