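import Cfsg.Agent.Lib.Schur.PcCollect
import Cfsg.Agent.Lib.Schur.PermMult

/-!
# Collection certificates inside a certified permutation group

The relations and conjugations are compared on codes; a generator is outside the group of the later ones when
it moves a tuple of points out of a set of tuples that they preserve.
-/

set_option autoImplicit false

namespace Cfsg.Agent.Lib.Schur.PcCollectPerm

open Cfsg
open Cfsg.Agent.Lib.Computation
open Cfsg.Agent.Lib.Schur.PermMult (pone pword memC Has el el_has hasOne has_word)
open Cfsg.Agent.Lib.Schur.PcCollect (Data Equat Vec)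

variable {n w : ℕ} [NeZero n] (hw : n ≤ 2 ^ w) (ch : List (Computation.Level ℕ))

/-- The generators are members. -/
noncomputable def gensOk (gens : List ℕ) : Bool := gens.all (memC hw ch)

/-- The relations hold. -/
def relsOk (n w : ℕ) (D : Data) (gens : List ℕ) : Bool :=
  (List.range D.n).all fun i => (List.range (i + 1)).all fun j =>
    Nat.beq (pword n w gens (D.lhs i j)) (pword n w gens (D.rhs i j))

/-- The conjugations hold. -/
noncomputable def conjsOk (D : Data) (gens xs : List ℕ) : Bool :=
  Nat.beq xs.length D.conjs.length && xs.all (memC hw ch) &&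
    (List.range D.conjs.length).all fun c =>
      let uv := D.conjs.getD c ([], [])
      let x := xs.getD c 0
      (List.range uv.1.length).all fun k =>
        Nat.beq (mulP n w x (pword n w gens (uv.1.getD k [])))
          (mulP n w (pword n w gens (uv.2.getD k [])) x)

/-- Each generator moves a tuple out of a set preserved by the later ones. -/
def sepOk (n w : ℕ) (D : Data) (gens : List ℕ) (sep : List (List ℕ × List (List ℕ))) : Bool :=
  (List.range D.n).all fun j =>
    let d := sep.getD j ([], [])
    (d.2.all fun t => t.all fun x => Nat.blt x n) && d.2.contains d.1 &&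
      !(d.2.contains (d.1.map fun x => getW w (gens.getD j (pone n w)) x)) &&
      (List.range D.n).all fun l => !Nat.blt j l ||
        d.2.all fun t => d.2.contains (t.map fun x => getW w (gens.getD l (pone n w)) x)

variable {hw} {ch}

theorem exists_gen (hc : (permRep n w hw).checkChain ch = true) {gens : List ℕ}
    (hg : gensOk hw ch gens = true) :
    ∃ g : ℕ → (permRep n w hw).grp ch, ∀ i, Has hw ch (g i) (gens.getD i (pone n w)) := by
  simp only [gensOk, List.all_eq_true] at hg
  refine ⟨fun i => if h : i < gens.length then el hc (hg _ (List.getElem_mem h)) else 1, fun i => ?_⟩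
  dsimp only
  split_ifs with h
  · rw [List.getD_eq_getElem _ _ h]
    exact el_has hc _
  · rw [List.getD_eq_default _ _ (not_lt.1 h)]
    exact hasOne

theorem strict_of_sepOk {g : ℕ → (permRep n w hw).grp ch} {gens : List ℕ} {D : Data}
    {sep : List (List ℕ × List (List ℕ))} (hg : ∀ i, Has hw ch (g i) (gens.getD i (pone n w)))
    (h : sepOk n w D gens sep = true) :
    ∀ j < D.n, g j ∉ Subgroup.closure (g '' {l | j < l ∧ l < D.n}) := by
  intro j hj hmem
  simp only [sepOk, List.all_eq_true, List.mem_range, Bool.and_eq_true, Bool.or_eq_true,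
    Bool.not_eq_true', List.contains_iff_mem, Nat.blt_eq] at h
  obtain ⟨⟨⟨hlt, hin⟩, hout⟩, hinv⟩ := h j hj
  generalize sep.getD j ([], []) = d at hlt hin hout hinv
  let Q : List (Fin n) → Prop := fun T => T.map Fin.val ∈ d.2
  have happ : ∀ (l : ℕ) (x : Fin n), ((g l : Equiv.Perm (Fin n)) x : ℕ) =
      getW w (gens.getD l (pone n w)) x := fun l x => by
    rw [(hg l).2, decodeP_apply (hg l).1]
  have hmap : ∀ (l : ℕ) (T : List (Fin n)), (T.map (g l : Equiv.Perm (Fin n))).map Fin.val =
      (T.map Fin.val).map fun x => getW w (gens.getD l (pone n w)) x := fun l T => by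
    rw [List.map_map, List.map_map]
    exact List.map_congr_left fun x _ => happ l x
  have hfin : Finite ((permRep n w hw).grp ch) := inferInstance
  have hQ : ∀ x ∈ Subgroup.closure (g '' {l | j < l ∧ l < D.n}), ∀ T, Q T →
      Q (T.map (x : Equiv.Perm (Fin n))) := by
    intro x hx
    rw [← Subgroup.mem_toSubmonoid, Subgroup.closure_toSubmonoid_of_finite] at hx
    induction hx using Submonoid.closure_induction with
    | mem y hy =>
      obtain ⟨l, ⟨hjl, hl⟩, rfl⟩ := hy
      intro T hT
      show _ ∈ d.2
      rw [hmap]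
      exact (hinv l hl).resolve_left (fun hn => absurd hjl (by
        intro hh; rw [← Bool.not_eq_true, Nat.blt_eq] at hn; exact hn hh)) _ hT
    | one => intro T hT; simpa using hT
    | mul a b _ _ ha hb =>
      intro T hT
      have h1 := ha _ (hb T hT)
      rw [List.map_map] at h1
      simpa [Q, Function.comp_def] using h1
  obtain ⟨T, hT⟩ : ∃ T : List (Fin n), T.map Fin.val = d.1 := by
    have hb : ∀ x ∈ d.1, x < n := fun x hx => hlt _ hin x hx
    exact ⟨d.1.pmap Fin.mk hb, by rw [List.map_pmap]; exact List.pmap_eq_self.2 fun a _ => rfl⟩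
  have h2 : (T.map (g j : Equiv.Perm (Fin n))).map Fin.val ∈ d.2 :=
    hQ _ hmem T (by show _ ∈ d.2; rw [hT]; exact hin)
  rw [hmap, hT] at h2
  rw [← List.contains_iff_mem] at h2
  exact Bool.false_ne_true (hout.symm.trans h2)

/-- Data passing the checks kills the `p`-part. -/
theorem exists_part (hc : (permRep n w hw).checkChain ch = true) (D : Data) (hp : D.p.Prime) {α : Type}
    [BEq α] [LawfulBEq α] (V : Vec D.p α) {gens xs : List ℕ} {sep : List (List ℕ × List (List ℕ))}
    {eqs : List (Equat × α)} {combos : List (List ℕ)} (hcert : D.certOk V eqs combos = true)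
    (hgens : gensOk hw ch gens = true) (hrels : relsOk n w D gens = true)
    (hsep : sepOk n w D gens sep = true) (hconjs : conjsOk hw ch D gens xs = true)
    (hidx : ¬ D.p ^ (D.n + 1) ∣ Nat.card ((permRep n w hw).grp ch)) :
    ∃ P : Subgroup ((permRep n w hw).grp ch), ¬ D.p ∣ P.index ∧ Fusion.KillsPart D.p P := by
  obtain ⟨g, hg⟩ := exists_gen hc hgens
  have hel : ∀ l : List ℕ, Has hw ch (Data.el g l) (pword n w gens l) := has_word hg
  have hW : ∀ i < D.n, ∀ j ≤ i, ∀ l ∈ D.word i j, j < l ∧ l < D.n := by
    intro i hi j hj l hl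
    have h := hcert
    simp only [Data.certOk, Bool.and_eq_true, List.all_eq_true, List.mem_range, Nat.blt_eq] at h
    exact h.1.1 i hi j (by omega) l hl
  have hrel : ∀ i < D.n, ∀ j ≤ i, Data.el g (D.lhs i j) = Data.el g (D.rhs i j) := by
    intro i hi j hj
    simp only [relsOk, List.all_eq_true, List.mem_range] at hrels
    exact (hel _).eq (hel _) (hrels i hi j (by omega))
  have hstrict := strict_of_sepOk hg hsep
  refine ⟨Subgroup.closure (g '' {l | l < D.n}), fun hd => hidx ?_,
    PcCollect.killsPart_of_cert _ D hp V g hcert hrel hstrict ?_ hidx⟩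
  · rw [← (Subgroup.closure (g '' {l | l < D.n})).card_mul_index,
      PcCollect.card_series D hp g hW hrel hstrict, pow_succ]
    exact Nat.mul_dvd_mul_left _ hd
  · intro uv huv
    obtain ⟨c, hcl, rfl⟩ := List.getElem_of_mem huv
    simp only [conjsOk, Bool.and_eq_true, Nat.beq_eq, List.all_eq_true, List.mem_range] at hconjs
    obtain ⟨⟨hlen, hxg⟩, hall⟩ := hconjs
    have hxm : memC hw ch (xs.getD c 0) = true := by
      rw [List.getD_eq_getElem _ _ (hlen.symm ▸ hcl)]
      exact hxg _ (List.getElem_mem _)
    refine ⟨el hc hxm, fun k hk => ?_⟩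
    have h := hall c hcl k (by rwa [List.getD_eq_getElem _ _ hcl])
    rw [List.getD_eq_getElem _ _ hcl] at h
    rw [mul_inv_eq_iff_eq_mul]
    exact ((el_has hc hxm).mul (hel _)).eq ((hel _).mul (el_has hc hxm))
      (by rw [h]; exact Nat.beq_refl _)

end Cfsg.Agent.Lib.Schur.PcCollectPerm
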