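import Cfsg.Agent.Lib.Schur.Fusion
import Cfsg.Agent.Lib.Computation.PermCode

/-!
# Killing the 2-part of a multiplier on a polycyclic presentation of a Sylow subgroup

Lifts of the polycyclic generators to an extension with kernel of order two satisfy the relations up to
unknown tails, which are values of linear forms on a binary vector.  Collection gives linear equations on
the tails, and so do conjugations inside the group.  A certificate expresses, by these equations, that the
tails are a coboundary; then the preimage of the Sylow subgroup splits and no stem extension has kernel of order two.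
-/

set_option autoImplicit false

namespace Cfsg.Agent.Lib.Schur.PcTails

open Cfsg.Agent.Lib.Computation (getW)

/-- The index of a pair `j ≤ i`. -/
def pidx (i j : ℕ) : ℕ := i * (i + 1) / 2 + j

/-- The presentation with its collection tables. -/
structure Data where
  n : ℕ
  wa : ℕ
  wl : ℕ
  W : List (List ℕ)
  act : List ℕ
  tails : List ℕ
  phi : List ℕ

namespace Data

variable (D : Data)

/-- The number of tails. -/
def m : ℕ := D.n * (D.n + 1) / 2

/-- The word of a relation. -/
def word (i j : ℕ) : List ℕ := D.W.getD (pidx i j) []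

/-- Left multiplication by a generator. -/
def A (i q : ℕ) : ℕ := getW D.wa (D.act.getD i 0) q

/-- The tails of left multiplication by a generator. -/
def L (i q : ℕ) : ℕ := getW D.wl (D.tails.getD i 0) q

/-- Left multiplication by a word. -/
def lw (w : List ℕ) (q : ℕ) : ℕ × ℕ := w.foldr (fun i r => (r.1 ^^^ D.L i r.2, D.A i r.2)) (0, q)

/-- The generators in a normal form. -/
def bits (q : ℕ) : List ℕ := (List.range' 0 D.n).filter fun i => q.testBit i

/-- The check of one entry of the tables at a normal form whose first generator is `j`. -/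
def entryOk (i j q : ℕ) : Bool :=
  Nat.blt (D.A i q) (2 ^ D.n) && Nat.beq (D.A i q % 2 ^ min i j) 0 &&
    if i < j then Nat.beq (D.L i q) 0 && Nat.beq (D.A i q) (q + 2 ^ i)
    else if i = j then
      let r := D.lw (D.word i i) (q - 2 ^ j)
      Nat.beq (D.L i q) (2 ^ pidx i i ^^^ r.1) && Nat.beq (D.A i q) r.2
    else
      let r := D.lw (D.word i j) (q - 2 ^ j)
      Nat.beq (D.L i q) (2 ^ pidx i j ^^^ r.1) && Nat.beq (D.A i q) (r.2 + 2 ^ j) &&
        Nat.beq (r.2 % 2 ^ (j + 1)) 0

/-- The check of the tables. -/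
def tableOk : Bool :=
  ((List.range D.n).all fun i => (List.range (i + 1)).all fun j =>
      (D.word i j).all fun l => Nat.blt j l && Nat.blt l D.n) &&
    ((List.range D.n).all fun i => Nat.beq (D.L i 0) 0 && Nat.beq (D.A i 0) (2 ^ i)) &&
      (List.range D.n).all fun j => (List.range (2 ^ D.n)).all fun q =>
        !Nat.beq (q % 2 ^ (j + 1)) (2 ^ j) || (List.range D.n).all fun i => D.entryOk i j q

/-- The product of normal forms along a word. -/
def wval (us : List ℕ) : List ℕ → ℕ × ℕ
  | [] => (0, 0)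
  | k :: w => ((D.lw (D.bits (us.getD k 0)) (wval us w).2).1 ^^^ (wval us w).1,
      (D.lw (D.bits (us.getD k 0)) (wval us w).2).2)

end Data

/-- An equation: an overlap, or a relation carried by a conjugation. -/
inductive Equat where
  | overlap (i j q : ℕ)
  | conj (x : ℕ) (us vs : List ℕ) (w : List ℕ)

namespace Data

variable (D : Data)

/-- The linear form of an equation. -/
def eqMask : Equat → ℕ
  | .overlap i j q =>
    let r := D.lw (D.word i j) q
    D.L j q ^^^ D.L i (D.A j q) ^^^ 2 ^ pidx i j ^^^ r.1 ^^^ (if i = j then 0 else D.L j r.2)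
  | .conj _ us vs w => (D.wval us w).1 ^^^ (D.wval vs w).1

/-- The side conditions of an equation. -/
def eqOk : Equat → Bool
  | .overlap i j q =>
    Nat.blt i D.n && Nat.ble j i && Nat.blt q (2 ^ D.n) &&
      let r := D.lw (D.word i j) q
      Nat.beq (D.A i (D.A j q)) (if i = j then r.2 else D.A j r.2)
  | .conj _ us vs w =>
    Nat.beq us.length vs.length && (w.all fun k => Nat.blt k us.length) &&
      (us.all fun u => Nat.blt u (2 ^ D.n)) && (vs.all fun u => Nat.blt u (2 ^ D.n)) &&
      ((List.range us.length).all fun k => Nat.beq (w.count k % 2) 0) &&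
      Nat.beq (D.wval us w).2 0 && Nat.beq (D.wval vs w).2 0

/-- The tail of the corrected generators. -/
def delta (i j : ℕ) : ℕ :=
  (D.word i j).foldr (fun l a => D.phi.getD l 0 ^^^ a) (if i = j then 0 else D.phi.getD i 0)

/-- The check that the equations force a coboundary. -/
def cobOk (eqs : List Equat) (combos : List (List ℕ)) : Bool :=
  eqs.all D.eqOk &&
    (List.range D.n).all fun i => (List.range (i + 1)).all fun j =>
      ((combos.getD (pidx i j) []).all fun e => Nat.blt e eqs.length) &&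
      Nat.beq (2 ^ pidx i j ^^^ D.delta i j)
        ((combos.getD (pidx i j) []).foldr (fun e a => D.eqMask (eqs.getD e (.overlap 0 0 0)) ^^^ a) 0)

section Collection

variable {Γ : Type*} [Group Γ] (G : ℕ → Γ) (Z : ZMod 2 → Γ) (tv : ℕ → ZMod 2)

/-- The element of a normal form. -/
def s (q : ℕ) : Γ := (((List.range' 0 D.n).map fun i => if q.testBit i then G i else 1)).prod

/-- The value of a linear form. -/
def dot (mask : ℕ) : ZMod 2 := ∑ k ∈ Finset.range D.m, if mask.testBit k then tv k else 0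

theorem dot_xor (a b : ℕ) : D.dot tv (a ^^^ b) = D.dot tv a + D.dot tv b := by
  rw [dot, dot, dot, ← Finset.sum_add_distrib]
  refine Finset.sum_congr rfl fun k _ => ?_
  rw [Nat.testBit_xor]
  cases a.testBit k <;> cases b.testBit k <;> simp [CharTwo.add_self_eq_zero]

theorem dot_zero : D.dot tv 0 = 0 := by simp [dot]

theorem dot_two_pow {k : ℕ} (hk : k < D.m) : D.dot tv (2 ^ k) = tv k := by
  rw [dot, Finset.sum_eq_single k]
  · simp
  · intro b _ hb
    simp [Ne.symm hb]
  · intro h
    exact absurd (Finset.mem_range.2 hk) h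

theorem pidx_lt {i j : ℕ} (hi : i < D.n) (hj : j ≤ i) : pidx i j < D.m := by
  have h1 : i * (i + 1) / 2 + (i + 1) = (i + 1) * (i + 2) / 2 := by
    rw [show (i + 1) * (i + 2) = i * (i + 1) + 2 * (i + 1) by ring,
      Nat.add_mul_div_left _ _ (by norm_num : 0 < 2)]
  have h2 : (i + 1) * (i + 2) / 2 ≤ D.n * (D.n + 1) / 2 :=
    Nat.div_le_div_right (Nat.mul_le_mul (by omega) (by omega))
  rw [pidx, m]
  omega

theorem prod_filter (q : ℕ) : ∀ l : List ℕ,
    ((l.filter fun i => q.testBit i).map G).prod =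
      (l.map fun i => if q.testBit i then G i else 1).prod
  | [] => rfl
  | i :: l => by
    cases h : q.testBit i <;> simp [h, prod_filter q l]

theorem prod_bits (q : ℕ) : ((D.bits q).map G).prod = D.s G q := prod_filter G q _

theorem s_zero : D.s G 0 = 1 := by
  rw [s, List.prod_eq_one]
  intro x hx
  obtain ⟨i, -, rfl⟩ := List.mem_map.1 hx
  simp

theorem s_add {i q : ℕ} (hi : i < D.n) (hq : q % 2 ^ (i + 1) = 0) :
    D.s G (q + 2 ^ i) = G i * D.s G q := by
  have hlow : ∀ l < i + 1, q.testBit l = false := fun l hl => by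
    have := congrArg (·.testBit l) hq
    simpa [Nat.testBit_mod_two_pow, hl] using this
  have hbit : ∀ l, (q + 2 ^ i).testBit l = (q.testBit l || decide (i = l)) := fun l => by
    obtain ⟨c, rfl⟩ : 2 ^ (i + 1) ∣ q := Nat.dvd_of_mod_eq_zero hq
    rw [Nat.two_pow_add_eq_or_of_lt (Nat.pow_lt_pow_right (by norm_num) (Nat.lt_succ_self i)),
      Nat.testBit_or, Nat.testBit_two_pow]
  obtain ⟨b, hb⟩ : ∃ b, D.n = i + (b + 1) := ⟨D.n - i - 1, by omega⟩
  have hsplit : List.range' 0 D.n = List.range' 0 i ++ i :: List.range' (i + 1) b := by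
    rw [hb, ← List.range'_succ]
    have := List.range'_append_1 (s := 0) (m := i) (n := b + 1)
    simpa using this.symm
  have hone : ∀ p : ℕ, (∀ l < i, p.testBit l = false) →
      ((List.range' 0 i).map fun l => if p.testBit l then G l else 1).prod = 1 := by
    intro p hp
    rw [List.prod_eq_one]
    intro x hx
    obtain ⟨l, hl, rfl⟩ := List.mem_map.1 hx
    rw [List.mem_range'_1] at hl
    simp [hp l (by omega)]
  have hhigh : ((List.range' (i + 1) b).map fun l => if (q + 2 ^ i).testBit l then G l else 1) =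
      ((List.range' (i + 1) b).map fun l => if q.testBit l then G l else 1) := by
    refine List.map_congr_left fun l hl => ?_
    rw [List.mem_range'_1] at hl
    rw [hbit l, decide_eq_false (by omega), Bool.or_false]
  rw [s, s, hsplit, List.map_append, List.prod_append, List.map_cons, List.prod_cons,
    List.map_append, List.prod_append, List.map_cons, List.prod_cons, hhigh,
    hone _ (fun l hl => by rw [hbit l, hlow l (by omega), decide_eq_false (by omega), Bool.or_false]),
    hone _ (fun l hl => hlow l (by omega)), hbit i, hlow i (by omega)]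
  simp

variable (hZ : ∀ a b, Z (a + b) = Z a * Z b) (hZc : ∀ a (g : Γ), g * Z a = Z a * g)
  (hrel : ∀ i < D.n, ∀ j ≤ i,
    G i * G j = Z (tv (pidx i j)) * ((if i = j then 1 else G j) * ((D.word i j).map G).prod))
  (ht : D.tableOk = true)

include hZ in
theorem Z_zero : Z 0 = 1 := by
  have h := hZ 0 0
  rw [add_zero, left_eq_mul] at h
  exact h

include hZ hZc in
theorem lw_aux (w : List ℕ) (q : ℕ) (P : ℕ → Prop) (hq : P q)
    (hstep : ∀ i ∈ w, ∀ p, P p → G i * D.s G p = Z (D.dot tv (D.L i p)) * D.s G (D.A i p) ∧ P (D.A i p)) :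
    (w.map G).prod * D.s G q = Z (D.dot tv (D.lw w q).1) * D.s G (D.lw w q).2 ∧ P (D.lw w q).2 := by
  induction w with
  | nil =>
    refine ⟨?_, hq⟩
    show 1 * D.s G q = Z (D.dot tv 0) * D.s G q
    rw [dot_zero, Z_zero Z hZ]
  | cons i w ih =>
    obtain ⟨h1, h2⟩ := ih fun l hl => hstep l (List.mem_cons_of_mem _ hl)
    obtain ⟨h3, h4⟩ := hstep i List.mem_cons_self _ h2
    refine ⟨?_, h4⟩
    show G i * (w.map G).prod * D.s G q =
      Z (D.dot tv ((D.lw w q).1 ^^^ D.L i (D.lw w q).2)) * D.s G (D.A i (D.lw w q).2)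
    rw [dot_xor, hZ, mul_assoc, h1, ← mul_assoc, hZc, mul_assoc, h3, mul_assoc]

include hZ hZc hrel ht in
theorem step : ∀ d j : ℕ, D.n ≤ j + d → ∀ q < 2 ^ D.n, q % 2 ^ j = 0 → ∀ i < D.n,
    G i * D.s G q = Z (D.dot tv (D.L i q)) * D.s G (D.A i q) ∧ D.A i q < 2 ^ D.n ∧
      D.A i q % 2 ^ min i j = 0 := by
  have h := ht
  simp only [tableOk, Bool.and_eq_true, List.all_eq_true, List.mem_range, Nat.blt_eq, Nat.beq_eq,
    Bool.or_eq_true, Bool.not_eq_true'] at h
  obtain ⟨⟨hW, hzero⟩, hent⟩ := h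
  have hz : ∀ j, ∀ i < D.n, G i * D.s G 0 = Z (D.dot tv (D.L i 0)) * D.s G (D.A i 0) ∧
      D.A i 0 < 2 ^ D.n ∧ D.A i 0 % 2 ^ min i j = 0 := by
    intro j i hi
    rw [(hzero i hi).1, (hzero i hi).2, dot_zero, Z_zero Z hZ, one_mul]
    refine ⟨?_, Nat.pow_lt_pow_right (by norm_num) hi,
      Nat.mod_eq_zero_of_dvd (pow_dvd_pow 2 (min_le_left _ _))⟩
    have := D.s_add G hi (q := 0) (Nat.zero_mod _)
    rw [zero_add] at this
    exact this.symm
  intro d
  induction d with
  | zero =>
    intro j hj q hq hqj i hi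
    rw [Nat.add_zero] at hj
    have : q = 0 := by
      rw [← Nat.mod_eq_of_lt (lt_of_lt_of_le hq (Nat.pow_le_pow_right (by norm_num) hj)), hqj]
    subst this
    exact hz j i hi
  | succ d ih =>
    intro j hj q hq hqj i hi
    by_cases hjn : D.n ≤ j + d
    · exact ih j hjn q hq hqj i hi
    have hjn' : j < D.n := by omega
    have hup := ih (j + 1) (by omega)
    have hqj' : q % 2 ^ (j + 1) = 0 ∨ q % 2 ^ (j + 1) = 2 ^ j := by
      have h1 : q % 2 ^ (j + 1) % 2 ^ j = 0 := by
        rw [Nat.mod_mod_of_dvd _ (pow_dvd_pow 2 (Nat.le_succ j))]; exact hqj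
      have h2 := Nat.mod_lt q (Nat.two_pow_pos (j + 1))
      obtain ⟨c, hc⟩ := Nat.dvd_of_mod_eq_zero h1
      rw [pow_succ] at h2 hc ⊢
      have : c < 2 := by
        rw [hc] at h2
        exact Nat.lt_of_mul_lt_mul_left h2
      interval_cases c
      · exact Or.inl (by simpa using hc)
      · exact Or.inr (by simpa using hc)
    rcases hqj' with hzero' | hone
    · obtain ⟨e1, e2, e3⟩ := hup q hq hzero' i hi
      refine ⟨e1, e2, Nat.mod_eq_zero_of_dvd ((pow_dvd_pow 2 ?_).trans (Nat.dvd_of_mod_eq_zero e3))⟩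
      omega
    · have he := (hent j hjn' q hq).resolve_left (by simp [hone])
      have he := he i hi
      simp only [entryOk, Bool.and_eq_true, Nat.blt_eq, Nat.beq_eq] at he
      obtain ⟨⟨hlt, hmod⟩, hcase⟩ := he
      refine ⟨?_, hlt, hmod⟩
      have hge : 2 ^ j ≤ q := hone ▸ Nat.mod_le _ _
      set q1 := q - 2 ^ j with hq1
      have hq1' : q1 % 2 ^ (j + 1) = 0 := by
        have := Nat.div_add_mod q (2 ^ (j + 1))
        rw [hone] at this
        rw [show q1 = 2 ^ (j + 1) * (q / 2 ^ (j + 1)) by omega, Nat.mul_mod_right]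
      have hsq : D.s G q = G j * D.s G q1 := by
        rw [← D.s_add G hjn' hq1']
        congr 1
        omega
      have hlw : ∀ j' ≤ i, i < D.n → j' = j → (((D.word i j').map G).prod * D.s G q1 =
          Z (D.dot tv (D.lw (D.word i j') q1).1) * D.s G (D.lw (D.word i j') q1).2 ∧
          ((D.lw (D.word i j') q1).2 < 2 ^ D.n ∧ (D.lw (D.word i j') q1).2 % 2 ^ (j + 1) = 0)) := by
        rintro j' hj' hi' rfl
        refine lw_aux D G Z tv hZ hZc _ _ (fun p => p < 2 ^ D.n ∧ p % 2 ^ (j' + 1) = 0)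
          ⟨by omega, hq1'⟩ fun l hl p hp => ?_
        obtain ⟨hjl, hln⟩ := hW i hi' j' (by omega) l hl
        obtain ⟨e1, e2, e3⟩ := hup p hp.1 hp.2 l hln
        refine ⟨e1, e2, Nat.mod_eq_zero_of_dvd ((pow_dvd_pow 2 ?_).trans (Nat.dvd_of_mod_eq_zero e3))⟩
        omega
      rcases lt_trichotomy i j with hij | rfl | hij
      · rw [if_pos hij, Bool.and_eq_true, Nat.beq_eq, Nat.beq_eq] at hcase
        rw [hcase.1, hcase.2, dot_zero, Z_zero Z hZ, one_mul, D.s_add G hi]
        exact Nat.mod_eq_zero_of_dvd ((pow_dvd_pow 2 hij).trans (Nat.dvd_of_mod_eq_zero hqj))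
      · rw [if_neg (lt_irrefl i), if_pos rfl, Bool.and_eq_true, Nat.beq_eq, Nat.beq_eq] at hcase
        have hr := hrel i hi i le_rfl
        rw [if_pos rfl, one_mul] at hr
        rw [hsq, ← mul_assoc, hr, mul_assoc, (hlw i le_rfl hi rfl).1, ← mul_assoc, ← hZ, hcase.1,
          hcase.2, dot_xor, dot_two_pow D tv (D.pidx_lt hi le_rfl)]
      · rw [if_neg (by omega), if_neg (by omega), Bool.and_eq_true, Bool.and_eq_true, Nat.beq_eq,
          Nat.beq_eq, Nat.beq_eq] at hcase
        have hr := hrel i hi j hij.le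
        rw [if_neg (by omega)] at hr
        rw [hsq, ← mul_assoc, hr, mul_assoc, mul_assoc, (hlw j hij.le hi rfl).1, ← mul_assoc (G j),
          hZc, mul_assoc, ← D.s_add G hjn' hcase.2, ← mul_assoc, ← hZ, hcase.1.1, hcase.1.2, dot_xor,
          dot_two_pow D tv (D.pidx_lt hi hij.le)]

include hZ hZc hrel ht in
theorem gen_spec {i q : ℕ} (hi : i < D.n) (hq : q < 2 ^ D.n) :
    G i * D.s G q = Z (D.dot tv (D.L i q)) * D.s G (D.A i q) ∧ D.A i q < 2 ^ D.n :=
  have h := step D G Z tv hZ hZc hrel ht D.n 0 (by omega) q hq (Nat.mod_one q) i hi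
  ⟨h.1, h.2.1⟩

include hZ hZc hrel ht in
theorem lw_spec {w : List ℕ} (hw : ∀ i ∈ w, i < D.n) {q : ℕ} (hq : q < 2 ^ D.n) :
    (w.map G).prod * D.s G q = Z (D.dot tv (D.lw w q).1) * D.s G (D.lw w q).2 ∧
      (D.lw w q).2 < 2 ^ D.n :=
  lw_aux D G Z tv hZ hZc w q _ hq fun _ hi _ hp => gen_spec D G Z tv hZ hZc hrel ht (hw _ hi) hp

include hZ hZc hrel ht in
theorem mul_spec (u : ℕ) {q : ℕ} (hq : q < 2 ^ D.n) :
    D.s G u * D.s G q = Z (D.dot tv (D.lw (D.bits u) q).1) * D.s G (D.lw (D.bits u) q).2 ∧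
      (D.lw (D.bits u) q).2 < 2 ^ D.n := by
  rw [← D.prod_bits G u]
  refine lw_spec D G Z tv hZ hZc hrel ht (fun i hi => ?_) hq
  simp only [bits, List.mem_filter, List.mem_range'_1] at hi
  omega

include hZ hZc hrel ht in
theorem wval_spec (us : List ℕ) : ∀ w : List ℕ,
    (w.map fun k => D.s G (us.getD k 0)).prod =
      Z (D.dot tv (D.wval us w).1) * D.s G (D.wval us w).2 ∧ (D.wval us w).2 < 2 ^ D.n
  | [] => ⟨by simp [wval, dot_zero, Z_zero Z hZ, s_zero], Nat.two_pow_pos _⟩
  | k :: w => by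
    obtain ⟨h1, h2⟩ := wval_spec us w
    obtain ⟨h3, h4⟩ := mul_spec D G Z tv hZ hZc hrel ht (us.getD k 0) h2
    refine ⟨?_, h4⟩
    rw [List.map_cons, List.prod_cons, h1, ← mul_assoc, hZc, mul_assoc, h3, ← mul_assoc, ← hZ]
    show _ = Z (D.dot tv (_ ^^^ _)) * _
    rw [dot_xor, add_comm]
    rfl

/-- A conjugation equation holds in the extension. -/
def ConjOk : Equat → Prop
  | .overlap _ _ _ => True
  | .conj _ us vs _ => ∃ X : Γ, ∀ k < us.length,
      ∃ c : ZMod 2, X * D.s G (us.getD k 0) * X⁻¹ = Z c * D.s G (vs.getD k 0)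

include hZ hZc hrel ht in
theorem eq_spec (hinj : Function.Injective Z) : ∀ e : Equat, D.eqOk e = true → D.ConjOk G Z e →
    D.dot tv (D.eqMask e) = 0
  | .overlap i j q, he, _ => by
    simp only [eqOk, Bool.and_eq_true, Nat.blt_eq, Nat.ble_eq, Nat.beq_eq] at he
    obtain ⟨⟨⟨hi, hj⟩, hq⟩, hA⟩ := he
    have hjn : j < D.n := by omega
    obtain ⟨h1, h1'⟩ := gen_spec D G Z tv hZ hZc hrel ht hjn hq
    obtain ⟨h2, -⟩ := gen_spec D G Z tv hZ hZc hrel ht hi h1'
    have hW : ∀ l ∈ D.word i j, l < D.n := by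
      have h := ht
      simp only [tableOk, Bool.and_eq_true, List.all_eq_true, List.mem_range, Nat.blt_eq] at h
      exact fun l hl => (h.1.1 i hi j (by omega) l hl).2
    obtain ⟨h3, h3'⟩ := lw_spec D G Z tv hZ hZc hrel ht hW hq
    have ha : G i * G j * D.s G q =
        Z (D.dot tv (D.L j q) + D.dot tv (D.L i (D.A j q))) * D.s G (D.A i (D.A j q)) := by
      rw [mul_assoc, h1, ← mul_assoc, hZc, mul_assoc, h2, ← mul_assoc, ← hZ]
    have hb : G i * G j * D.s G q =
        Z (D.dot tv (2 ^ pidx i j) + D.dot tv (D.lw (D.word i j) q).1 +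
          D.dot tv (if i = j then 0 else D.L j (D.lw (D.word i j) q).2)) *
          D.s G (if i = j then (D.lw (D.word i j) q).2 else D.A j (D.lw (D.word i j) q).2) := by
      rw [hrel i hi j hj, dot_two_pow D tv (D.pidx_lt hi hj)]
      split_ifs with hij
      · rw [one_mul, mul_assoc, h3, ← mul_assoc, ← hZ, dot_zero, add_zero]
      · obtain ⟨h4, -⟩ := gen_spec D G Z tv hZ hZc hrel ht hjn h3'
        rw [mul_assoc, mul_assoc, h3, ← mul_assoc (G j), hZc, mul_assoc, h4, ← mul_assoc,
          ← mul_assoc, ← hZ, ← hZ, add_assoc]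
    rw [ha, hA] at hb
    have hc := hinj (mul_right_cancel hb)
    simp only [eqMask, dot_xor]
    rw [hc]
    generalize D.dot tv (2 ^ pidx i j) = a
    generalize D.dot tv (D.lw (D.word i j) q).1 = b
    generalize D.dot tv (if i = j then 0 else D.L j (D.lw (D.word i j) q).2) = c
    revert a b c
    decide
  | .conj x us vs w, he, hX => by
    simp only [eqOk, Bool.and_eq_true, Nat.beq_eq, List.all_eq_true, Nat.blt_eq, List.mem_range] at he
    obtain ⟨⟨⟨⟨⟨⟨-, hw⟩, -⟩, -⟩, hcount⟩, hu0⟩, hv0⟩ := he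
    obtain ⟨X, hX⟩ := hX
    choose! c hc using hX
    obtain ⟨h1, -⟩ := wval_spec D G Z tv hZ hZc hrel ht us w
    obtain ⟨h2, -⟩ := wval_spec D G Z tv hZ hZc hrel ht vs w
    rw [hu0, s_zero, mul_one] at h1
    rw [hv0, s_zero, mul_one] at h2
    have key : ∀ l : List ℕ, (∀ k ∈ l, k < us.length) →
        X * (l.map fun k => D.s G (us.getD k 0)).prod * X⁻¹ =
          Z (l.map c).sum * (l.map fun k => D.s G (vs.getD k 0)).prod := by
      intro l hl
      induction l with
      | nil => simp [Z_zero Z hZ]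
      | cons k l ih =>
        rw [List.map_cons, List.prod_cons, List.map_cons, List.sum_cons, List.map_cons, List.prod_cons, hZ,
          ← conj_mul, hc k (hl k List.mem_cons_self), ih fun a ha => hl a (List.mem_cons_of_mem _ ha)]
        rw [mul_assoc (Z (c k)), ← mul_assoc (D.s G _), hZc]
        simp only [mul_assoc]
    have hsum : (w.map c).sum = 0 := by
      rw [Finset.sum_list_map_count]
      refine Finset.sum_eq_zero fun k hk => ?_
      have h2 := hcount k (hw k (List.mem_toFinset.1 hk))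
      rw [nsmul_eq_mul, ← ZMod.natCast_mod, h2, Nat.cast_zero, zero_mul]
    have h := key w hw
    rw [h1, h2, hsum, Z_zero Z hZ, one_mul, hZc, mul_inv_cancel_right] at h
    simp only [eqMask, dot_xor]
    rw [hinj h, CharTwo.add_self_eq_zero]

include hZ hZc hrel ht in
theorem exists_corrected (hinj : Function.Injective Z) {eqs : List Equat} {combos : List (List ℕ)}
    (hcob : D.cobOk eqs combos = true) (hconj : ∀ e ∈ eqs, D.ConjOk G Z e) :
    ∀ i < D.n, ∀ j ≤ i,
      Z (D.dot tv (D.phi.getD i 0)) * G i * (Z (D.dot tv (D.phi.getD j 0)) * G j) =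
        (if i = j then 1 else Z (D.dot tv (D.phi.getD j 0)) * G j) *
          ((D.word i j).map fun l => Z (D.dot tv (D.phi.getD l 0)) * G l).prod := by
  intro i hi j hj
  simp only [cobOk, Bool.and_eq_true, List.all_eq_true, List.mem_range, Nat.blt_eq, Nat.beq_eq] at hcob
  obtain ⟨hok, hc⟩ := hcob
  obtain ⟨hlt, hmask⟩ := hc i hi j (by omega)
  have hsum : D.dot tv ((combos.getD (pidx i j) []).foldr
      (fun e a => D.eqMask (eqs.getD e (.overlap 0 0 0)) ^^^ a) 0) = 0 := by
    generalize combos.getD (pidx i j) [] = l at hlt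
    induction l with
    | nil => exact D.dot_zero tv
    | cons e l ih =>
      rw [List.foldr_cons, dot_xor, ih fun a ha => hlt a (List.mem_cons_of_mem _ ha), add_zero]
      have he := hlt e List.mem_cons_self
      have hm : eqs.getD e (.overlap 0 0 0) ∈ eqs := by
        rw [List.getD_eq_getElem _ _ he]; exact List.getElem_mem he
      exact eq_spec D G Z tv hZ hZc hrel ht hinj _ (hok _ hm) (hconj _ hm)
  rw [← hmask, dot_xor, dot_two_pow D tv (D.pidx_lt hi hj)] at hsum
  have hdelta : D.dot tv (D.delta i j) = ((D.word i j).map fun l => D.dot tv (D.phi.getD l 0)).sum +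
      (if i = j then 0 else D.dot tv (D.phi.getD i 0)) := by
    rw [delta]
    generalize D.word i j = l
    induction l with
    | nil => split_ifs <;> simp [dot_zero]
    | cons a l ih => rw [List.foldr_cons, dot_xor, ih, List.map_cons, List.sum_cons, add_assoc]
  rw [hdelta] at hsum
  have hprod : ∀ l : List ℕ, (l.map fun a => Z (D.dot tv (D.phi.getD a 0)) * G a).prod =
      Z (l.map fun a => D.dot tv (D.phi.getD a 0)).sum * (l.map G).prod := by
    intro l
    induction l with
    | nil => simp [Z_zero Z hZ]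
    | cons a l ih =>
      simp only [List.map_cons, List.prod_cons, List.sum_cons, hZ, ih]
      rw [mul_assoc, ← mul_assoc (G a), hZc]
      simp only [mul_assoc]
  rw [hprod, mul_assoc, ← mul_assoc (G i), hZc, mul_assoc, hrel i hi j hj]
  split_ifs with hij
  · subst hij
    rw [if_pos rfl, add_zero, CharTwo.add_eq_zero] at hsum
    rw [one_mul, one_mul, ← mul_assoc, ← mul_assoc, ← hZ, ← hZ, CharTwo.add_self_eq_zero, zero_add,
      hsum]
  · rw [if_neg hij] at hsum
    rw [mul_assoc (Z (D.dot tv (D.phi.getD j 0))) (G j), ← mul_assoc (G j) (Z _), hZc]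
    simp only [← mul_assoc]
    rw [← hZ, ← hZ, ← hZ]
    congr 3
    generalize tv (pidx i j) = a at hsum ⊢
    generalize D.dot tv (D.phi.getD i 0) = b at hsum ⊢
    generalize D.dot tv (D.phi.getD j 0) = c at hsum ⊢
    generalize ((D.word i j).map fun l => D.dot tv (D.phi.getD l 0)).sum = d at hsum ⊢
    revert a b c d
    decide

end Collection

end Data

/-! ### stem extensions with kernel of order two -/

universe u

open Subgroup
open scoped commutatorElement

/-- A stem extension with non-trivial kernel of even order has a quotient with kernel of order two. -/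
theorem killsPart_two {G : Type u} [Group G] (P : Subgroup G)
    (h : ∀ (Γ : Type u) [Group Γ] [Finite Γ] (σ : Γ →* G), Cfsg.IsStemExtension σ →
      Nat.card σ.ker = 2 → False) : Fusion.KillsPart 2 P := by
  intro Γ _ _ σ hσ z hz hz2 _
  by_contra hne
  classical
  let sq : σ.ker → σ.ker := fun a => a * a
  have hcomm : ∀ a b : σ.ker, a * b = b * a := fun a b =>
    Subtype.ext (mem_center_iff.1 (hσ.2.1 b.2) a)
  have hnot : ¬ Function.Surjective sq := fun hs => by
    have hi := (Finite.injective_iff_surjective.2 hs)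
    have : (⟨z, hz⟩ : σ.ker) = 1 := hi (a₁ := ⟨z, hz⟩) (a₂ := 1) (by
      apply Subtype.ext
      show z * z = 1 * 1
      rw [← pow_two, hz2, one_mul])
    exact hne (congrArg Subtype.val this)
  let R : Subgroup σ.ker :=
    { carrier := Set.range sq
      one_mem' := ⟨1, one_mul 1⟩
      mul_mem' := by
        rintro _ _ ⟨a, rfl⟩ ⟨b, rfl⟩
        refine ⟨a * b, ?_⟩
        show a * b * (a * b) = a * a * (b * b)
        rw [mul_assoc, ← mul_assoc b, hcomm b a]
        simp only [mul_assoc]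
      inv_mem' := by
        rintro _ ⟨a, rfl⟩
        exact ⟨a⁻¹, (mul_inv_rev a a).symm⟩ }
  have hR : R ≠ ⊤ := fun he => hnot fun a => (he.ge (mem_top a) : a ∈ R)
  obtain ⟨M, hM, hRM⟩ := (eq_top_or_exists_le_coatom R).resolve_left hR
  obtain ⟨a, ha⟩ : ∃ a, a ∉ M := by
    by_contra hh
    exact hM.1 (eq_top_iff.2 fun x _ => not_not.1 fun hx => hh ⟨x, hx⟩)
  have htwo : M.index = 2 := by
    rw [Subgroup.index_eq_two_iff]
    refine ⟨a, fun b => ?_⟩
    have hsq : ∀ c : σ.ker, c * c ∈ M := fun c => hRM ⟨c, rfl⟩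
    let M' : Subgroup σ.ker :=
      { carrier := {c | c ∈ M ∨ c * a ∈ M}
        one_mem' := Or.inl (one_mem M)
        mul_mem' := by
          rintro c d (hc | hc) (hd | hd)
          · exact Or.inl (mul_mem hc hd)
          · exact Or.inr (by rw [mul_assoc]; exact mul_mem hc hd)
          · exact Or.inr (by rw [mul_assoc, hcomm d a, ← mul_assoc]; exact mul_mem hc hd)
          · refine Or.inl ?_
            have h2 := M.mul_mem (M.mul_mem hc hd) (M.inv_mem (hsq a))
            have he : c * d = c * a * (d * a) * (a * a)⁻¹ := by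
              rw [hcomm c a, mul_assoc a c, ← mul_assoc c d a, hcomm (c * d) a, ← mul_assoc,
                hcomm (a * a) (c * d), mul_inv_cancel_right]
            rw [he]; exact h2
        inv_mem' := by
          rintro c (hc | hc)
          · exact Or.inl (inv_mem hc)
          · refine Or.inr ?_
            have h2 := M.mul_mem hc (M.inv_mem (hsq c))
            have he : c⁻¹ * a = c * a * (c * c)⁻¹ := by
              rw [mul_inv_rev, hcomm c a, mul_assoc, mul_inv_cancel_left, hcomm]
            rw [he]; exact h2 }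
    have htop : M' = ⊤ := hM.2 M' (lt_of_le_of_ne (fun c hc => Or.inl hc) fun he =>
      ha (he.ge (Or.inr (hsq a)) : a ∈ M))
    rcases (htop.ge (mem_top b) : b ∈ M') with hb | hb
    · refine Or.inr ⟨hb, fun hba => ha ?_⟩
      simpa using M.mul_mem (M.inv_mem hb) hba
    · refine Or.inl ⟨hb, fun hb' => ha ?_⟩
      simpa using M.mul_mem (M.inv_mem hb') hb
  let K0 : Subgroup Γ := M.map σ.ker.subtype
  have hK0 : K0 ≤ σ.ker := by rintro _ ⟨c, -, rfl⟩; exact c.2
  have : K0.Normal := ⟨fun c hc g => by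
    rwa [mem_center_iff.1 (hσ.2.1 (hK0 hc)) g, mul_inv_cancel_right]⟩
  let τ : Γ ⧸ K0 →* G := QuotientGroup.lift K0 σ hK0
  have hker : τ.ker = σ.ker.map (QuotientGroup.mk' K0) := QuotientGroup.ker_lift _ _ _
  refine h (Γ ⧸ K0) τ ⟨?_, ?_, ?_⟩ ?_
  · intro g
    obtain ⟨x, rfl⟩ := hσ.1 g
    exact ⟨x, rfl⟩
  · rw [hker]
    rintro _ ⟨c, hc, rfl⟩
    rw [mem_center_iff]
    intro g
    obtain ⟨g, rfl⟩ := QuotientGroup.mk_surjective g
    exact congrArg (QuotientGroup.mk' K0) (mem_center_iff.1 (hσ.2.1 hc) g)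
  · rw [hker]
    refine (Subgroup.map_mono hσ.2.2).trans ?_
    rw [commutator_def, Subgroup.map_commutator, commutator_def]
    exact Subgroup.commutator_mono le_top le_top
  · have hrange : σ.ker.map (QuotientGroup.mk' K0) =
        ((QuotientGroup.mk' K0).comp σ.ker.subtype).range := by
      rw [MonoidHom.range_eq_map, ← Subgroup.map_map, ← MonoidHom.range_eq_map, Subgroup.range_subtype]
    rw [hker, hrange]
    rw [← Subgroup.index_ker, ← htwo]
    congr 1
    ext c
    rw [MonoidHom.mem_ker, MonoidHom.comp_apply, ← MonoidHom.mem_ker, QuotientGroup.ker_mk']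
    constructor
    · rintro ⟨d, hd, hdc⟩
      exact (Subtype.ext hdc : d = c) ▸ hd
    · intro hc
      exact ⟨c, hc, rfl⟩

variable {G : Type u} [Group G]

/-- The certificate kills the two-part of the multiplier. -/
theorem killsPart_of_cert (P : Subgroup G) (D : Data) (g : ℕ → G) {eqs : List Equat}
    {combos : List (List ℕ)} (ht : D.tableOk = true) (hcob : D.cobOk eqs combos = true)
    (hrel : ∀ i < D.n, ∀ j ≤ i, g i * g j = (if i = j then 1 else g j) * ((D.word i j).map g).prod)
    (hinj : ∀ p < 2 ^ D.n, ∀ q < 2 ^ D.n, D.s g p = D.s g q → p = q)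
    (hconj : ∀ x us vs w, Equat.conj x us vs w ∈ eqs → ∃ y : G,
      ∀ k < us.length, y * D.s g (us.getD k 0) * y⁻¹ = D.s g (vs.getD k 0))
    (hidx : ¬ 2 ^ (D.n + 1) ∣ Nat.card G) : Fusion.KillsPart 2 P := by
  refine killsPart_two P fun Γ _ _ σ hσ hcard => ?_
  obtain ⟨a, b, hne, hab⟩ := Nat.card_eq_two_iff.1 hcard
  obtain ⟨z, hz1⟩ : ∃ z : σ.ker, z ≠ 1 := by
    rcases eq_or_ne a 1 with rfl | h1
    · exact ⟨b, hne.symm⟩
    · exact ⟨a, h1⟩
  have hall : ∀ c : σ.ker, c = 1 ∨ c = z := by
    intro c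
    have hmem : ∀ e : σ.ker, e = a ∨ e = b := fun e => by
      have := (hab.ge (Set.mem_univ e)); simpa using this
    rcases hmem 1 with h1 | h1 <;> rcases hmem z with h2 | h2 <;> rcases hmem c with h3 | h3 <;>
      subst_vars <;> first | exact Or.inl rfl | exact Or.inr rfl | exact absurd rfl hz1
  have hz2 : (z : Γ) * z = 1 := by
    rcases hall (z * z) with h | h
    · exact congrArg Subtype.val h
    · exact absurd (mul_eq_left.1 h) hz1
  have hzne : (z : Γ) ≠ 1 := fun h => hz1 (Subtype.ext h)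
  let Z : ZMod 2 → Γ := fun t => if t = 0 then 1 else z
  have hZ : ∀ s t, Z (s + t) = Z s * Z t := by
    intro s t
    rcases (show ∀ u : ZMod 2, u = 0 ∨ u = 1 by decide) s with rfl | rfl <;>
      rcases (show ∀ u : ZMod 2, u = 0 ∨ u = 1 by decide) t with rfl | rfl <;>
      simp [Z, hz2, CharTwo.add_self_eq_zero]
  have hZc : ∀ t (x : Γ), x * Z t = Z t * x := by
    intro t x
    simp only [Z]
    split_ifs
    · simp
    · exact mem_center_iff.1 (hσ.2.1 z.2) x
  have hZinj : Function.Injective Z := by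
    intro s t
    rcases (show ∀ u : ZMod 2, u = 0 ∨ u = 1 by decide) s with rfl | rfl <;>
      rcases (show ∀ u : ZMod 2, u = 0 ∨ u = 1 by decide) t with rfl | rfl <;>
      simp [Z, hzne, Ne.symm hzne]
  have hZk : ∀ t, σ (Z t) = 1 := fun t => by
    simp only [Z]
    split_ifs
    · exact map_one σ
    · exact z.2
  have hexZ : ∀ x : Γ, σ x = 1 → ∃ t, x = Z t := fun x hx => by
    rcases hall ⟨x, hx⟩ with h | h
    · exact ⟨0, by simpa [Z] using congrArg Subtype.val h⟩
    · exact ⟨1, by simpa [Z] using congrArg Subtype.val h⟩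
  choose L hL using hσ.1
  let G₀ : ℕ → Γ := fun i => L (g i)
  have hσprod : ∀ (f : ℕ → Γ) (f' : ℕ → G), (∀ i, σ (f i) = f' i) → ∀ l : List ℕ,
      σ ((l.map f).prod) = (l.map f').prod := fun f f' hf l => by
    rw [map_list_prod, List.map_map]
    exact congrArg List.prod (List.map_congr_left fun i _ => hf i)
  have hσs : ∀ (f : ℕ → Γ), (∀ i, σ (f i) = g i) → ∀ q, σ (D.s f q) = D.s g q := fun f hf q => by
    rw [← Data.prod_bits, ← Data.prod_bits, hσprod f g hf]
  have htv : ∀ k, ∃ t, ∀ i < D.n, ∀ j ≤ i, pidx i j = k →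
      G₀ i * G₀ j = Z t * ((if i = j then 1 else G₀ j) * ((D.word i j).map G₀).prod) := by
    intro k
    by_cases hk : ∃ i < D.n, ∃ j ≤ i, pidx i j = k
    · obtain ⟨i, hi, j, hj, rfl⟩ := hk
      obtain ⟨t, ht'⟩ := hexZ (G₀ i * G₀ j * ((if i = j then 1 else G₀ j) * ((D.word i j).map G₀).prod)⁻¹) (by
        rw [map_mul, map_inv, mul_inv_eq_one, map_mul, map_mul, hσprod G₀ g (fun l => hL _), hL, hL,
          hrel i hi j hj]
        split_ifs
        · rw [map_one]
        · exact congrArg (· * _) (hL _).symm)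
      refine ⟨t, fun i' _ j' hj' he => ?_⟩
      have hii : i' = i := by
        simp only [pidx] at he
        by_contra hne'
        rcases lt_or_gt_of_ne hne' with h1 | h1
        · have : i' * (i' + 1) / 2 + (i' + 1) ≤ i * (i + 1) / 2 := by
            rw [← Nat.add_mul_div_left _ _ (by norm_num : 0 < 2)]
            refine Nat.div_le_div_right ?_
            have := Nat.mul_le_mul (Nat.succ_le_of_lt h1) (Nat.add_le_add_right (Nat.succ_le_of_lt h1) 1)
            nlinarith
          omega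
        · have : i * (i + 1) / 2 + (i + 1) ≤ i' * (i' + 1) / 2 := by
            rw [← Nat.add_mul_div_left _ _ (by norm_num : 0 < 2)]
            refine Nat.div_le_div_right ?_
            have := Nat.mul_le_mul (Nat.succ_le_of_lt h1) (Nat.add_le_add_right (Nat.succ_le_of_lt h1) 1)
            nlinarith
          omega
      subst hii
      obtain rfl : j' = j := by simp only [pidx] at he; omega
      exact mul_inv_eq_iff_eq_mul.1 ht'
    · exact ⟨0, fun i hi j hj he => absurd ⟨i, hi, j, hj, he⟩ hk⟩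
  choose tv htv using htv
  have hrel₀ : ∀ i < D.n, ∀ j ≤ i,
      G₀ i * G₀ j = Z (tv (pidx i j)) * ((if i = j then 1 else G₀ j) * ((D.word i j).map G₀).prod) :=
    fun i hi j hj => htv _ i hi j hj rfl
  have hconj₀ : ∀ e ∈ eqs, D.ConjOk G₀ Z e := by
    rintro (⟨i, j, q⟩ | ⟨x, us, vs, w⟩) he
    · exact trivial
    · obtain ⟨y, hy⟩ := hconj x us vs w he
      refine ⟨L y, fun k hk => ?_⟩
      obtain ⟨t, ht'⟩ := hexZ (L y * D.s G₀ (us.getD k 0) * (L y)⁻¹ * (D.s G₀ (vs.getD k 0))⁻¹) (by
        rw [map_mul, map_mul, map_mul, map_inv, map_inv, hσs G₀ (fun i => hL _), hσs G₀ (fun i => hL _),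
          hL, hy k hk, mul_inv_cancel])
      exact ⟨t, mul_inv_eq_iff_eq_mul.1 ht'⟩
  let G₁ : ℕ → Γ := fun i => Z (D.dot tv (D.phi.getD i 0)) * G₀ i
  have hrel₁ : ∀ i < D.n, ∀ j ≤ i,
      G₁ i * G₁ j = Z ((fun _ => 0 : ℕ → ZMod 2) (pidx i j)) *
        ((if i = j then 1 else G₁ j) * ((D.word i j).map G₁).prod) := by
    intro i hi j hj
    rw [Data.Z_zero Z hZ, one_mul]
    exact Data.exists_corrected D G₀ Z tv hZ hZc hrel₀ ht hZinj hcob hconj₀ i hi j hj
  have hσ₁ : ∀ i, σ (G₁ i) = g i := fun i => by rw [map_mul, hZk, one_mul]; exact hL _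
  have hmul : ∀ p, ∀ q < 2 ^ D.n, ∃ r < 2 ^ D.n, D.s G₁ p * D.s G₁ q = D.s G₁ r := fun p q hq => by
    obtain ⟨h1, h2⟩ := Data.mul_spec D G₁ Z (fun _ => 0) hZ hZc hrel₁ ht p hq
    refine ⟨_, h2, ?_⟩
    rwa [show D.dot (fun _ => (0 : ZMod 2)) (D.lw (D.bits p) q).1 = 0 by simp [Data.dot],
      Data.Z_zero Z hZ, one_mul] at h1
  let C₀ : Submonoid Γ :=
    { carrier := {x | ∃ q < 2 ^ D.n, x = D.s G₁ q}
      one_mem' := ⟨0, Nat.two_pow_pos _, (Data.s_zero D G₁).symm⟩
      mul_mem' := by
        rintro _ _ ⟨p, -, rfl⟩ ⟨q, hq, rfl⟩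
        exact hmul p q hq }
  let C : Subgroup Γ :=
    { C₀ with
      inv_mem' := fun {x} hx => by
        have : x⁻¹ ∈ Submonoid.powers x := by
          rw [mem_powers_iff_mem_zpowers]; exact inv_mem (mem_zpowers x)
        exact (Submonoid.powers_le.2 hx : Submonoid.powers x ≤ C₀) this }
  have hCker : ∀ x ∈ C, σ x = 1 → x = 1 := by
    rintro _ ⟨q, hq, rfl⟩ hx
    rw [hσs G₁ hσ₁] at hx
    rw [hinj q hq 0 (Nat.two_pow_pos _) (hx.trans (Data.s_zero D g).symm), Data.s_zero]
  have hPcard : Nat.card (C.map σ) = 2 ^ D.n := by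
    let f : Fin (2 ^ D.n) → C.map σ := fun q =>
      ⟨D.s g q, ⟨_, ⟨q, q.2, rfl⟩, hσs G₁ hσ₁ q⟩⟩
    rw [← Nat.card_fin (2 ^ D.n)]
    refine (Nat.card_eq_of_bijective f ⟨fun p q h => Fin.ext (hinj p p.2 q q.2 (congrArg Subtype.val h)),
      ?_⟩).symm
    rintro ⟨_, _, ⟨q, hq, rfl⟩, rfl⟩
    exact ⟨⟨q, hq⟩, Subtype.ext (hσs G₁ hσ₁ q).symm⟩
  have hodd : ¬ 2 ∣ (C.map σ).index := fun hd => hidx (by
    rw [← (C.map σ).card_mul_index, hPcard, pow_succ]
    exact Nat.mul_dvd_mul_left _ hd)
  have hmem := Fusion.mem_commutator_comap hσ z.2 Nat.prime_two (by rw [pow_two]; exact hz2)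
    (C.map σ) hodd
  have hle : ⁅(C.map σ).comap σ, (C.map σ).comap σ⁆ ≤ C := by
    rw [commutator_le]
    intro x hx y hy
    obtain ⟨c, hc, hcx⟩ := hx
    obtain ⟨d, hd, hdy⟩ := hy
    rw [Fusion.commutator_congr hσ.2.1 hcx.symm hdy.symm, commutatorElement_def]
    exact C.mul_mem (C.mul_mem (C.mul_mem hc hd) (C.inv_mem hc)) (C.inv_mem hd)
  exact hzne (hCker _ (hle hmem) z.2)

end Cfsg.Agent.Lib.Schur.PcTails
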