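import Cfsg.Agent.Lib.Schur.PcTails

/-!
# Killing the part of a multiplier at any prime on a polycyclic presentation of a Sylow subgroup

As for the prime two, with tails valued in the integers modulo `p` and linear forms stored as packed
vectors of digits.
-/

set_option autoImplicit false

namespace Cfsg.Agent.Lib.Schur.PcTailsP

open Cfsg.Agent.Lib.Computation (getW packW getW_packW getW_eq)
open Cfsg.Agent.Lib.Schur.PcTails (pidx Equat)

/-- The presentation with its collection tables; `bw` is the number of bits of a digit of a form. -/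
structure Data where
  p : ℕ
  n : ℕ
  bw : ℕ
  wa : ℕ
  wl : ℕ
  W : List (List ℕ)
  act : List ℕ
  tails : List ℕ
  phi : List ℕ

namespace Data

variable (D : Data)

/-- The number of tails. -/
def m : ℕ := D.n * (D.n + 1) / 2

/-- The sum of two forms. -/
def vadd (a b : ℕ) : ℕ := packW D.bw (fun k => (getW D.bw a k + getW D.bw b k) % D.p) D.m

/-- The opposite of a form. -/
def vneg (a : ℕ) : ℕ := packW D.bw (fun k => (D.p - getW D.bw a k % D.p) % D.p) D.m

/-- A unit form. -/
def vunit (k : ℕ) : ℕ := packW D.bw (fun l => if Nat.beq l k then 1 else 0) D.m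

/-- The right side word of a relation, without the leading generator. -/
def word (i j : ℕ) : List ℕ := D.W.getD (pidx i j) []

/-- The left side of a relation. -/
def lhsW (i j : ℕ) : List ℕ := if i = j then List.replicate D.p i else [i, j]

/-- The right side of a relation. -/
def rhsW (i j : ℕ) : List ℕ := if i = j then D.word i j else j :: D.word i j

/-- Left multiplication by a generator. -/
def A (i q : ℕ) : ℕ := getW D.wa (D.act.getD i 0) q

/-- The tails of left multiplication by a generator. -/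
def L (i q : ℕ) : ℕ := getW D.wl (D.tails.getD i 0) q

/-- Left multiplication by a word. -/
def lw (w : List ℕ) (q : ℕ) : ℕ × ℕ := w.foldr (fun i r => (D.vadd r.1 (D.L i r.2), D.A i r.2)) (0, q)

/-- A digit of a normal form. -/
def dig (i q : ℕ) : ℕ := q / D.p ^ i % D.p

/-- The generators in a normal form. -/
def bits (q : ℕ) : List ℕ := (List.range' 0 D.n).flatMap fun i => List.replicate (D.dig i q) i

/-- The check of one entry of the tables at a normal form whose first non-zero digit is at `j`. -/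
def entryOk (i j q : ℕ) : Bool :=
  Nat.blt (D.A i q) (D.p ^ D.n) && Nat.beq (D.A i q % D.p ^ min i j) 0 &&
    if i < j then Nat.beq (D.L i q) 0 && Nat.beq (D.A i q) (q + D.p ^ i)
    else if i = j then
      if D.dig j q + 1 < D.p then Nat.beq (D.L i q) 0 && Nat.beq (D.A i q) (q + D.p ^ i)
      else
        let r := D.lw (D.word i i) (q - (D.p - 1) * D.p ^ j)
        Nat.beq (D.L i q) (D.vadd (D.vunit (pidx i i)) r.1) && Nat.beq (D.A i q) r.2
    else
      let r := D.lw (D.word i j) (q - D.p ^ j)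
      Nat.beq (D.L i q) (D.vadd (D.vunit (pidx i j)) r.1) && Nat.beq (D.A i q) (r.2 + D.p ^ j) &&
        Nat.beq (r.2 % D.p ^ j) 0 && Nat.blt (D.dig j r.2 + 1) D.p &&
        Nat.beq (D.A i q % D.p ^ (j + 1)) (q % D.p ^ (j + 1))

/-- The check of the tables. -/
def tableOk : Bool :=
  Nat.blt 1 D.p && Nat.blt D.p (2 ^ D.bw) &&
  ((List.range D.n).all fun i => (List.range (i + 1)).all fun j =>
      (D.word i j).all fun l => Nat.blt j l && Nat.blt l D.n) &&
    ((List.range D.n).all fun i => Nat.beq (D.L i 0) 0 && Nat.beq (D.A i 0) (D.p ^ i)) &&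
      (List.range D.n).all fun j => (List.range (D.p ^ D.n)).all fun q =>
        !Nat.beq (q % D.p ^ j) 0 || Nat.beq (D.dig j q) 0 ||
          (List.range D.n).all fun i => D.entryOk i j q

/-- The product of normal forms along a word. -/
def wval (us : List ℕ) : List ℕ → ℕ × ℕ
  | [] => (0, 0)
  | k :: w => (D.vadd (D.lw (D.bits (us.getD k 0)) (wval us w).2).1 (wval us w).1,
      (D.lw (D.bits (us.getD k 0)) (wval us w).2).2)

/-- The linear form of an equation. -/
def eqMask : Equat → ℕ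
  | .overlap i j q =>
    D.vadd (D.lw (D.lhsW i j) q).1 (D.vneg (D.vadd (D.vunit (pidx i j)) (D.lw (D.rhsW i j) q).1))
  | .conj _ us vs w => D.vadd (D.wval us w).1 (D.vneg (D.wval vs w).1)

/-- The side conditions of an equation. -/
def eqOk : Equat → Bool
  | .overlap i j q =>
    Nat.blt i D.n && Nat.ble j i && Nat.blt q (D.p ^ D.n) &&
      Nat.beq (D.lw (D.lhsW i j) q).2 (D.lw (D.rhsW i j) q).2
  | .conj _ us vs w =>
    Nat.beq us.length vs.length && (w.all fun k => Nat.blt k us.length) &&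
      ((List.range us.length).all fun k => Nat.beq (w.count k % D.p) 0) &&
      Nat.beq (D.wval us w).2 0 && Nat.beq (D.wval vs w).2 0

/-- The sum of the corrections along a word. -/
def phiSum (l : List ℕ) : ℕ := l.foldr (fun a acc => D.vadd (D.phi.getD a 0) acc) 0

/-- The check that the equations force a coboundary. -/
def cobOk (eqs : List Equat) (combos : List (List ℕ)) : Bool :=
  eqs.all D.eqOk &&
    (List.range D.n).all fun i => (List.range (i + 1)).all fun j =>
      ((combos.getD (pidx i j) []).all fun e => Nat.blt e eqs.length) &&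
      Nat.beq (D.vadd (D.vunit (pidx i j))
          (D.vadd (D.phiSum (D.lhsW i j)) (D.vneg (D.phiSum (D.rhsW i j)))))
        ((combos.getD (pidx i j) []).foldr (fun e a => D.vadd (D.eqMask (eqs.getD e (.overlap 0 0 0))) a) 0)

section Collection

variable {Γ : Type*} [Group Γ] (G : ℕ → Γ) (Z : ZMod D.p → Γ) (tv : ℕ → ZMod D.p)

/-- The element of a normal form. -/
def s (q : ℕ) : Γ := ((D.bits q).map G).prod

/-- The value of a linear form. -/
def dot (v : ℕ) : ZMod D.p := ∑ k ∈ Finset.range D.m, (getW D.bw v k : ZMod D.p) * tv k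

theorem dot_zero : D.dot tv 0 = 0 := by
  refine Finset.sum_eq_zero fun k _ => ?_
  rw [getW_eq, Nat.zero_div, Nat.zero_mod, Nat.cast_zero, zero_mul]

variable (hp : 1 < D.p) (hbw : D.p < 2 ^ D.bw)

include hp hbw in
theorem dot_vadd (a b : ℕ) : D.dot tv (D.vadd a b) = D.dot tv a + D.dot tv b := by
  rw [dot, dot, dot, ← Finset.sum_add_distrib]
  refine Finset.sum_congr rfl fun k hk => ?_
  rw [vadd, getW_packW (fun x _ => (Nat.mod_lt _ (by omega)).trans hbw) (Finset.mem_range.1 hk),
    ZMod.natCast_mod, Nat.cast_add, add_mul]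

include hp hbw in
theorem dot_vneg (a : ℕ) : D.dot tv (D.vneg a) = -D.dot tv a := by
  rw [dot, dot, ← Finset.sum_neg_distrib]
  refine Finset.sum_congr rfl fun k hk => ?_
  rw [vneg, getW_packW (fun x _ => (Nat.mod_lt _ (by omega)).trans hbw) (Finset.mem_range.1 hk),
    ZMod.natCast_mod, Nat.cast_sub (Nat.mod_lt _ (by omega)).le, ZMod.natCast_self, ZMod.natCast_mod,
    zero_sub, neg_mul]

include hp hbw in
theorem dot_vunit {k : ℕ} (hk : k < D.m) : D.dot tv (D.vunit k) = tv k := by
  have hb : ∀ x < D.m, (if Nat.beq x k then 1 else 0) < 2 ^ D.bw := fun x _ => by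
    split_ifs <;> omega
  rw [dot, Finset.sum_eq_single k]
  · rw [vunit, getW_packW hb hk, Nat.beq_refl, if_pos rfl, Nat.cast_one, one_mul]
  · intro b hb' hne
    rw [vunit, getW_packW hb (Finset.mem_range.1 hb'), if_neg (by rw [Nat.beq_eq]; exact hne),
      Nat.cast_zero, zero_mul]
  · intro h
    exact absurd (Finset.mem_range.2 hk) h

theorem pidx_lt {i j : ℕ} (hi : i < D.n) (hj : j ≤ i) : pidx i j < D.m := by
  have h1 : i * (i + 1) / 2 + (i + 1) = (i + 1) * (i + 2) / 2 := by
    rw [show (i + 1) * (i + 2) = i * (i + 1) + 2 * (i + 1) by ring,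
      Nat.add_mul_div_left _ _ (by norm_num : 0 < 2)]
  have h2 : (i + 1) * (i + 2) / 2 ≤ D.n * (D.n + 1) / 2 :=
    Nat.div_le_div_right (Nat.mul_le_mul (by omega) (by omega))
  rw [pidx, m]
  omega

theorem s_zero : D.s G 0 = 1 := by
  rw [s, List.prod_eq_one]
  intro x hx
  obtain ⟨i, hi, rfl⟩ := List.mem_map.1 hx
  simp [bits, dig] at hi

theorem s_add {i q : ℕ} (hp : 1 < D.p) (hi : i < D.n) (hq : q % D.p ^ i = 0)
    (hd : D.dig i q + 1 < D.p) : D.s G (q + D.p ^ i) = G i * D.s G q := by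
  obtain ⟨c, rfl⟩ : D.p ^ i ∣ q := Nat.dvd_of_mod_eq_zero hq
  have hpos : 0 < D.p ^ i := pow_pos (by omega) i
  have hnum : D.p ^ i * c + D.p ^ i = D.p ^ i * (c + 1) := by ring
  have hlow : ∀ (e l : ℕ), l < i → D.dig l (D.p ^ i * e) = 0 := by
    intro e l hl
    obtain ⟨d, rfl⟩ : ∃ d, i = l + (d + 1) := ⟨i - l - 1, by omega⟩
    rw [dig, pow_add, mul_assoc, Nat.mul_div_cancel_left _ (pow_pos (by omega) l), pow_succ',
      mul_assoc, Nat.mul_mod_right]
  have hself : ∀ e, D.dig i (D.p ^ i * e) = e % D.p := fun e => by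
    rw [dig, Nat.mul_div_cancel_left _ hpos]
  rw [hself] at hd
  have hhigh : ∀ l, i < l → D.dig l (D.p ^ i * (c + 1)) = D.dig l (D.p ^ i * c) := by
    intro l hl
    obtain ⟨d, rfl⟩ : ∃ d, l = i + (d + 1) := ⟨l - i - 1, by omega⟩
    rw [dig, dig, pow_add, Nat.mul_div_mul_left _ _ hpos, Nat.mul_div_mul_left _ _ hpos, pow_succ',
      ← Nat.div_div_eq_div_mul, ← Nat.div_div_eq_div_mul]
    congr 2
    rw [Nat.succ_div, if_neg, add_zero]
    intro hdvd
    have h1 := Nat.mod_eq_zero_of_dvd hdvd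
    rw [Nat.add_mod, Nat.mod_eq_of_lt hp, Nat.mod_eq_of_lt hd] at h1
    omega
  obtain ⟨b, hb⟩ : ∃ b, D.n = i + (b + 1) := ⟨D.n - i - 1, by omega⟩
  have hsplit : List.range' 0 D.n = List.range' 0 i ++ i :: List.range' (i + 1) b := by
    rw [hb, ← List.range'_succ]
    have := List.range'_append_1 (s := 0) (m := i) (n := b + 1)
    simpa using this.symm
  have hnil : ∀ e, ((List.range' 0 i).flatMap fun l => List.replicate (D.dig l (D.p ^ i * e)) l) = [] := by
    intro e
    refine List.flatMap_eq_nil_iff.2 fun l hl => ?_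
    rw [List.mem_range'_1] at hl
    rw [hlow e l (by omega), List.replicate_zero]
  have hh : ((List.range' (i + 1) b).flatMap fun l => List.replicate (D.dig l (D.p ^ i * (c + 1))) l) =
      (List.range' (i + 1) b).flatMap fun l => List.replicate (D.dig l (D.p ^ i * c)) l := by
    refine List.flatMap_congr fun l hl => ?_
    rw [List.mem_range'_1] at hl
    rw [hhigh l (by omega)]
  rw [hnum, s, s, bits, bits, hsplit, List.flatMap_append, List.flatMap_append, List.flatMap_cons,
    List.flatMap_cons, hnil, hnil, hh, hself, hself, Nat.add_mod, Nat.mod_eq_of_lt hp,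
    Nat.mod_eq_of_lt hd, List.replicate_succ]
  simp [List.prod_cons, mul_assoc]

variable (hZ : ∀ a b, Z (a + b) = Z a * Z b) (hZc : ∀ a (g : Γ), g * Z a = Z a * g)
  (hrel : ∀ i < D.n, ∀ j ≤ i,
    ((D.lhsW i j).map G).prod = Z (tv (pidx i j)) * ((D.rhsW i j).map G).prod)
  (ht : D.tableOk = true)

include hZ in
theorem Z_zero : Z 0 = 1 := by
  have h := hZ 0 0
  rw [add_zero, left_eq_mul] at h
  exact h

include ht in
theorem basics : 1 < D.p ∧ D.p < 2 ^ D.bw := by
  simp only [tableOk, Bool.and_eq_true, Nat.blt_eq] at ht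
  exact ⟨ht.1.1.1.1, ht.1.1.1.2⟩

include ht in
theorem word_bounds {i j : ℕ} (hi : i < D.n) (hj : j ≤ i) : ∀ l ∈ D.word i j, j < l ∧ l < D.n := by
  simp only [tableOk, Bool.and_eq_true, List.all_eq_true, List.mem_range, Nat.blt_eq] at ht
  exact fun l hl => ht.1.1.2 i hi j (by omega) l hl

include hZ hZc ht in
theorem lw_aux (w : List ℕ) (q : ℕ) (P : ℕ → Prop) (hq : P q)
    (hstep : ∀ i ∈ w, ∀ r, P r → G i * D.s G r = Z (D.dot tv (D.L i r)) * D.s G (D.A i r) ∧ P (D.A i r)) :
    (w.map G).prod * D.s G q = Z (D.dot tv (D.lw w q).1) * D.s G (D.lw w q).2 ∧ P (D.lw w q).2 := by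
  obtain ⟨hp, hbw⟩ := D.basics ht
  induction w with
  | nil =>
    refine ⟨?_, hq⟩
    show 1 * D.s G q = Z (D.dot tv 0) * D.s G q
    rw [dot_zero, Z_zero D Z hZ]
  | cons i w ih =>
    obtain ⟨h1, h2⟩ := ih fun l hl => hstep l (List.mem_cons_of_mem _ hl)
    obtain ⟨h3, h4⟩ := hstep i List.mem_cons_self _ h2
    refine ⟨?_, h4⟩
    show G i * (w.map G).prod * D.s G q =
      Z (D.dot tv (D.vadd (D.lw w q).1 (D.L i (D.lw w q).2))) * D.s G (D.A i (D.lw w q).2)
    rw [dot_vadd D tv hp hbw, hZ, mul_assoc, h1, ← mul_assoc, hZc, mul_assoc, h3, mul_assoc]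

/-- What is known about left multiplication at level `j`. -/
def Good (i q j : ℕ) : Prop :=
  G i * D.s G q = Z (D.dot tv (D.L i q)) * D.s G (D.A i q) ∧ D.A i q < D.p ^ D.n ∧
    D.A i q % D.p ^ min i j = 0 ∧ (j < i → D.A i q % D.p ^ (j + 1) = q % D.p ^ (j + 1))

include hZ hZc hrel ht in
theorem step : ∀ d j : ℕ, D.n ≤ j + d → ∀ q < D.p ^ D.n, q % D.p ^ j = 0 → ∀ i < D.n,
    D.Good G Z tv i q j := by
  obtain ⟨hp, hbw⟩ := D.basics ht
  have hppos : ∀ k, 0 < D.p ^ k := fun k => pow_pos (by omega) k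
  have h := ht
  simp only [tableOk, Bool.and_eq_true, List.all_eq_true, List.mem_range, Nat.beq_eq,
    Bool.or_eq_true, Bool.not_eq_true'] at h
  obtain ⟨⟨⟨-, -⟩, hzero⟩, hent⟩ := h
  have hz : ∀ j, D.n ≤ j → ∀ i < D.n, D.Good G Z tv i 0 j := by
    intro j hj i hi
    rw [Good, (hzero i hi).1, (hzero i hi).2, dot_zero, Z_zero D Z hZ, one_mul]
    refine ⟨?_, Nat.pow_lt_pow_right hp hi,
      Nat.mod_eq_zero_of_dvd (pow_dvd_pow D.p (min_le_left _ _)), fun hji => by omega⟩
    have := D.s_add G hp hi (q := 0) (Nat.zero_mod _) (by simpa [dig] using hp)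
    rw [zero_add] at this
    exact this.symm
  intro d
  induction d with
  | zero =>
    intro j hj q hq hqj i hi
    rw [Nat.add_zero] at hj
    have : q = 0 := by
      rw [← Nat.mod_eq_of_lt (lt_of_lt_of_le hq (Nat.pow_le_pow_right (by omega) hj)), hqj]
    subst this
    exact hz j hj i hi
  | succ d ih =>
    intro j hj
    by_cases hjn : D.n ≤ j + d
    · exact ih j hjn
    have hjn' : j < D.n := by omega
    have hup := ih (j + 1) (by omega)
    suffices H : ∀ e, ∀ q < D.p ^ D.n, q % D.p ^ j = 0 → D.dig j q ≤ e → ∀ i < D.n,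
        D.Good G Z tv i q j by
      exact fun q hq hqj i hi => H _ q hq hqj le_rfl i hi
    have hzero' : ∀ q < D.p ^ D.n, q % D.p ^ (j + 1) = 0 → ∀ i < D.n, D.Good G Z tv i q j := by
      intro q hq hq1 i hi
      obtain ⟨e1, e2, e3, -⟩ := hup q hq hq1 i hi
      refine ⟨e1, e2, Nat.mod_eq_zero_of_dvd ((pow_dvd_pow D.p (by omega)).trans
        (Nat.dvd_of_mod_eq_zero e3)), fun hji => ?_⟩
      rw [hq1]
      exact Nat.mod_eq_zero_of_dvd ((pow_dvd_pow D.p (by omega)).trans (Nat.dvd_of_mod_eq_zero e3))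
    have hsplit : ∀ q, q % D.p ^ j = 0 → q % D.p ^ (j + 1) = D.p ^ j * D.dig j q := by
      intro q hq
      rw [pow_succ, Nat.mod_mul, hq, zero_add, dig]
    intro e
    induction e with
    | zero =>
      intro q hq hqj he i hi
      exact hzero' q hq (by rw [hsplit q hqj, Nat.le_zero.1 he, mul_zero]) i hi
    | succ e ihe =>
      intro q hq hqj he i hi
      by_cases hd0 : D.dig j q = 0
      · exact hzero' q hq (by rw [hsplit q hqj, hd0, mul_zero]) i hi
      have he2 := (hent j hjn' q hq).resolve_left (by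
        rintro (h | h)
        · rw [hqj] at h; simp at h
        · exact hd0 h)
      have he2 := he2 i hi
      simp only [entryOk, Bool.and_eq_true, Nat.blt_eq, Nat.beq_eq] at he2
      obtain ⟨⟨hlt, hmod⟩, hcase⟩ := he2
      have hdlt : D.dig j q < D.p := Nat.mod_lt _ (by omega)
      obtain ⟨c, hc⟩ : D.p ^ j ∣ q := Nat.dvd_of_mod_eq_zero hqj
      have hdig : D.dig j q = c % D.p := by rw [dig, hc, Nat.mul_div_cancel_left _ (hppos j)]
      obtain ⟨c', rfl⟩ : ∃ c', c = c' + 1 :=
        ⟨c - 1, by rcases Nat.eq_zero_or_pos c with rfl | h0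
                   · rw [hdig, Nat.zero_mod] at hd0; exact absurd rfl hd0
                   · omega⟩
      set q1 := q - D.p ^ j with hq1
      have hq1c : q1 = D.p ^ j * c' := by rw [hq1, hc, Nat.mul_succ, Nat.add_sub_cancel]
      have hq1j : q1 % D.p ^ j = 0 := by rw [hq1c, Nat.mul_mod_right]
      have hq1d : D.dig j q1 + 1 = D.dig j q := by
        rw [dig, hq1c, Nat.mul_div_cancel_left _ (hppos j), hdig]
        have hm := Nat.mod_lt c' (show 0 < D.p by omega)
        have h1 : (c' + 1) % D.p = (c' % D.p + 1) % D.p := by rw [Nat.add_mod, Nat.mod_eq_of_lt hp]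
        rw [hdig] at hd0
        rcases Nat.lt_or_ge (c' % D.p + 1) D.p with hl | hl
        · rw [h1, Nat.mod_eq_of_lt hl]
        · rw [show c' % D.p + 1 = D.p by omega, Nat.mod_self] at h1
          exact absurd h1 hd0
      have hsq : D.s G q = G j * D.s G q1 := by
        rw [← D.s_add G hp hjn' hq1j (by omega), hq1c, hc]
        congr 1
      have hq1lt : q1 < D.p ^ D.n := lt_of_le_of_lt (Nat.sub_le _ _) hq
      rcases lt_trichotomy i j with hij | rfl | hij
      · rw [if_pos hij, Bool.and_eq_true, Nat.beq_eq, Nat.beq_eq] at hcase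
        have hdi : D.dig i q + 1 < D.p := by
          obtain ⟨t, rfl⟩ : ∃ t, j = i + (t + 1) := ⟨j - i - 1, by omega⟩
          rw [dig, hc, pow_add, mul_assoc, Nat.mul_div_cancel_left _ (hppos i), pow_succ', mul_assoc,
            Nat.mul_mod_right]
          omega
        refine ⟨?_, hlt, hmod, fun hji => by omega⟩
        rw [hcase.1, hcase.2, dot_zero, Z_zero D Z hZ, one_mul, D.s_add G hp hi
          (Nat.mod_eq_zero_of_dvd ((pow_dvd_pow D.p hij.le).trans (Nat.dvd_of_mod_eq_zero hqj))) hdi]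
      · rw [if_neg (lt_irrefl i), if_pos rfl] at hcase
        refine ⟨?_, hlt, hmod, fun hji => by omega⟩
        split_ifs at hcase with hd
        · rw [Bool.and_eq_true, Nat.beq_eq, Nat.beq_eq] at hcase
          rw [hcase.1, hcase.2, dot_zero, Z_zero D Z hZ, one_mul, D.s_add G hp hi hqj hd]
        · rw [Bool.and_eq_true, Nat.beq_eq, Nat.beq_eq] at hcase
          set q0 := q - (D.p - 1) * D.p ^ i with hq0
          have hdp : D.dig i q = D.p - 1 := by omega
          obtain ⟨u, hu⟩ : ∃ u, c' + 1 = D.p * u + (D.p - 1) :=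
            ⟨(c' + 1) / D.p, by rw [← hdp, hdig, Nat.div_add_mod]⟩
          have hq0u : q0 = D.p ^ (i + 1) * u := by
            rw [hq0, hc, hu, Nat.mul_add, pow_succ, mul_assoc, mul_comm (D.p - 1),
              Nat.add_sub_cancel]
          have hpow : ∀ k ≤ D.p - 1, D.s G (q0 + k * D.p ^ i) = G i ^ k * D.s G q0 := by
            intro k hk
            induction k with
            | zero => simp
            | succ k ihk =>
              rw [show q0 + (k + 1) * D.p ^ i = q0 + k * D.p ^ i + D.p ^ i by ring,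
                D.s_add G hp hi, ihk (by omega), pow_succ', mul_assoc]
              · rw [hq0u, pow_succ, mul_assoc, mul_comm k, ← Nat.mul_add, Nat.mul_mod_right]
              · rw [dig, hq0u, pow_succ, mul_assoc, mul_comm k, ← Nat.mul_add,
                  Nat.mul_div_cancel_left _ (hppos i), Nat.mul_add_mod, Nat.mod_eq_of_lt (by omega)]
                omega
          have hqeq : q = q0 + (D.p - 1) * D.p ^ i := by
            rw [hq0u, hc, hu]; ring
          have hr := hrel i hi i le_rfl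
          rw [lhsW, rhsW, if_pos rfl, if_pos rfl, List.map_replicate, List.prod_replicate] at hr
          have hlw := lw_aux D G Z tv hZ hZc ht (D.word i i) q0
            (fun r => r < D.p ^ D.n ∧ r % D.p ^ (i + 1) = 0)
            ⟨lt_of_le_of_lt (Nat.sub_le _ _) hq, by rw [hq0u, Nat.mul_mod_right]⟩ fun l hl r hr' => by
              obtain ⟨hil, hln⟩ := D.word_bounds ht hi le_rfl l hl
              obtain ⟨e1, e2, e3, -⟩ := hup r hr'.1 hr'.2 l hln
              exact ⟨e1, e2, Nat.mod_eq_zero_of_dvd ((pow_dvd_pow D.p (by omega)).trans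
                (Nat.dvd_of_mod_eq_zero e3))⟩
          calc G i * D.s G q = G i ^ D.p * D.s G q0 := by
                conv_lhs => rw [hqeq, hpow _ le_rfl]
                rw [← mul_assoc, ← pow_succ', show D.p - 1 + 1 = D.p by omega]
            _ = _ := by
                rw [hr, mul_assoc, hlw.1, ← mul_assoc, ← hZ, hcase.1, hcase.2, dot_vadd D tv hp hbw,
                  dot_vunit D tv hp hbw (D.pidx_lt hi le_rfl)]
      · rw [if_neg (by omega), if_neg (by omega)] at hcase
        simp only [Bool.and_eq_true, Nat.beq_eq, Nat.blt_eq] at hcase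
        obtain ⟨⟨⟨⟨hL, hA⟩, hr0⟩, hrd⟩, hkeep⟩ := hcase
        refine ⟨?_, hlt, hmod, fun _ => hkeep⟩
        have hr := hrel i hi j hij.le
        rw [lhsW, rhsW, if_neg (by omega), if_neg (by omega), List.map_cons, List.map_cons,
          List.map_nil, List.prod_cons, List.prod_cons, List.prod_nil, mul_one, List.map_cons,
          List.prod_cons] at hr
        have hlw := lw_aux D G Z tv hZ hZc ht (D.word i j) q1
          (fun r => r < D.p ^ D.n ∧ r % D.p ^ (j + 1) = q1 % D.p ^ (j + 1))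
          ⟨hq1lt, rfl⟩ fun l hl r hr' => by
            obtain ⟨hjl, hln⟩ := D.word_bounds ht hi hij.le l hl
            have hrj : r % D.p ^ j = 0 := by
              rw [← Nat.mod_mod_of_dvd r (pow_dvd_pow D.p (Nat.le_succ j)), hr'.2,
                Nat.mod_mod_of_dvd _ (pow_dvd_pow D.p (Nat.le_succ j)), hq1j]
            have hrdig : D.dig j r ≤ e := by
              have h1 := hsplit r hrj
              rw [hr'.2, hsplit q1 hq1j] at h1
              rw [← Nat.eq_of_mul_eq_mul_left (hppos j) h1]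
              omega
            obtain ⟨e1, e2, -, e4⟩ := ihe r hr'.1 hrj hrdig l hln
            exact ⟨e1, e2, (e4 hjl).trans hr'.2⟩
        rw [hsq, ← mul_assoc, hr, mul_assoc, mul_assoc, hlw.1, ← mul_assoc (G j), hZc, mul_assoc,
          ← D.s_add G hp hjn' hr0 hrd, ← mul_assoc, ← hZ, hL, hA, dot_vadd D tv hp hbw,
          dot_vunit D tv hp hbw (D.pidx_lt hi hij.le)]

include hZ hZc hrel ht in
theorem gen_spec {i q : ℕ} (hi : i < D.n) (hq : q < D.p ^ D.n) :
    G i * D.s G q = Z (D.dot tv (D.L i q)) * D.s G (D.A i q) ∧ D.A i q < D.p ^ D.n :=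
  have h := step D G Z tv hZ hZc hrel ht D.n 0 (by omega) q hq (by rw [pow_zero, Nat.mod_one]) i hi
  ⟨h.1, h.2.1⟩

include hZ hZc hrel ht in
theorem lw_spec {w : List ℕ} (hw : ∀ i ∈ w, i < D.n) {q : ℕ} (hq : q < D.p ^ D.n) :
    (w.map G).prod * D.s G q = Z (D.dot tv (D.lw w q).1) * D.s G (D.lw w q).2 ∧
      (D.lw w q).2 < D.p ^ D.n :=
  lw_aux D G Z tv hZ hZc ht w q _ hq fun _ hi _ hp => gen_spec D G Z tv hZ hZc hrel ht (hw _ hi) hp

include hZ hZc hrel ht in
theorem mul_spec (u : ℕ) {q : ℕ} (hq : q < D.p ^ D.n) :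
    D.s G u * D.s G q = Z (D.dot tv (D.lw (D.bits u) q).1) * D.s G (D.lw (D.bits u) q).2 ∧
      (D.lw (D.bits u) q).2 < D.p ^ D.n := by
  refine lw_spec D G Z tv hZ hZc hrel ht (fun i hi => ?_) hq
  obtain ⟨l, hl, hil⟩ := List.mem_flatMap.1 hi
  obtain rfl := List.eq_of_mem_replicate hil
  rw [List.mem_range'_1] at hl
  omega

include hZ hZc hrel ht in
theorem wval_spec (us : List ℕ) : ∀ w : List ℕ,
    (w.map fun k => D.s G (us.getD k 0)).prod =
      Z (D.dot tv (D.wval us w).1) * D.s G (D.wval us w).2 ∧ (D.wval us w).2 < D.p ^ D.n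
  | [] => ⟨by simp [wval, dot_zero, Z_zero D Z hZ, s_zero],
      pow_pos (lt_trans Nat.zero_lt_one (D.basics ht).1) _⟩
  | k :: w => by
    obtain ⟨hp, hbw⟩ := D.basics ht
    obtain ⟨h1, h2⟩ := wval_spec us w
    obtain ⟨h3, h4⟩ := mul_spec D G Z tv hZ hZc hrel ht (us.getD k 0) h2
    refine ⟨?_, h4⟩
    rw [List.map_cons, List.prod_cons, h1, ← mul_assoc, hZc, mul_assoc, h3, ← mul_assoc, ← hZ]
    show _ = Z (D.dot tv (D.vadd _ _)) * _
    rw [dot_vadd D tv hp hbw, add_comm]
    rfl

/-- A conjugation equation holds in the extension. -/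
def ConjOk : Equat → Prop
  | .overlap _ _ _ => True
  | .conj _ us vs _ => ∃ X : Γ, ∀ k < us.length,
      ∃ c : ZMod D.p, X * D.s G (us.getD k 0) * X⁻¹ = Z c * D.s G (vs.getD k 0)

include ht in
theorem side_bounds {i j : ℕ} (hi : i < D.n) (hj : j ≤ i) :
    (∀ l ∈ D.lhsW i j, l < D.n) ∧ ∀ l ∈ D.rhsW i j, l < D.n := by
  refine ⟨fun l hl => ?_, fun l hl => ?_⟩
  · rw [lhsW] at hl
    split_ifs at hl with hij
    · rw [List.eq_of_mem_replicate hl]; exact hi
    · rcases List.mem_cons.1 hl with rfl | hl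
      · exact hi
      · rw [List.mem_singleton.1 hl]; omega
  · rw [rhsW] at hl
    split_ifs at hl with hij
    · exact (D.word_bounds ht hi hj l hl).2
    · rcases List.mem_cons.1 hl with rfl | hl
      · omega
      · exact (D.word_bounds ht hi hj l hl).2

include hZ hZc hrel ht in
theorem eq_spec (hinj : Function.Injective Z) : ∀ e : Equat, D.eqOk e = true → D.ConjOk G Z e →
    D.dot tv (D.eqMask e) = 0
  | .overlap i j q, he, _ => by
    obtain ⟨hp, hbw⟩ := D.basics ht
    simp only [eqOk, Bool.and_eq_true, Nat.blt_eq, Nat.ble_eq, Nat.beq_eq] at he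
    obtain ⟨⟨⟨hi, hj⟩, hq⟩, hA⟩ := he
    obtain ⟨hl, hr⟩ := D.side_bounds ht hi hj
    obtain ⟨h1, -⟩ := lw_spec D G Z tv hZ hZc hrel ht hl hq
    obtain ⟨h2, -⟩ := lw_spec D G Z tv hZ hZc hrel ht hr hq
    rw [hrel i hi j hj, mul_assoc, h2, ← mul_assoc, ← hZ, hA] at h1
    have hc := hinj (mul_right_cancel h1)
    simp only [eqMask, dot_vadd D tv hp hbw, dot_vneg D tv hp hbw, dot_vunit D tv hp hbw (D.pidx_lt hi hj)]
    rw [← hc, add_neg_cancel]
  | .conj x us vs w, he, hX => by
    obtain ⟨hp, hbw⟩ := D.basics ht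
    simp only [eqOk, Bool.and_eq_true, Nat.beq_eq, List.all_eq_true, Nat.blt_eq, List.mem_range] at he
    obtain ⟨⟨⟨⟨-, hw⟩, hcount⟩, hu0⟩, hv0⟩ := he
    obtain ⟨X, hX⟩ := hX
    choose! c hc using hX
    obtain ⟨h1, -⟩ := wval_spec D G Z tv hZ hZc hrel ht us w
    obtain ⟨h2, -⟩ := wval_spec D G Z tv hZ hZc hrel ht vs w
    rw [hu0, s_zero, mul_one] at h1
    rw [hv0, s_zero, mul_one] at h2
    have key : ∀ l : List ℕ, (∀ k ∈ l, k < us.length) →
        X * (l.map fun k => D.s G (us.getD k 0)).prod * X⁻¹ =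
          Z (l.map c).sum * (l.map fun k => D.s G (vs.getD k 0)).prod := by
      intro l hl
      induction l with
      | nil => simp [Z_zero D Z hZ]
      | cons k l ih =>
        rw [List.map_cons, List.prod_cons, List.map_cons, List.sum_cons, List.map_cons, List.prod_cons, hZ,
          ← conj_mul, hc k (hl k List.mem_cons_self), ih fun a ha => hl a (List.mem_cons_of_mem _ ha)]
        rw [mul_assoc (Z (c k)), ← mul_assoc (D.s G _), hZc]
        simp only [mul_assoc]
    have hsum : (w.map c).sum = 0 := by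
      rw [Finset.sum_list_map_count]
      refine Finset.sum_eq_zero fun k hk => ?_
      have h2 := hcount k (hw k (List.mem_toFinset.1 hk))
      rw [nsmul_eq_mul, ← ZMod.natCast_mod, h2, Nat.cast_zero, zero_mul]
    have h := key w hw
    rw [h1, h2, hsum, Z_zero D Z hZ, one_mul, hZc, mul_inv_cancel_right] at h
    simp only [eqMask, dot_vadd D tv hp hbw, dot_vneg D tv hp hbw]
    rw [hinj h, add_neg_cancel]

include hZ hZc hrel ht in
theorem exists_corrected (hinj : Function.Injective Z) {eqs : List Equat} {combos : List (List ℕ)}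
    (hcob : D.cobOk eqs combos = true) (hconj : ∀ e ∈ eqs, D.ConjOk G Z e) :
    ∀ i < D.n, ∀ j ≤ i,
      ((D.lhsW i j).map fun l => Z (D.dot tv (D.phi.getD l 0)) * G l).prod =
        ((D.rhsW i j).map fun l => Z (D.dot tv (D.phi.getD l 0)) * G l).prod := by
  obtain ⟨hp, hbw⟩ := D.basics ht
  intro i hi j hj
  simp only [cobOk, Bool.and_eq_true, List.all_eq_true, List.mem_range, Nat.blt_eq, Nat.beq_eq] at hcob
  obtain ⟨hok, hc⟩ := hcob
  obtain ⟨hlt, hmask⟩ := hc i hi j (by omega)
  have hsum : D.dot tv ((combos.getD (pidx i j) []).foldr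
      (fun e a => D.vadd (D.eqMask (eqs.getD e (.overlap 0 0 0))) a) 0) = 0 := by
    generalize combos.getD (pidx i j) [] = l at hlt
    induction l with
    | nil => exact D.dot_zero tv
    | cons e l ih =>
      rw [List.foldr_cons, dot_vadd D tv hp hbw, ih fun a ha => hlt a (List.mem_cons_of_mem _ ha),
        add_zero]
      have he := hlt e List.mem_cons_self
      have hm : eqs.getD e (.overlap 0 0 0) ∈ eqs := by
        rw [List.getD_eq_getElem _ _ he]; exact List.getElem_mem he
      exact eq_spec D G Z tv hZ hZc hrel ht hinj _ (hok _ hm) (hconj _ hm)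
  have hphi : ∀ l : List ℕ, D.dot tv (D.phiSum l) = (l.map fun a => D.dot tv (D.phi.getD a 0)).sum := by
    intro l
    induction l with
    | nil => exact D.dot_zero tv
    | cons a l ih =>
      rw [phiSum, List.foldr_cons, ← phiSum, dot_vadd D tv hp hbw, ih, List.map_cons, List.sum_cons]
  rw [← hmask, dot_vadd D tv hp hbw, dot_vadd D tv hp hbw, dot_vneg D tv hp hbw, hphi, hphi,
    dot_vunit D tv hp hbw (D.pidx_lt hi hj)] at hsum
  have hprod : ∀ l : List ℕ, (l.map fun a => Z (D.dot tv (D.phi.getD a 0)) * G a).prod =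
      Z (l.map fun a => D.dot tv (D.phi.getD a 0)).sum * (l.map G).prod := by
    intro l
    induction l with
    | nil => simp [Z_zero D Z hZ]
    | cons a l ih =>
      simp only [List.map_cons, List.prod_cons, List.sum_cons, hZ, ih]
      rw [mul_assoc, ← mul_assoc (G a), hZc]
      simp only [mul_assoc]
  rw [hprod, hprod, hrel i hi j hj, ← mul_assoc, ← hZ]
  refine congrArg (fun z => Z z * _) ?_
  linear_combination hsum

end Collection

end Data

/-! ### stem extensions with kernel of prime order -/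

universe u

open Subgroup
open scoped commutatorElement

/-- A stem extension whose kernel has an element of order `p` has a quotient with kernel of order `p`. -/
theorem killsPart_prime {G : Type u} [Group G] {p : ℕ} (hp : p.Prime) (P : Subgroup G)
    (h : ∀ (Γ : Type u) [Group Γ] [Finite Γ] (σ : Γ →* G), Cfsg.IsStemExtension σ →
      Nat.card σ.ker = p → False) : Fusion.KillsPart p P := by
  intro Γ _ _ σ hσ z hz hzp _
  by_contra hne
  classical
  haveI : Fact p.Prime := ⟨hp⟩
  have hcomm : ∀ a b : σ.ker, a * b = b * a := fun a b =>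
    Subtype.ext (mem_center_iff.1 (hσ.2.1 b.2) a)
  letI : CommGroup σ.ker := { (inferInstance : Group σ.ker) with mul_comm := hcomm }
  let pw : σ.ker →* σ.ker := powMonoidHom p
  have hnot : ¬ Function.Surjective pw := fun hs => by
    have hi := (Finite.injective_iff_surjective.2 hs)
    have : (⟨z, hz⟩ : σ.ker) = 1 := hi (a₁ := ⟨z, hz⟩) (a₂ := 1) (by
      rw [map_one]
      exact Subtype.ext hzp)
    exact hne (congrArg Subtype.val this)
  have hR : pw.range ≠ ⊤ := fun he => hnot (MonoidHom.range_eq_top.1 he)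
  obtain ⟨M, hM, hRM⟩ := (eq_top_or_exists_le_coatom pw.range).resolve_left hR
  obtain ⟨a, ha⟩ : ∃ a, a ∉ M := by
    by_contra hh
    exact hM.1 (eq_top_iff.2 fun x _ => not_not.1 fun hx => hh ⟨x, hx⟩)
  have hindex : M.index = p := by
    have hord : orderOf (QuotientGroup.mk a : σ.ker ⧸ M) = p := by
      refine orderOf_eq_prime ?_ fun he => ha ((QuotientGroup.eq_one_iff _).1 he)
      rw [← QuotientGroup.mk_pow, QuotientGroup.eq_one_iff]
      exact hRM ⟨a, rfl⟩
    have htop : Subgroup.zpowers (QuotientGroup.mk a : σ.ker ⧸ M) = ⊤ := by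
      have hcl : M ⊔ Subgroup.zpowers a = ⊤ := hM.2 _ (lt_of_le_of_ne le_sup_left fun he =>
        ha (he.ge (le_sup_right (α := Subgroup σ.ker) (Subgroup.mem_zpowers a))))
      rw [← MonoidHom.range_eq_top.2 (QuotientGroup.mk'_surjective M), MonoidHom.range_eq_map,
        ← hcl, Subgroup.map_sup, MonoidHom.map_zpowers, QuotientGroup.map_mk'_self, bot_sup_eq]
      rfl
    rw [Subgroup.index_eq_card, ← Subgroup.card_top, ← htop, Nat.card_zpowers, hord]
  let K0 : Subgroup Γ := M.map σ.ker.subtype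
  have hK0 : K0 ≤ σ.ker := by rintro _ ⟨c, -, rfl⟩; exact c.2
  have : K0.Normal := ⟨fun c hc g => by
    rwa [mem_center_iff.1 (hσ.2.1 (hK0 hc)) g, mul_inv_cancel_right]⟩
  let τ : Γ ⧸ K0 →* G := QuotientGroup.lift K0 σ hK0
  have hker : τ.ker = σ.ker.map (QuotientGroup.mk' K0) := QuotientGroup.ker_lift _ _ _
  refine h (Γ ⧸ K0) τ ⟨?_, ?_, ?_⟩ ?_
  · intro g
    obtain ⟨x, rfl⟩ := hσ.1 g
    exact ⟨x, rfl⟩
  · rw [hker]
    rintro _ ⟨c, hc, rfl⟩
    rw [mem_center_iff]
    intro g
    obtain ⟨g, rfl⟩ := QuotientGroup.mk_surjective g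
    exact congrArg (QuotientGroup.mk' K0) (mem_center_iff.1 (hσ.2.1 hc) g)
  · rw [hker]
    refine (Subgroup.map_mono hσ.2.2).trans ?_
    rw [commutator_def, Subgroup.map_commutator, commutator_def]
    exact Subgroup.commutator_mono le_top le_top
  · have hrange : σ.ker.map (QuotientGroup.mk' K0) =
        ((QuotientGroup.mk' K0).comp σ.ker.subtype).range := by
      rw [MonoidHom.range_eq_map, ← Subgroup.map_map, ← MonoidHom.range_eq_map, Subgroup.range_subtype]
    rw [hker, hrange]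
    rw [← Subgroup.index_ker, ← hindex]
    congr 1
    ext c
    rw [MonoidHom.mem_ker, MonoidHom.comp_apply, ← MonoidHom.mem_ker, QuotientGroup.ker_mk']
    constructor
    · rintro ⟨d, hd, hdc⟩
      exact (Subtype.ext hdc : d = c) ▸ hd
    · intro hc
      exact ⟨c, hc, rfl⟩

variable {G : Type u} [Group G]

theorem pidx_inj {i j i' j' : ℕ} (hj : j ≤ i) (hj' : j' ≤ i') (he : pidx i' j' = pidx i j) :
    i' = i ∧ j' = j := by
  simp only [pidx] at he
  have hmono : ∀ a b : ℕ, a < b → a * (a + 1) / 2 + (a + 1) ≤ b * (b + 1) / 2 := by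
    intro a b hab
    rw [← Nat.add_mul_div_left _ _ (by norm_num : 0 < 2)]
    refine Nat.div_le_div_right ?_
    have := Nat.mul_le_mul (Nat.succ_le_of_lt hab) (Nat.add_le_add_right (Nat.succ_le_of_lt hab) 1)
    nlinarith
  rcases lt_trichotomy i' i with h | rfl | h
  · have := hmono _ _ h; omega
  · exact ⟨rfl, by omega⟩
  · have := hmono _ _ h; omega

/-- The certificate kills the `p`-part of the multiplier. -/
theorem killsPart_of_cert (P : Subgroup G) (D : Data) (hp : D.p.Prime) (g : ℕ → G) {eqs : List Equat}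
    {combos : List (List ℕ)} (ht : D.tableOk = true) (hcob : D.cobOk eqs combos = true)
    (hrel : ∀ i < D.n, ∀ j ≤ i, ((D.lhsW i j).map g).prod = ((D.rhsW i j).map g).prod)
    (hinj : ∀ a < D.p ^ D.n, ∀ b < D.p ^ D.n, D.s g a = D.s g b → a = b)
    (hconj : ∀ x us vs w, Equat.conj x us vs w ∈ eqs → ∃ y : G,
      ∀ k < us.length, y * D.s g (us.getD k 0) * y⁻¹ = D.s g (vs.getD k 0))
    (hidx : ¬ D.p ^ (D.n + 1) ∣ Nat.card G) : Fusion.KillsPart D.p P := by
  refine killsPart_prime hp P fun Γ _ _ σ hσ hcard => ?_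
  haveI : Fact D.p.Prime := ⟨hp⟩
  obtain ⟨z, hzo⟩ := exists_prime_orderOf_dvd_card' D.p (G := σ.ker) (by rw [hcard])
  have hz : orderOf (z : Γ) = D.p := by rw [Subgroup.orderOf_coe, hzo]
  have hzne : (z : Γ) ≠ 1 := fun h => hp.one_lt.ne' (by rw [← hz, h, orderOf_one])
  let Z : ZMod D.p → Γ := fun t => (z : Γ) ^ t.val
  have hZ : ∀ s t, Z (s + t) = Z s * Z t := by
    intro s t
    simp only [Z]
    rw [← pow_add, ZMod.val_add]
    conv_rhs => rw [← pow_mod_orderOf, hz]
  have hZc : ∀ t (x : Γ), x * Z t = Z t * x :=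
    fun t x => mem_center_iff.1 (pow_mem (hσ.2.1 z.2) _) x
  have hZinj : Function.Injective Z := by
    intro s t hst
    refine ZMod.val_injective _ (pow_injOn_Iio_orderOf ?_ ?_ hst) <;>
      · rw [Set.mem_Iio, hz]; exact ZMod.val_lt _
  have hZk : ∀ t, σ (Z t) = 1 := fun t => by
    simp only [Z]
    rw [map_pow, show σ z = 1 from z.2, one_pow]
  have hexZ : ∀ x : Γ, σ x = 1 → ∃ t, x = Z t := fun x hx => by
    have hmem : (⟨x, hx⟩ : σ.ker) ∈ Subgroup.zpowers z :=
      mem_zpowers_of_prime_card hcard (fun h => hzne (congrArg Subtype.val h))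
    obtain ⟨k, hk⟩ := Subgroup.mem_zpowers_iff.1 hmem
    refine ⟨(k : ZMod D.p), ?_⟩
    have h1 : x = (z : Γ) ^ k := by rw [← Subgroup.coe_zpow, hk]
    rw [h1]
    simp only [Z]
    rw [← zpow_natCast, ZMod.val_intCast, ← hz, zpow_mod_orderOf]
  choose L hL using hσ.1
  let G₀ : ℕ → Γ := fun i => L (g i)
  have hσprod : ∀ (f : ℕ → Γ) (f' : ℕ → G), (∀ i, σ (f i) = f' i) → ∀ l : List ℕ,
      σ ((l.map f).prod) = (l.map f').prod := fun f f' hf l => by
    rw [map_list_prod, List.map_map]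
    exact congrArg List.prod (List.map_congr_left fun i _ => hf i)
  have htv : ∀ k, ∃ t, ∀ i < D.n, ∀ j ≤ i, pidx i j = k →
      ((D.lhsW i j).map G₀).prod = Z t * ((D.rhsW i j).map G₀).prod := by
    intro k
    by_cases hk : ∃ i < D.n, ∃ j ≤ i, pidx i j = k
    · obtain ⟨i, hi, j, hj, rfl⟩ := hk
      obtain ⟨t, ht'⟩ := hexZ (((D.lhsW i j).map G₀).prod * ((D.rhsW i j).map G₀).prod⁻¹) (by
        rw [map_mul, map_inv, mul_inv_eq_one, hσprod G₀ g (fun l => hL _),
          hσprod G₀ g (fun l => hL _), hrel i hi j hj])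
      refine ⟨t, fun i' _ j' hj' he => ?_⟩
      obtain ⟨rfl, rfl⟩ := pidx_inj hj hj' he
      exact mul_inv_eq_iff_eq_mul.1 ht'
    · exact ⟨0, fun i hi j hj he => absurd ⟨i, hi, j, hj, he⟩ hk⟩
  choose tv htv using htv
  have hrel₀ : ∀ i < D.n, ∀ j ≤ i,
      ((D.lhsW i j).map G₀).prod = Z (tv (pidx i j)) * ((D.rhsW i j).map G₀).prod :=
    fun i hi j hj => htv _ i hi j hj rfl
  have hconj₀ : ∀ e ∈ eqs, D.ConjOk G₀ Z e := by
    rintro (⟨i, j, q⟩ | ⟨x, us, vs, w⟩) he
    · exact trivial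
    · obtain ⟨y, hy⟩ := hconj x us vs w he
      refine ⟨L y, fun k hk => ?_⟩
      obtain ⟨t, ht'⟩ := hexZ (L y * D.s G₀ (us.getD k 0) * (L y)⁻¹ * (D.s G₀ (vs.getD k 0))⁻¹) (by
        rw [map_mul, map_mul, map_mul, map_inv, map_inv, Data.s, Data.s,
          hσprod G₀ g (fun i => hL _), hσprod G₀ g (fun i => hL _), hL, ← Data.s, ← Data.s,
          hy k hk, mul_inv_cancel])
      exact ⟨t, mul_inv_eq_iff_eq_mul.1 ht'⟩
  let G₁ : ℕ → Γ := fun i => Z (D.dot tv (D.phi.getD i 0)) * G₀ i
  have hrel₁ : ∀ i < D.n, ∀ j ≤ i, ((D.lhsW i j).map G₁).prod =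
      Z ((fun _ => 0 : ℕ → ZMod D.p) (pidx i j)) * ((D.rhsW i j).map G₁).prod := by
    intro i hi j hj
    rw [Data.Z_zero D Z hZ, one_mul]
    exact Data.exists_corrected D G₀ Z tv hZ hZc hrel₀ ht hZinj hcob hconj₀ i hi j hj
  have hσ₁ : ∀ i, σ (G₁ i) = g i := fun i => by rw [map_mul, hZk, one_mul]; exact hL _
  have hσs : ∀ q, σ (D.s G₁ q) = D.s g q := fun q => hσprod G₁ g hσ₁ _
  have hpp : ∀ k, 0 < D.p ^ k := fun k => pow_pos hp.pos k
  let C₀ : Submonoid Γ :=
    { carrier := {x | ∃ q < D.p ^ D.n, x = D.s G₁ q}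
      one_mem' := ⟨0, hpp _, (Data.s_zero D G₁).symm⟩
      mul_mem' := by
        rintro _ _ ⟨a, -, rfl⟩ ⟨q, hq, rfl⟩
        obtain ⟨h1, h2⟩ := Data.mul_spec D G₁ Z (fun _ => 0) hZ hZc hrel₁ ht a hq
        refine ⟨_, h2, ?_⟩
        rwa [show D.dot (fun _ => (0 : ZMod D.p)) (D.lw (D.bits a) q).1 = 0 by simp [Data.dot],
          Data.Z_zero D Z hZ, one_mul] at h1 }
  let C : Subgroup Γ :=
    { C₀ with
      inv_mem' := fun {x} hx => by
        have : x⁻¹ ∈ Submonoid.powers x := by
          rw [mem_powers_iff_mem_zpowers]; exact inv_mem (mem_zpowers x)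
        exact (Submonoid.powers_le.2 hx : Submonoid.powers x ≤ C₀) this }
  have hCker : ∀ x ∈ C, σ x = 1 → x = 1 := by
    rintro _ ⟨q, hq, rfl⟩ hx
    rw [hσs] at hx
    rw [hinj q hq 0 (hpp _) (hx.trans (Data.s_zero D g).symm), Data.s_zero]
  have hPcard : Nat.card (C.map σ) = D.p ^ D.n := by
    let f : Fin (D.p ^ D.n) → C.map σ := fun q =>
      ⟨D.s g q, ⟨_, ⟨q, q.2, rfl⟩, hσs q⟩⟩
    rw [← Nat.card_fin (D.p ^ D.n)]
    refine (Nat.card_eq_of_bijective f ⟨fun a q h => Fin.ext (hinj a a.2 q q.2 (congrArg Subtype.val h)),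
      ?_⟩).symm
    rintro ⟨_, _, ⟨q, hq, rfl⟩, rfl⟩
    exact ⟨⟨q, hq⟩, Subtype.ext (hσs q).symm⟩
  have hndvd : ¬ D.p ∣ (C.map σ).index := fun hd => hidx (by
    rw [← (C.map σ).card_mul_index, hPcard, pow_succ]
    exact Nat.mul_dvd_mul_left _ hd)
  have hmem := Fusion.mem_commutator_comap hσ z.2 hp (by rw [← hz]; exact pow_orderOf_eq_one _)
    (C.map σ) hndvd
  have hle : ⁅(C.map σ).comap σ, (C.map σ).comap σ⁆ ≤ C := by
    rw [commutator_le]
    intro x hx y hy
    obtain ⟨c, hc, hcx⟩ := hx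
    obtain ⟨d, hd, hdy⟩ := hy
    rw [Fusion.commutator_congr hσ.2.1 hcx.symm hdy.symm, commutatorElement_def]
    exact C.mul_mem (C.mul_mem (C.mul_mem hc hd) (C.inv_mem hc)) (C.inv_mem hd)
  exact hzne (hCker _ (hle hmem) z.2)

end Cfsg.Agent.Lib.Schur.PcTailsP
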