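import Cfsg.Agent.Lib.Schur.PermMult

/-!
# Permutations of 48 indices with two blocks, and the projection to the second block
-/

set_option autoImplicit false

namespace Cfsg.Agent.Lib.Schur.SplitPerm

open Cfsg
open Cfsg.Agent.Lib.Computation
open Cfsg.Agent.Lib.Golay (gperm okCode indexHom)

/-- Side by side. -/
noncomputable def blockEmb : Equiv.Perm (Fin 24) × Equiv.Perm (Fin 24) →* Equiv.Perm (Fin 48) :=
  (finSumFinEquiv (m := 24) (n := 24)).permCongrHom.toMonoidHom.comp
    (Equiv.Perm.sumCongrHom (Fin 24) (Fin 24))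

theorem blockEmb_injective : Function.Injective blockEmb :=
  (finSumFinEquiv (m := 24) (n := 24)).permCongrHom.injective.comp Equiv.Perm.sumCongrHom_injective

/-- A code has the two given blocks. -/
def blockOk (c a b : ℕ) : Bool :=
  okPerm 48 6 c && okPerm 24 5 a && okPerm 24 5 b && (List.range 24).all fun x =>
    Nat.beq (getW 6 c x) (getW 5 a x) && Nat.beq (getW 6 c (24 + x)) (24 + getW 5 b x)

theorem decodeP_block {c a b : ℕ} (h : blockOk c a b = true) :
    decodeP 48 6 c = blockEmb (decodeP 24 5 a, decodeP 24 5 b) := by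
  simp only [blockOk, Bool.and_eq_true, List.all_eq_true, List.mem_range, Nat.beq_eq] at h
  obtain ⟨⟨⟨hc, ha⟩, hb⟩, hx⟩ := h
  refine Equiv.ext fun i => ?_
  obtain ⟨s, rfl⟩ := (finSumFinEquiv (m := 24) (n := 24)).surjective i
  refine Fin.ext ?_
  rw [decodeP_apply hc]
  show getW 6 c _ = ((finSumFinEquiv.permCongr (Equiv.sumCongr _ _)) (finSumFinEquiv s) : Fin 48).val
  rw [Equiv.permCongr_apply, Equiv.symm_apply_apply]
  rcases s with j | j <;> simp only [Equiv.sumCongr_apply, Sum.map_inl, Sum.map_inr,
    finSumFinEquiv_apply_left, finSumFinEquiv_apply_right, Fin.val_castAdd, Fin.val_natAdd]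
  · rw [(hx j j.isLt).1, decodeP_apply ha]
  · rw [(hx j j.isLt).2, decodeP_apply hb]

/-- Projection to the second block, on the range. -/
noncomputable def proj : blockEmb.range →* Equiv.Perm Cfsg.GolayPt :=
  (indexHom.toMonoidHom.comp (MonoidHom.snd _ _)).comp
    (MonoidHom.ofInjective blockEmb_injective).symm.toMonoidHom

theorem proj_of_block {c a b : ℕ} (h : blockOk c a b = true) (g : blockEmb.range)
    (hg : (g : Equiv.Perm (Fin 48)) = decodeP 48 6 c) : proj g = gperm b := by
  have hgg : g = MonoidHom.ofInjective blockEmb_injective (decodeP 24 5 a, decodeP 24 5 b) :=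
    Subtype.ext (hg.trans (decodeP_block h))
  show indexHom ((MonoidHom.ofInjective blockEmb_injective).symm g).2 = _
  rw [hgg, MulEquiv.symm_apply_apply]
  rfl

end Cfsg.Agent.Lib.Schur.SplitPerm
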