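import Cfsg.Agent.Lib.Schur.PermMult

/-!
# An elementary group of order the square of an odd prime whose generators some element interchanges
-/

set_option autoImplicit false

namespace Cfsg.Agent.Lib.Schur.SwapPart

open Cfsg
open Cfsg.Agent.Lib.Computation
open Cfsg.Agent.Lib.Schur.PermMult

variable {n w : ℕ} [NeZero n] {hw : n ≤ 2 ^ w} {ch : List (Computation.Level ℕ)}

theorem exists_swap (hc : (permRep n w hw).checkChain ch = true) {q a b m : ℕ} (hq : Odd q)
    (hok : (memC hw ch a && memC hw ch b && memC hw ch m && Nat.beq (mulP n w a b) (mulP n w b a) &&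
      Nat.beq (ppow n w b q) (pone n w) && Nat.beq (mulP n w m a) (mulP n w b m) &&
      Nat.beq (mulP n w m b) (mulP n w a m)) = true)
    {gens : List ℕ} (hgens : gens = [a, b]) {steps : List (Computation.Step ℕ)}
    {sub : List (Computation.Level ℕ)}
    (hs : (permRep n w hw).checkClosure gens steps sub = true)
    (hsub : (permRep n w hw).order sub = q ^ 2)
    (hidx : ¬ q ^ 3 ∣ Nat.card ((permRep n w hw).grp ch)) :
    ∃ P : Subgroup ((permRep n w hw).grp ch), ¬ q ∣ P.index ∧ Fusion.KillsPart q P := by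
  simp only [Bool.and_eq_true] at hok
  obtain ⟨⟨⟨⟨⟨⟨ha, hb⟩, hm⟩, hab⟩, hbq⟩, hma⟩, hmb⟩ := hok
  have ia := el_has hc ha
  have ib := el_has hc hb
  have im := el_has hc hm
  refine ⟨Subgroup.closure {el hc ha, el hc hb}, fun hd => hidx ?_,
    Fusion.killsPart_of_swap q _ (el hc ha) (el hc hb) (el hc hm) hq le_rfl
      ((ia.mul ib).eq (ib.mul ia) hab) ((ib.pow q).eq hasOne hbq)
      (mul_inv_eq_iff_eq_mul.2 ((im.mul ia).eq (ib.mul im) hma))
      (mul_inv_eq_iff_eq_mul.2 ((im.mul ib).eq (ia.mul im) hmb))⟩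
  rw [← (Subgroup.closure {el hc ha, el hc hb}).card_mul_index,
    card_closure_eq hc ha hb hgens hs, hsub, pow_succ]
  exact Nat.mul_dvd_mul_left _ hd

end Cfsg.Agent.Lib.Schur.SwapPart
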