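import Cfsg.Agent.Lib.Schur.PermMult

/-!
# The wreath product of two groups of order three kills the three-part of the multiplier

Here some element of the group inverts one base generator and fixes the next one.
-/

set_option autoImplicit false

namespace Cfsg.Agent.Lib.Schur.WreathThree

open Cfsg
open Cfsg.Agent.Lib.Computation
open Cfsg.Agent.Lib.Schur.PermMult
open scoped commutatorElement

theorem killsPart_wreath {G : Type*} [Group G] (x y u t m : G)
    (hx : x ^ 3 = 1) (ht : t ^ 3 = 1) (hxy : Commute x y)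
    (htx : t * x * t⁻¹ = y) (hty : t * y * t⁻¹ = u) (hmx : m * x * m⁻¹ = x ^ 2) (hmy : m * y * m⁻¹ = y)
    (hind : ∀ i < 3, ∀ j < 3, (y * x ^ 2) ^ i * (u * y ^ 2) ^ j = 1 → i = 0 ∧ j = 0) :
    Fusion.KillsPart 3 (Subgroup.closure {x, t}) := by
  intro Γ _ _ σ hσ z hz _ hzc
  have hk := hσ.2.1
  obtain ⟨A, rfl⟩ := hσ.1 x
  obtain ⟨T, rfl⟩ := hσ.1 t
  obtain ⟨M, rfl⟩ := hσ.1 m
  obtain ⟨B, hB⟩ : ∃ B, B = T * A * T⁻¹ := ⟨_, rfl⟩
  obtain ⟨C, hC⟩ : ∃ C, C = T * B * T⁻¹ := ⟨_, rfl⟩
  have hσB : σ B = y := by rw [hB, map_mul, map_mul, map_inv, htx]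
  have hσC : σ C = u := by rw [hC, map_mul, map_mul, map_inv, hσB, hty]
  subst hσB hσC
  have hab : ⁅A, B⁆ = 1 := by
    have h := Fusion.commutator_conj hk (a := A) (b := B) (a' := A ^ 2) (b' := B) (n := M) hxy
      (by rw [map_pow, hmx]) hmy.symm
    rw [← commutatorElement_inv B (A ^ 2), Fusion.commutator_pow_right hk hxy.symm, ← inv_pow,
      commutatorElement_inv, pow_two, mul_eq_left] at h
    exact h
  have hAB : A * B = B * A := commutatorElement_eq_one_iff_mul_comm.1 hab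
  have hBC : B * C = C * B := by
    calc B * C = T * (A * B) * T⁻¹ := by rw [hC, hB]; group
      _ = T * (B * A) * T⁻¹ := by rw [hAB]
      _ = C * B := by rw [hC, hB]; group
  have hT3 : T ^ 3 ∈ Subgroup.center Γ := hk (by rw [MonoidHom.mem_ker, map_pow, ht])
  have hA3 : A ^ 3 ∈ Subgroup.center Γ := hk (by rw [MonoidHom.mem_ker, map_pow, hx])
  have hTC : T * C * T⁻¹ = A := by
    calc T * C * T⁻¹ = T ^ 3 * A * (T ^ 3)⁻¹ := by
          rw [hC, hB, pow_succ, pow_succ, pow_one]; simp only [mul_inv_rev, mul_assoc]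
      _ = A := by rw [← Subgroup.mem_center_iff.1 hT3 A, mul_inv_cancel_right]
  have hCA : C * A = A * C := by
    calc C * A = T * (B * C) * T⁻¹ := by rw [← hTC, hC]; group
      _ = T * (C * B) * T⁻¹ := by rw [hBC]
      _ = A * C := by rw [← hTC, hC]; group
  have hAB' : Commute A B := hAB
  have hBC' : Commute B C := hBC
  have hCA' : Commute C A := hCA
  obtain ⟨p, hp⟩ : ∃ p, p = B * A⁻¹ := ⟨_, rfl⟩
  obtain ⟨q, hq⟩ : ∃ q, q = C * B⁻¹ := ⟨_, rfl⟩
  have hpq : Commute p q := by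
    rw [hp, hq]
    exact (Commute.mul_right hBC' ((Commute.refl B).inv_right)).mul_left
      ((hCA'.symm.mul_right hAB'.inv_right).inv_left)
  have hpA : Commute A p := by rw [hp]; exact hAB'.mul_right ((Commute.refl A).inv_right)
  have hqA : Commute A q := by rw [hq]; exact hCA'.symm.mul_right hAB'.inv_right
  have hTp : T * p * T⁻¹ = q := by rw [hp, hq, hC, hB]; group
  have hTq : T * q * T⁻¹ = p⁻¹ * q⁻¹ := by
    have h1 : T * q * T⁻¹ = A * C⁻¹ := by
      calc T * q * T⁻¹ = (T * C * T⁻¹) * (T * B * T⁻¹)⁻¹ := by rw [hq]; group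
        _ = A * C⁻¹ := by rw [hTC, ← hC]
    rw [h1, hp, hq]
    group
  set K : Subgroup Γ := Subgroup.closure {p, q}
  have hle : (Subgroup.closure {σ A, σ T}).comap σ ≤ Subgroup.closure ({A, T} ∪ (σ.ker : Set Γ)) := by
    rw [Subgroup.closure_union, Subgroup.closure_eq]
    intro g hg
    have h1 : σ g ∈ (Subgroup.closure ({A, T} : Set Γ)).map σ := by
      rw [MonoidHom.map_closure, Set.image_pair]; exact hg
    rwa [← Subgroup.mem_comap, Subgroup.comap_map_eq] at h1
  have hpK : p ∈ K := Subgroup.subset_closure (by simp)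
  have hqK : q ∈ K := Subgroup.subset_closure (by simp)
  have hK : ⁅Subgroup.closure ({A, T} ∪ (σ.ker : Set Γ)), Subgroup.closure ({A, T} ∪ (σ.ker : Set Γ))⁆ ≤
      K := by
    refine Fusion.commutator_closure_le _ _ ?_ ?_
    · intro s hs k hk'
      induction hk' using Subgroup.closure_induction with
      | mem g hg =>
        rcases hs with (rfl | rfl) | hs
        · rcases hg with rfl | rfl
          · rw [hpA.eq, mul_inv_cancel_right]; exact hpK
          · rw [hqA.eq, mul_inv_cancel_right]; exact hqK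
        · rcases hg with rfl | rfl
          · rw [hTp]; exact hqK
          · rw [hTq]; exact mul_mem (inv_mem hpK) (inv_mem hqK)
        · rw [← Subgroup.mem_center_iff.1 (hk hs) g, mul_inv_cancel_right]
          exact Subgroup.subset_closure hg
      | one => simp
      | mul a b _ _ iha ihb => simpa [mul_assoc] using mul_mem iha ihb
      | inv a _ iha => simpa [mul_assoc] using inv_mem iha
    · have hk' : ∀ s ∈ σ.ker, ∀ t : Γ, ⁅s, t⁆ = 1 ∧ ⁅t, s⁆ = 1 := fun s hs t =>
        ⟨commutatorElement_eq_one_iff_mul_comm.2 (Subgroup.mem_center_iff.1 (hk hs) t).symm,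
          commutatorElement_eq_one_iff_mul_comm.2 (Subgroup.mem_center_iff.1 (hk hs) t)⟩
      intro s hs t ht
      rcases hs with hs | hs
      · rcases ht with ht | ht
        · have hTA : ⁅T, A⁆ = p := by rw [commutatorElement_def, hp, hB]
          rcases hs with rfl | rfl <;> rcases ht with rfl | rfl
          · simp
          · rw [← commutatorElement_inv, hTA]; exact inv_mem hpK
          · rw [hTA]; exact hpK
          · simp
        · rw [(hk' t ht s).2]; exact one_mem _
      · rw [(hk' s hs t).1]; exact one_mem _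
  have hform : ∀ g ∈ K, ∃ i j : ℤ, g = p ^ i * q ^ j := by
    intro g hg
    induction hg using Subgroup.closure_induction with
    | mem g hg =>
      rcases hg with rfl | rfl
      · exact ⟨1, 0, by simp⟩
      · exact ⟨0, 1, by simp⟩
    | one => exact ⟨0, 0, by simp⟩
    | mul a b _ _ iha ihb =>
      obtain ⟨i, j, rfl⟩ := iha
      obtain ⟨i', j', rfl⟩ := ihb
      exact ⟨i + i', j + j', by
        rw [zpow_add, zpow_add, (hpq.symm.zpow_zpow j i').mul_mul_mul_comm]⟩
    | inv a _ iha =>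
      obtain ⟨i, j, rfl⟩ := iha
      exact ⟨-i, -j, by rw [mul_inv_rev, ← zpow_neg, ← zpow_neg, (hpq.symm.zpow_zpow _ _).eq]⟩
  obtain ⟨i, j, rfl⟩ := hform z (hK (Subgroup.commutator_mono hle hle hzc))
  have hp3 : p ^ 3 = 1 := by
    rw [hp, (hAB'.symm.inv_right).mul_pow, hB, conj_pow, Subgroup.mem_center_iff.1 hA3 T,
      mul_inv_cancel_right, inv_pow, mul_inv_cancel]
  have hq3 : q ^ 3 = 1 := by rw [← hTp, conj_pow, hp3, mul_one, mul_inv_cancel]
  have h3 : ∀ (g : Γ), g ^ 3 = 1 → ∀ k : ℤ, g ^ k = g ^ ((k % 3).toNat) := by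
    intro g hg k
    rw [← zpow_natCast, Int.toNat_of_nonneg (Int.emod_nonneg _ (by norm_num))]
    refine zpow_eq_zpow_iff_modEq.2 ?_
    exact Int.ModEq.of_dvd (Int.natCast_dvd_natCast.2 (orderOf_dvd_of_pow_eq_one hg))
      (Int.mod_modEq k 3).symm
  rw [h3 p hp3, h3 q hq3] at hz ⊢
  have hsx : (σ A)⁻¹ = σ A ^ 2 := inv_eq_of_mul_eq_one_right (by rw [← pow_succ']; exact hx)
  have hy : σ B ^ 3 = 1 := by rw [← htx, conj_pow, hx, mul_one, mul_inv_cancel]
  have hsy : (σ B)⁻¹ = σ B ^ 2 := inv_eq_of_mul_eq_one_right (by rw [← pow_succ']; exact hy)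
  rw [MonoidHom.mem_ker, map_mul, map_pow, map_pow, hp, hq, map_mul, map_mul, map_inv, map_inv,
    hsx, hsy] at hz
  obtain ⟨e1, e2⟩ := hind _ (by omega) _ (by omega) hz
  rw [e1, e2, pow_zero, pow_zero, one_mul]

variable {n w : ℕ} [NeZero n] {hw : n ≤ 2 ^ w} {ch : List (Computation.Level ℕ)}

/-- The code of `(y x²)^i (u y²)^j`. -/
def comb (n w x y u i j : ℕ) : ℕ :=
  mulP n w (ppow n w (mulP n w y (ppow n w x 2)) i) (ppow n w (mulP n w u (ppow n w y 2)) j)

theorem exists_three_wreath (hc : (permRep n w hw).checkChain ch = true) {x y u t m : ℕ}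
    (hok : (memC hw ch x && memC hw ch y && memC hw ch u && memC hw ch t && memC hw ch m &&
      Nat.beq (ppow n w x 3) (pone n w) && Nat.beq (ppow n w t 3) (pone n w) &&
      Nat.beq (mulP n w x y) (mulP n w y x) && Nat.beq (mulP n w t x) (mulP n w y t) &&
      Nat.beq (mulP n w t y) (mulP n w u t) && Nat.beq (mulP n w m x) (mulP n w (ppow n w x 2) m) &&
      Nat.beq (mulP n w m y) (mulP n w y m) &&
      (List.range 9).all fun k => Nat.beq k 0 || pNotOne n w (comb n w x y u (k / 3) (k % 3))) = true)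
    {gens : List ℕ} (hgens : gens = [x, t]) {steps : List (Computation.Step ℕ)}
    {sub : List (Computation.Level ℕ)}
    (hs : (permRep n w hw).checkClosure gens steps sub = true)
    (h81 : (permRep n w hw).order sub = 81) (hidx : ¬ 243 ∣ Nat.card ((permRep n w hw).grp ch)) :
    ∃ P : Subgroup ((permRep n w hw).grp ch), ¬ 3 ∣ P.index ∧ Fusion.KillsPart 3 P := by
  simp only [Bool.and_eq_true, List.all_eq_true, List.mem_range, Bool.or_eq_true] at hok
  obtain ⟨⟨⟨⟨⟨⟨⟨⟨⟨⟨⟨⟨hx, hy⟩, hu⟩, ht⟩, hm⟩, hx3⟩, ht3⟩, hxy⟩, htx⟩, hty⟩, hmx⟩, hmy⟩, hind⟩ := hok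
  have ix := el_has hc hx
  have iy := el_has hc hy
  have iu := el_has hc hu
  have it := el_has hc ht
  have im := el_has hc hm
  refine ⟨Subgroup.closure {el hc hx, el hc ht}, fun hd => hidx ?_,
    killsPart_wreath _ (el hc hy) (el hc hu) _ (el hc hm) ((ix.pow 3).eq hasOne hx3)
      ((it.pow 3).eq hasOne ht3) ((ix.mul iy).eq (iy.mul ix) hxy)
      (mul_inv_eq_iff_eq_mul.2 ((it.mul ix).eq (iy.mul it) htx))
      (mul_inv_eq_iff_eq_mul.2 ((it.mul iy).eq (iu.mul it) hty))
      (mul_inv_eq_iff_eq_mul.2 ((im.mul ix).eq ((ix.pow 2).mul im) hmx))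
      (mul_inv_eq_iff_eq_mul.2 ((im.mul iy).eq (iy.mul im) hmy)) fun i hi j hj he => ?_⟩
  · rw [← (Subgroup.closure {el hc hx, el hc ht}).card_mul_index,
      card_closure_eq hc hx ht hgens hs, h81]
    exact Nat.mul_dvd_mul_left 81 hd
  · by_contra hne
    rcases hind (i * 3 + j) (by omega) with h | h
    · exact hne (by have := Nat.eq_of_beq_eq_true h; omega)
    · rw [show (i * 3 + j) / 3 = i by omega, show (i * 3 + j) % 3 = j by omega] at h
      exact (((iy.mul (ix.pow 2)).pow i).mul ((iu.mul (iy.pow 2)).pow j)).ne_one h he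

end Cfsg.Agent.Lib.Schur.WreathThree
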